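import Groth.Agent.SitesTopoi.Topos.QS
import Mathlib.CategoryTheory.Sites.LeftExact
import Mathlib.CategoryTheory.Sites.Types
import Mathlib.CategoryTheory.Limits.Preserves.Shapes.Pullbacks

/-!
Sheaves associated to representable presheaves: quasi-compactness and coherence.
-/

universe w u

open CategoryTheory CategoryTheory.Limits Opposite ToposFin

namespace Groth.SitesTopoi.Topos

variable {C : Type u} [SmallCategory C] {J : GrothendieckTopology C}

lemma covers_eps_of_mem {ι : Type w} {F : ι → Tp J} {X : C} {π : ∀ i, F i ⟶ epsObj (J := J) X}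
    (h : coverSieve π (epsSec (J := J) (𝟙 X)) ∈ J X) : Covers π := by
  intro U s
  obtain ⟨S, hS, hrep⟩ := exists_local_epsSec s
  refine J.transitive hS _ fun W g hg => ?_
  obtain ⟨k, hk⟩ := hrep g hg
  refine J.superset_covering ?_ (J.pullback_stable k h)
  rintro V g' ⟨i, t, ht⟩
  refine ⟨i, t, ?_⟩
  rw [ht, ← rs_rs, ← rs_rs, hk, rs_epsSec, rs_epsSec, rs_epsSec, Category.comp_id]

lemma covers_epsMap {ι : Type w} {X : C} {V : ι → C} {g : ∀ i, V i ⟶ X} (h : Sieve.ofArrows V g ∈ J X) :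
    Covers (fun i => epsMap (J := J) (g i)) := by
  refine covers_eps_of_mem (J.superset_covering ?_ h)
  intro W k hk
  obtain ⟨i, l, rfl⟩ := Sieve.mem_ofArrows_iff V g k |>.1 hk
  refine ⟨i, epsSec l, ?_⟩
  rw [ap_epsMap, rs_epsSec, Category.comp_id]

lemma ofArrows_mem_of_covers_epsMap {ι : Type w} {X : C} {V : ι → C} {g : ∀ i, V i ⟶ X}
    (h : Covers (fun i => epsMap (J := J) (g i))) : Sieve.ofArrows V g ∈ J X := by
  refine J.transitive (h X (epsSec (𝟙 X))) _ ?_
  rintro W k ⟨i, r, hr⟩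
  obtain ⟨S, hS, hrep⟩ := exists_local_epsSec r
  refine J.transitive hS _ fun W' k' hk' => ?_
  obtain ⟨l, hl⟩ := hrep k' hk'
  have e : epsSec (J := J) (l ≫ g i) = epsSec (k' ≫ k) := by
    rw [← ap_epsMap, ← hl, ap_rs, hr, rs_rs, rs_epsSec, Category.comp_id]
  obtain ⟨T, hT, hTe⟩ := epsSec_eq e
  refine J.superset_covering ?_ hT
  intro W'' k'' hk''
  simp only [Sieve.pullback_apply]
  rw [Category.assoc, ← hTe k'' hk'']
  exact (Sieve.mem_ofArrows_iff V g _).2 ⟨i, k'' ≫ l, (Category.assoc _ _ _).symm⟩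

lemma isQC_eps_iff (X : C) : IsQCSite J X ↔ IsQC (epsObj (J := J) X) := by
  classical
  constructor
  · intro hX
    rw [isQC_iff]
    intro ι F π hπ
    obtain ⟨n, V, g, hg, hgc⟩ := hX _ (hπ X (epsSec (𝟙 X)))
    choose i r hr using hg
    refine ⟨Finset.univ.image i, covers_eps_of_mem (J.superset_covering ?_ hgc)⟩
    intro W k hk
    obtain ⟨a, l, rfl⟩ := Sieve.mem_ofArrows_iff V g k |>.1 hk
    exact ⟨⟨i a, Finset.mem_image_of_mem i (Finset.mem_univ a)⟩, rs (F (i a)) l (r a),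
      by rw [ap_rs, hr, rs_rs]⟩
  · intro hX S hS
    let ι := Σ V : C, {g : V ⟶ X // S g}
    have hπ : Covers (fun p : ι => epsMap (J := J) p.2.1) :=
      covers_epsMap (J.superset_covering (fun W k hk => (Sieve.mem_ofArrows_iff _ _ k).2
        ⟨⟨W, k, hk⟩, 𝟙 W, (Category.id_comp k).symm⟩) hS)
    obtain ⟨s, hs⟩ := finite_subcover hX hπ
    refine ⟨s.card, fun k => ((s.equivFin.symm k : ι)).1, fun k => ((s.equivFin.symm k : ι)).2.1,
      fun k => ((s.equivFin.symm k : ι)).2.2, J.superset_covering ?_ (ofArrows_mem_of_covers_epsMap hs)⟩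
    intro W k hk
    obtain ⟨i, l, rfl⟩ := Sieve.mem_ofArrows_iff _ _ k |>.1 hk
    obtain ⟨a, rfl⟩ := s.equivFin.symm.surjective i
    exact (Sieve.mem_ofArrows_iff _ _ _).2 ⟨a, l, rfl⟩

lemma genBy_eps (J : GrothendieckTopology C) : GenBy J (fun K => ∃ U : C, K = epsObj U) := fun X =>
  ⟨Σ U : C, X.obj.obj (op U), fun p => epsObj p.1, fun p => epsLift p.2, fun p => ⟨p.1, rfl⟩, covers_epsLift X⟩

section QCSite

variable (hC : ∀ X : C, IsQCSite J X)
include hC

lemma isQC_of_genEps : ∀ K, (∃ U : C, K = epsObj (J := J) U) → IsQC K := by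
  rintro K ⟨U, rfl⟩
  exact (isQC_eps_iff U).1 (hC U)

/-- A morphism of representable sheaves is locally given by arrows of the site. -/
lemma exists_finite_refinement {U X : C} (s : epsObj (J := J) U ⟶ epsObj X) :
    ∃ (n : ℕ) (V : Fin n → C) (g : ∀ k, V k ⟶ U) (h : ∀ k, V k ⟶ X),
      Covers (fun k : ULift.{u} (Fin n) => epsMap (J := J) (g k.down)) ∧
        ∀ k, epsMap (g k) ≫ s = epsMap (h k) := by
  obtain ⟨S, hS, hrep⟩ := exists_local_epsSec (ap s (epsSec (𝟙 U)))
  obtain ⟨n, V, g, hg, hgc⟩ := hC U S hS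
  choose h hh using fun k => hrep (g k) (hg k)
  refine ⟨n, V, g, h, covers_epsMap (J.superset_covering ?_ hgc), fun k => eps_hom_ext ?_⟩
  · intro W k hk
    obtain ⟨a, l, rfl⟩ := Sieve.mem_ofArrows_iff V g k |>.1 hk
    exact (Sieve.mem_ofArrows_iff _ _ _).2 ⟨⟨a⟩, l, rfl⟩
  · rw [ap_comp, ap_epsMap, ap_epsMap, Category.id_comp, Category.id_comp, ← hh, ← ap_rs, rs_epsSec,
      Category.comp_id]

variable [HasPullbacks C]

lemma isQC_pullback_epsMap {U V X : C} (h : U ⟶ X) (h' : V ⟶ X) :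
    IsQC (pullback (epsMap (J := J) h) (epsMap h')) :=
  isQC_of_iso (((IsPullback.of_hasPullback h h').map yoneda).map (presheafToSheaf J (Type u))).isoPullback
    (isQC_of_genEps hC _ ⟨_, rfl⟩)

lemma isQCHom_epsMap {U X : C} (h : U ⟶ X) : IsQCHom (epsMap (J := J) h) := by
  refine (isQCHom_iff_gen (genBy_eps J) (isQC_of_genEps hC) _).2 ?_
  rintro _ ⟨V, rfl⟩ t
  obtain ⟨n, W, g, h', hc, he⟩ := exists_finite_refinement hC t
  refine isQC_of_finite_covers (hc.pullback_left (pullback.snd (epsMap h) t)) fun k => ?_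
  exact isQC_of_iso (pullbackLeftPullbackSndIso (epsMap h) t _).symm
    (isQC_of_iso (pullback.congrHom rfl (he k.down).symm) (isQC_pullback_epsMap hC h (h' k.down)))

lemma isQS_eps (X : C) : IsQS (epsObj (J := J) X) := by
  refine (isQS_iff_gen (genBy_eps J) (isQC_of_genEps hC)).2 ?_
  rintro _ ⟨U, rfl⟩ s
  obtain ⟨n, W, g, h, hc, he⟩ := exists_finite_refinement hC s
  exact isQCHom_of_cover_source hc fun k => (he k.down).symm ▸ isQCHom_epsMap hC (h k.down)

lemma isCoherent_eps (X : C) : IsCoherent (epsObj (J := J) X) :=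
  ⟨(isQC_eps_iff X).1 (hC X), isQS_eps hC X⟩

lemma isQSHom_epsMap {U X : C} (h : U ⟶ X) : IsQSHom (epsMap (J := J) h) := by
  let e := (((IsPullback.of_hasPullback h h).map yoneda).map (presheafToSheaf J (Type u))).isoPullback
  have hP : IsQS (pullback (epsMap (J := J) h) (epsMap h)) := isQS_of_iso e (isQS_eps hC _)
  exact isQCHom_of_isQC_of_isQS _ (isQC_of_genEps hC _ ⟨U, rfl⟩) hP

lemma isQSHom_eps {U X : C} (s : epsObj (J := J) U ⟶ epsObj X) : IsQSHom s := by
  obtain ⟨n, W, g, h, hc, he⟩ := exists_finite_refinement hC s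
  refine isQSHom_of_cover_qcHom (genBy_eps J) (isQC_of_genEps hC) hc (fun k => isQCHom_epsMap hC _) fun k => ?_
  rw [he k.down]
  exact isQSHom_epsMap hC _

lemma isQSHom_to_eps {G : Tp J} {X : C} (g : G ⟶ epsObj (J := J) X) (hG : IsQS G) : IsQSHom g :=
  isQSHom_of_cover_qs (genBy_eps J) (isQC_of_genEps hC) (covers_epsLift G)
    (fun p => isQC_of_genEps hC _ ⟨p.1, rfl⟩)
    (fun p q => isQS_of_isQSHom
      (isQSHom_of_isPullback (IsPullback.of_hasPullback _ _) (isQSHom_eps hC (epsLift p.2 ≫ g)))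
      (isQS_eps hC q.1)) hG

lemma isQS_pullback_over_eps {G H : Tp J} {X : C} (g : G ⟶ epsObj (J := J) X) (h : H ⟶ epsObj X)
    (hG : IsQS G) (hH : IsQS H) : IsQS (pullback g h) :=
  isQS_of_isQSHom (isQSHom_of_isPullback (IsPullback.of_hasPullback g h) (isQSHom_to_eps hC g hG)) hH

end QCSite

end Groth.SitesTopoi.Topos
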