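import Groth.Agent.SitesTopoi.Topos.QS

/-!
Quasi-separated objects and morphisms in an algebraic topos.
-/

universe w u

open CategoryTheory CategoryTheory.Limits Opposite ToposFin

namespace Groth.SitesTopoi.Topos

variable {C : Type u} [SmallCategory C] {J : GrothendieckTopology C}

lemma fork_sec_lift {P K L : Tp J} {a b : K ⟶ L} {e : P ⟶ K} {w : e ≫ a = e ≫ b}
    (hl : IsLimit (Fork.ofι e w)) {U : C} (r : K.obj.obj (op U)) (h : ap a r = ap b r) :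
    ∃ p : P.obj.obj (op U), ap e p = r := by
  have h' : epsLift r ≫ a = epsLift r ≫ b := eps_hom_ext (by rw [ap_comp, ap_comp, ap_epsLift, rs_id, h])
  refine ⟨ap (Fork.IsLimit.lift hl (epsLift r) h') (epsSec (𝟙 U)), ?_⟩
  rw [← ap_comp]
  have : Fork.IsLimit.lift hl (epsLift r) h' ≫ e = epsLift r := Fork.IsLimit.lift_ι hl
  rw [this, ap_epsLift, rs_id]

section Closed

variable {S : Set (Tp J)} (hqc : ∀ K ∈ S, IsQC K) (hgen : GenBy J (fun K => K ∈ S)) (hpb : ClosedUnderPullbacks S)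
include hqc hgen hpb

lemma isQS_of_mem {M : Tp J} (hM : M ∈ S) : IsQS M :=
  (isQS_iff_gen hgen hqc).2 fun K hK s => (isQCHom_iff_gen hgen hqc s).2 fun L hL t => by
    obtain ⟨P, p, q, hP, sq⟩ := hpb s t hK hL hM
    exact isQC_of_iso sq.isoPullback (hqc P hP)

lemma isQSHom_to_mem {X K : Tp J} (f : X ⟶ K) (hK : K ∈ S) (hX : IsQS X) : IsQSHom f := by
  obtain ⟨ι, L, π, hL, hπ⟩ := hgen X
  refine isQSHom_of_cover_qs hgen hqc hπ (fun i => hqc _ (hL i)) (fun i j => ?_) hX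
  obtain ⟨P, p, q, hP, sq⟩ := hpb (π i ≫ f) (π j ≫ f) (hL i) (hL j) hK
  exact isQS_of_iso sq.isoPullback (isQS_of_mem hqc hgen hpb hP)

lemma isQSHom_of_forall_pullback {X Y : Tp J} (f : X ⟶ Y)
    (h : ∀ (K : Tp J), K ∈ S → ∀ s : K ⟶ Y, IsQS (pullback f s)) : IsQSHom f := by
  obtain ⟨ι, L, π, hL, hπ⟩ := hgen Y
  exact isQSHom_of_locally_on_target hgen hqc hπ fun i =>
    isQSHom_to_mem hqc hgen hpb _ (hL i) (h _ (hL i) (π i))

lemma isQS_prod_of_mem (heq : ClosedUnderEqualizers S) {L L' : Tp J} (hL : L ∈ S) (hL' : L' ∈ S) :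
    IsQS (L ⨯ L') := by
  intro T₁ T₂ a b hT₁ hT₂
  obtain ⟨ι, _, K, π, hK, hπ⟩ := exists_finite_cover_of_isQC hgen
    (isQS_of_mem hqc hgen hpb hL _ _ (a ≫ prod.fst) (b ≫ prod.fst) hT₁ hT₂)
  have hex : ∀ k, ∃ (P : Tp J) (e : P ⟶ K k)
      (w : e ≫ π k ≫ pullback.fst _ _ ≫ a ≫ prod.snd = e ≫ π k ≫ pullback.snd _ _ ≫ b ≫ prod.snd),
      P ∈ S ∧ Nonempty (IsLimit (Fork.ofι e w)) := fun k => heq _ _ (hK k) hL'
  choose P e w hP hl using hex
  have hj : ∀ k, (e k ≫ π k ≫ pullback.fst _ _) ≫ a = (e k ≫ π k ≫ pullback.snd _ _) ≫ b := fun k => by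
    refine Limits.prod.hom_ext ?_ ?_
    · simp only [Category.assoc, pullback.condition]
    · simp only [Category.assoc]
      exact w k
  refine isQC_of_finite_covers (π := fun k => pullback.lift _ _ (hj k)) (fun U z => ?_) fun k => hqc _ (hP k)
  have sq := IsPullback.of_hasPullback a b
  have sq' := IsPullback.of_hasPullback (a ≫ prod.fst) (b ≫ prod.fst)
  have hz : ap a (ap (pullback.fst a b) z) = ap b (ap (pullback.snd a b) z) := by
    rw [← ap_comp, ← ap_comp, pullback.condition]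
  obtain ⟨m, hm₁, hm₂⟩ := pb_sec_lift sq' (ap (pullback.fst a b) z) (ap (pullback.snd a b) z)
    (by rw [ap_comp, ap_comp, hz])
  refine J.superset_covering ?_ (hπ U m)
  rintro V g ⟨k, r, hr⟩
  obtain ⟨p, hp⟩ := fork_sec_lift (hl k).some r (by
    simp only [ap_comp, hr, ap_rs, hm₁, hm₂, hz])
  refine ⟨k, p, pb_sec_ext sq ?_ ?_⟩
  · rw [← ap_comp, pullback.lift_fst, ap_comp, ap_comp, hp, hr, ap_rs, hm₁, ap_rs]
  · rw [← ap_comp, pullback.lift_snd, ap_comp, ap_comp, hp, hr, ap_rs, hm₂, ap_rs]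

lemma isQSHom_of_isQS_of_algebraic (heq : ClosedUnderEqualizers S) {X Y : Tp J} (f : X ⟶ Y) (hX : IsQS X) :
    IsQSHom f := by
  obtain ⟨ι, L, π, hL, hπ⟩ := hgen X
  exact isQSHom_of_cover_qs hgen hqc hπ (fun i => hqc _ (hL i))
    (fun i j => isQS_pullback_of_isQS_prod _ _ (isQS_prod_of_mem hqc hgen hpb heq (hL i) (hL j))) hX

end Closed

lemma isQS_iff_isQSHom_of_algebraic (hE : IsAlgebraic J) {X Y : Tp J} (f : X ⟶ Y) (hY : IsQS Y) :
    IsQS X ↔ IsQSHom f := by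
  obtain ⟨S, hqc, hgen, hpb, heq⟩ := hE
  exact ⟨isQSHom_of_isQS_of_algebraic hqc (genBy_of_isGenerating hgen) hpb heq f, fun h => isQS_of_isQSHom h hY⟩

lemma isCoherent_iff_isCohHom_of_algebraic (hE : IsAlgebraic J) {X Y : Tp J} (f : X ⟶ Y) (hY : IsCoherent Y) :
    IsCoherent X ↔ IsCohHom f :=
  ⟨fun h => ⟨isQCHom_of_isQC_of_isQS f h.1 hY.2, (isQS_iff_isQSHom_of_algebraic hE f hY.2).1 h.2⟩,
    fun h => ⟨isQC_of_iso (asIso (pullback.fst f (𝟙 Y))) (h.1 _ (𝟙 Y) hY.1), isQS_of_isQSHom h.2 hY.2⟩⟩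

lemma genBy_qc_of_algebraic (hE : IsAlgebraic J) : GenBy J IsQC := by
  obtain ⟨S, hqc, hgen, -, -⟩ := hE
  exact (genBy_of_isGenerating hgen).mono hqc

end Groth.SitesTopoi.Topos
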