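import Groth.Agent.SitesTopoi.Topos.QS
import Mathlib.CategoryTheory.Limits.Types.Filtered
import Mathlib.CategoryTheory.Filtered.Basic

/-!
Morphisms from quasi-compact and coherent objects into filtered colimits.
-/

universe w u

open CategoryTheory CategoryTheory.Limits Opposite ToposFin

namespace Groth.SitesTopoi.Topos

variable {C : Type u} [SmallCategory C] {J : GrothendieckTopology C}
  {I : Type u} [SmallCategory I] [IsFiltered I]

/-- Finitely many upward closed, nonempty conditions on the arrows out of an object of a filtered category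
can be satisfied simultaneously. -/
lemma exists_common_under {i : I} {κ : Type w} [Finite κ] {P : κ → ∀ ⦃j : I⦄, (i ⟶ j) → Prop}
    (hP : ∀ k ⦃j : I⦄ (r : i ⟶ j) ⦃l : I⦄ (p : j ⟶ l), P k r → P k (r ≫ p))
    (hne : ∀ k, ∃ (j : I) (r : i ⟶ j), P k r) : ∃ (j : I) (r : i ⟶ j), ∀ k, P k r := by
  classical
  have : Fintype κ := Fintype.ofFinite κ
  suffices ∀ s : Finset κ, ∃ (j : I) (r : i ⟶ j), ∀ k ∈ s, P k r by
    obtain ⟨j, r, h⟩ := this Finset.univ
    exact ⟨j, r, fun k => h k (Finset.mem_univ k)⟩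
  intro s
  induction s using Finset.induction with
  | empty => exact ⟨i, 𝟙 i, by simp⟩
  | insert a s _ ih =>
    obtain ⟨j, r, h⟩ := ih
    obtain ⟨j', r', h'⟩ := hne a
    obtain ⟨l, p, q, e⟩ := IsFiltered.span r r'
    refine ⟨l, r ≫ p, fun k hk => ?_⟩
    rcases Finset.mem_insert.1 hk with rfl | hk
    · rw [e]; exact hP k r' q h'
    · exact hP k r p (h k hk)

/-- Finitely many objects of a filtered category map to a common one. -/
lemma exists_common_target {κ : Type w} [Finite κ] (o : κ → I) : ∃ j : I, ∀ k, Nonempty (o k ⟶ j) := by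
  classical
  have : Fintype κ := Fintype.ofFinite κ
  suffices ∀ s : Finset κ, ∃ j : I, ∀ k ∈ s, Nonempty (o k ⟶ j) by
    obtain ⟨j, h⟩ := this Finset.univ
    exact ⟨j, fun k => h k (Finset.mem_univ k)⟩
  intro s
  induction s using Finset.induction with
  | empty => exact ⟨(IsFiltered.nonempty (C := I)).some, by simp⟩
  | insert a s _ ih =>
    obtain ⟨j, h⟩ := ih
    refine ⟨IsFiltered.max (o a) j, fun k hk => ?_⟩
    rcases Finset.mem_insert.1 hk with rfl | hk
    · exact ⟨IsFiltered.leftToMax _ _⟩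
    · exact (h k hk).map (· ≫ IsFiltered.rightToMax _ _)

variable {D : I ⥤ Tp J} {c : Cocone D}

/-- A quasi-compact object detects equality in a filtered colimit at some stage. -/
lemma exists_comp_eq_of_isQC (hc : IsColimit c) {X : Tp J} (hX : IsQC X) {k : I} (a b : X ⟶ D.obj k)
    (h : a ≫ c.ι.app k = b ≫ c.ι.app k) : ∃ (j : I) (r : k ⟶ j), a ≫ D.map r = b ≫ D.map r := by
  let ι := Σ j : I, (k ⟶ j)
  let π : ∀ p : ι, equalizer (a ≫ D.map p.2) (b ≫ D.map p.2) ⟶ X := fun p => equalizer.ι _ _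
  have hπ : Covers π := by
    intro U s
    obtain ⟨S, hS, hloc⟩ := exists_local_eq_of_isColimit hc (ap a s) (ap b s)
      (by rw [← ap_comp, ← ap_comp, h])
    refine J.superset_covering ?_ hS
    intro V g hg
    obtain ⟨l, p, q, e⟩ := hloc g hg
    obtain ⟨l', w, hw⟩ : ∃ (l' : I) (w : l ⟶ l'), p ≫ w = q ≫ w :=
      ⟨_, IsFiltered.coeqHom p q, IsFiltered.coeq_condition p q⟩
    have e' : ap (a ≫ D.map (p ≫ w)) (rs X g s) = ap (b ≫ D.map (p ≫ w)) (rs X g s) := by
      conv_rhs => rw [hw]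
      simp only [ap_comp, D.map_comp, ap_rs]
      simp only [ap_rs] at e
      rw [← ap_rs (D.map w), ← ap_rs (D.map w), e]
    have h' : epsLift (rs X g s) ≫ a ≫ D.map (p ≫ w) = epsLift (rs X g s) ≫ b ≫ D.map (p ≫ w) :=
      eps_hom_ext (by rw [ap_comp, ap_comp (epsLift _) (b ≫ _), ap_epsLift, rs_id, e'])
    refine ⟨⟨l', p ≫ w⟩, ap (equalizer.lift _ h') (epsSec (𝟙 V)), ?_⟩
    rw [← ap_comp, equalizer.lift_ι, ap_epsLift, rs_id]
  obtain ⟨s, hs⟩ := finite_subcover hX hπ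
  obtain ⟨j, r, hr⟩ := exists_common_under
    (P := fun (p : s) ⦃j : I⦄ (r : k ⟶ j) => π p ≫ a ≫ D.map r = π p ≫ b ≫ D.map r)
    (fun p j r l w e => by
      have e' := e =≫ D.map w
      simpa only [Category.assoc, ← D.map_comp] using e')
    (fun p => ⟨p.1.1, p.1.2, equalizer.condition _ _⟩)
  exact ⟨j, r, hs.ext hr⟩

lemma exists_comp_eq_of_isQC₂ (hc : IsColimit c) {X : Tp J} (hX : IsQC X) {i j : I} (a : X ⟶ D.obj i)
    (b : X ⟶ D.obj j) (h : a ≫ c.ι.app i = b ≫ c.ι.app j) :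
    ∃ (l : I) (p : i ⟶ l) (q : j ⟶ l), a ≫ D.map p = b ≫ D.map q := by
  obtain ⟨l, r, e⟩ := exists_comp_eq_of_isQC hc hX (a ≫ D.map (IsFiltered.leftToMax i j))
    (b ≫ D.map (IsFiltered.rightToMax i j)) (by rw [Category.assoc, Category.assoc, c.w, c.w, h])
  exact ⟨l, IsFiltered.leftToMax i j ≫ r, IsFiltered.rightToMax i j ≫ r, by
    simpa only [Category.assoc, ← D.map_comp] using e⟩

/-- A coherent object maps into a filtered colimit through a stage, if the topos has quasi-compact generators. -/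
lemma exists_factor_of_isCoherent {P : Tp J → Prop} (hgen : GenBy J P) (hP : ∀ K, P K → IsQC K)
    (hc : IsColimit c) {X : Tp J} (hX : IsCoherent X) (φ : X ⟶ c.pt) :
    ∃ (j : I) (ψ : X ⟶ D.obj j), ψ ≫ c.ι.app j = φ := by
  classical
  choose κ K π hK hπ using fun i => hgen (pullback φ (c.ι.app i))
  obtain ⟨s, hs⟩ := finite_subcover hX.1 (((covers_of_isColimit hc).pullback_left φ).comp π hπ)
  obtain ⟨i₀, hi₀⟩ := exists_common_target (fun p : s => p.1.1)
  obtain ⟨l, hl⟩ : ∃ l : ∀ p : s, K p.1.1 p.1.2 ⟶ D.obj i₀, ∀ p : s,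
      l p ≫ c.ι.app i₀ = (π p.1.1 p.1.2 ≫ pullback.fst φ (c.ι.app p.1.1)) ≫ φ :=
    ⟨fun p => π p.1.1 p.1.2 ≫ pullback.snd φ (c.ι.app p.1.1) ≫ D.map (hi₀ p).some, fun p => by
      simp only [Category.assoc, c.w, pullback.condition]⟩
  obtain ⟨j, r, hr⟩ := exists_common_under
    (P := fun (pq : s × s) ⦃j : I⦄ (r : i₀ ⟶ j) =>
      pullback.fst (π pq.1.1.1 pq.1.1.2 ≫ pullback.fst φ (c.ι.app pq.1.1.1))
          (π pq.2.1.1 pq.2.1.2 ≫ pullback.fst φ (c.ι.app pq.2.1.1)) ≫ l pq.1 ≫ D.map r =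
        pullback.snd _ _ ≫ l pq.2 ≫ D.map r)
    (fun pq j r l' w e => by
      have e' := e =≫ D.map w
      simpa only [Category.assoc, ← D.map_comp] using e')
    (fun pq => by
      obtain ⟨j, r, e⟩ := exists_comp_eq_of_isQC hc
        (hX.2 _ _ (π pq.1.1.1 pq.1.1.2 ≫ pullback.fst φ (c.ι.app pq.1.1.1))
          (π pq.2.1.1 pq.2.1.2 ≫ pullback.fst φ (c.ι.app pq.2.1.1)) (hP _ (hK _ _)) (hP _ (hK _ _)))
        (pullback.fst _ _ ≫ l pq.1) (pullback.snd _ _ ≫ l pq.2)
        (by rw [Category.assoc, Category.assoc, hl, hl, ← Category.assoc, pullback.condition, Category.assoc])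
      exact ⟨j, r, by simpa only [Category.assoc] using e⟩)
  obtain ⟨ψ, hψ⟩ := hs.glue (fun p => l p ≫ D.map r) (fun p q U a b e => by
    obtain ⟨z, hz₁, hz₂⟩ := pb_sec_lift (IsPullback.of_hasPullback _ _) a b e
    rw [← hz₁, ← hz₂, ← ap_comp, ← ap_comp, hr (p, q)])
  exact ⟨j, ψ, hs.ext fun p => by rw [← Category.assoc, hψ, Category.assoc, c.w, hl]⟩

end Groth.SitesTopoi.Topos
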