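import Groth.Agent.SitesTopoi.Topos.Covers
import Mathlib.CategoryTheory.EffectiveEpi.Basic
import Mathlib.CategoryTheory.Limits.VanKampen
import Mathlib.CategoryTheory.Limits.Shapes.DisjointCoproduct

/-!
Giraud's axioms in a topos of sheaves of sets on a small site.
-/

universe w u

open CategoryTheory CategoryTheory.Limits Opposite

namespace Groth.SitesTopoi.Topos

variable {C : Type u} [SmallCategory C] {J : GrothendieckTopology C}

lemma isIso_of_bijective {X Y : Tp J} (f : X ⟶ Y)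
    (h : ∀ U : C, Function.Bijective (fun s : X.obj.obj (op U) => ap f s)) : IsIso f := by
  have : ∀ U : Cᵒᵖ, IsIso (f.hom.app U) := fun U => (isIso_iff_bijective _).2 (h U.unop)
  have : IsIso ((sheafToPresheaf J (Type u)).map f) := NatIso.isIso_of_isIso_app f.hom
  exact isIso_of_fully_faithful (sheafToPresheaf J (Type u)) f

lemma mono_iff_injective {X Y : Tp J} (f : X ⟶ Y) :
    Mono f ↔ ∀ (U : C) (a b : X.obj.obj (op U)), ap f a = ap f b → a = b := by
  constructor
  · intro _ U a b e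
    have h : epsLift a ≫ f = epsLift b ≫ f := eps_hom_ext (by
      rw [ap_comp, ap_comp, ap_epsLift, ap_epsLift, rs_id, rs_id, e])
    have := congrArg (fun φ => ap φ (epsSec (J := J) (𝟙 U))) ((cancel_mono f).1 h)
    simpa only [ap_epsLift, rs_id] using this
  · intro h
    exact ⟨fun a b e => hom_ext_ap fun U s => h U _ _ (by rw [← ap_comp, ← ap_comp, e])⟩

/-- A disjoint covering family is a coproduct. -/
noncomputable def isColimitOfIsDisjointCover {ι : Type w} {F : Discrete ι ⥤ Tp J} {c : Cocone F}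
    (h : IsDisjointCover (fun i : ι => c.ι.app ⟨i⟩)) : IsColimit c :=
  have hglue : ∀ s : Cocone F, ∃ ψ : c.pt ⟶ s.pt, ∀ i : ι, c.ι.app ⟨i⟩ ≫ ψ = s.ι.app ⟨i⟩ := fun s =>
    h.covers.glue (fun i => s.ι.app ⟨i⟩) fun i j U a b e => by
      by_cases hij : i = j
      · subst hij
        rw [h.inj i U a b e]
      · exact eq_of_bot_mem s.pt (h.disj i j hij U a b e) _ _
  { desc := fun s => (hglue s).choose
    fac := fun s j => (hglue s).choose_spec j.as
    uniq := fun s m hm => h.covers.ext fun i => (hm ⟨i⟩).trans ((hglue s).choose_spec i).symm }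

lemma isEmptySheaf_pullback_of_isDisjointCover {ι : Type w} {F : ι → Tp J} {X : Tp J} {π : ∀ i, F i ⟶ X}
    (h : IsDisjointCover π) {i j : ι} (hij : i ≠ j) {P : Tp J} {p : P ⟶ F i} {q : P ⟶ F j}
    (w : p ≫ π i = q ≫ π j) : IsEmptySheaf P := fun U s =>
  h.disj i j hij U (ap p s) (ap q s) (by rw [← ap_comp, ← ap_comp, w])

lemma coproductDisjoint_of_isDisjointCover {ι : Type u} {F : ι → Tp J} {c : Cofan F} (hc : IsColimit c)
    (h : IsDisjointCover (fun i => c.inj i)) : CoproductDisjoint F := by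
  have : ∀ i, Mono (c.inj i) := h.mono
  exact .of_cofan hc (fun {i j} _ => pullback.cone (c.inj i) (c.inj j)) (fun {i j} _ => pullback.isLimit _ _)
    fun {i j} hij => (isEmptySheaf_pullback_of_isDisjointCover h hij pullback.condition).isInitial

lemma isUniversalColimit_of_isDisjointCover {ι : Type u} {F : Discrete ι ⥤ Tp J} {c : Cocone F}
    (h : IsDisjointCover (fun i : ι => c.ι.app ⟨i⟩)) : IsUniversalColimit c := fun _ _ _ _ _ _ sq =>
  ⟨isColimitOfIsDisjointCover (h.of_isPullback fun i => sq ⟨i⟩)⟩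

lemma effectiveEpi_of_covers {X Y : Tp J} (f : Y ⟶ X) (h : Covers (fun _ : PUnit.{u + 1} => f)) :
    EffectiveEpi f := by
  have key : ∀ {W : Tp J} (e : Y ⟶ W), (∀ {Z : Tp J} (g₁ g₂ : Z ⟶ Y), g₁ ≫ f = g₂ ≫ f → g₁ ≫ e = g₂ ≫ e) →
      ∃ ψ : X ⟶ W, f ≫ ψ = e := fun {W} e he => by
    obtain ⟨ψ, hψ⟩ := h.glue (fun _ => e) fun _ _ U a b hab => by
      have h' := he (epsLift a) (epsLift b) (eps_hom_ext (by
        rw [ap_comp, ap_comp, ap_epsLift, ap_epsLift, rs_id, rs_id]; exact hab))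
      have := congrArg (fun φ => ap φ (epsSec (J := J) (𝟙 U))) h'
      simpa only [ap_comp, ap_epsLift, rs_id] using this
    exact ⟨ψ, hψ PUnit.unit⟩
  exact ⟨⟨{
    desc := fun e he => (key e he).choose
    fac := fun e he => (key e he).choose_spec
    uniq := fun e he m hm => h.ext fun _ => hm.trans (key e he).choose_spec.symm }⟩⟩

section EquivRel

variable {R A : Tp J} (p₁ p₂ : R ⟶ A)

/-- The relation on sections given by a pair of maps. -/
def secRel (U : C) (a b : A.obj.obj (op U)) : Prop :=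
  ∃ r : R.obj.obj (op U), ap p₁ r = a ∧ ap p₂ r = b

variable {p₁ p₂}

lemma secRel_rs {U V : C} (g : V ⟶ U) {a b : A.obj.obj (op U)} (h : secRel p₁ p₂ U a b) :
    secRel p₁ p₂ V (rs A g a) (rs A g b) := by
  obtain ⟨r, h₁, h₂⟩ := h
  exact ⟨rs R g r, by rw [ap_rs, h₁], by rw [ap_rs, h₂]⟩

variable (hinj : ∀ T : Tp J, Function.Injective (fun f : T ⟶ R => (f ≫ p₁, f ≫ p₂)))
  (hrel : ∀ T : Tp J, Equivalence (fun a b : T ⟶ A => ∃ f : T ⟶ R, f ≫ p₁ = a ∧ f ≫ p₂ = b))

include hinj in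
lemma secRel_inj {U : C} {r r' : R.obj.obj (op U)} (h₁ : ap p₁ r = ap p₁ r') (h₂ : ap p₂ r = ap p₂ r') :
    r = r' := by
  have e : epsLift r = epsLift r' := hinj _ (Prod.ext
    (eps_hom_ext (by simp only [ap_comp, ap_epsLift, rs_id, h₁]))
    (eps_hom_ext (by simp only [ap_comp, ap_epsLift, rs_id, h₂])))
  have := congrArg (fun φ => ap φ (epsSec (J := J) (𝟙 U))) e
  simpa only [ap_epsLift, rs_id] using this

lemma secRel_iff_epsLift {U : C} {a b : A.obj.obj (op U)} :
    secRel p₁ p₂ U a b ↔ ∃ f : epsObj U ⟶ R, f ≫ p₁ = epsLift a ∧ f ≫ p₂ = epsLift b := by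
  constructor
  · rintro ⟨r, rfl, rfl⟩
    exact ⟨epsLift r, eps_hom_ext (by simp only [ap_comp, ap_epsLift, rs_id]),
      eps_hom_ext (by simp only [ap_comp, ap_epsLift, rs_id])⟩
  · rintro ⟨f, h₁, h₂⟩
    exact ⟨ap f (epsSec (𝟙 U)), by rw [← ap_comp, h₁, ap_epsLift, rs_id],
      by rw [← ap_comp, h₂, ap_epsLift, rs_id]⟩

include hrel in
lemma secRel_equivalence (U : C) : Equivalence (secRel p₁ p₂ U) where
  refl a := secRel_iff_epsLift.2 ((hrel _).refl _)
  symm h := secRel_iff_epsLift.2 ((hrel _).symm (secRel_iff_epsLift.1 h))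
  trans h h' := secRel_iff_epsLift.2 ((hrel _).trans (secRel_iff_epsLift.1 h) (secRel_iff_epsLift.1 h'))

include hinj in
lemma secRel_local {U : C} {S : Sieve U} (hS : S ∈ J U) {a b : A.obj.obj (op U)}
    (h : ∀ ⦃V : C⦄ (g : V ⟶ U), S g → secRel p₁ p₂ V (rs A g a) (rs A g b)) : secRel p₁ p₂ U a b := by
  choose r hr₁ hr₂ using h
  let x : Presieve.FamilyOfElements R.obj (S : Presieve U) := fun V g hg => r g hg
  have hx : x.Compatible := by
    intro V₁ V₂ W g₁ g₂ f₁ f₂ h₁ h₂ e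
    change rs R g₁ (r f₁ h₁) = rs R g₂ (r f₂ h₂)
    refine secRel_inj hinj ?_ ?_
    · rw [ap_rs, ap_rs, hr₁, hr₁, rs_rs, rs_rs, e]
    · rw [ap_rs, ap_rs, hr₂, hr₂, rs_rs, rs_rs, e]
  refine ⟨(isSheafFor hS).amalgamate x hx, sec_ext A hS fun V g hg => ?_, sec_ext A hS fun V g hg => ?_⟩
  · rw [← ap_rs]
    exact (congrArg (ap p₁) ((isSheafFor (X := R) hS).valid_glue hx g hg)).trans (hr₁ g hg)
  · rw [← ap_rs]
    exact (congrArg (ap p₂) ((isSheafFor (X := R) hS).valid_glue hx g hg)).trans (hr₂ g hg)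

/-- The presheaf of equivalence classes. -/
def quotPresheaf : Cᵒᵖ ⥤ Type u where
  obj U := Quotient (⟨secRel p₁ p₂ U.unop, secRel_equivalence hrel U.unop⟩ : Setoid (A.obj.obj U))
  map g := TypeCat.ofHom (Quotient.map' (fun a => A.obj.map g a) fun _ _ h => secRel_rs g.unop h)
  map_id U := by
    ext ⟨a⟩
    exact congrArg (Quot.mk _) (Functor.map_id_apply A.obj U a)
  map_comp f g := by
    ext ⟨a⟩
    exact congrArg (Quot.mk _) (Functor.map_comp_apply A.obj f g a)

include hinj hrel in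
lemma secRel_of_coequalizer {U : C} {a b : A.obj.obj (op U)}
    (e : ap (coequalizer.π p₁ p₂) a = ap (coequalizer.π p₁ p₂) b) : secRel p₁ p₂ U a b := by
  let q : A.obj ⟶ quotPresheaf hrel :=
    { app := fun V => TypeCat.ofHom fun x => Quotient.mk _ x
      naturality := fun V W g => by
        ext x
        rfl }
  let φ : A ⟶ (presheafToSheaf J (Type u)).obj (quotPresheaf hrel) := ⟨q ≫ toSheafify J _⟩
  have hφ : p₁ ≫ φ = p₂ ≫ φ := hom_ext_ap fun V r =>
    congrArg ((toSheafify J (quotPresheaf hrel)).app (op V)) (Quotient.sound ⟨r, rfl, rfl⟩)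
  have e' := congrArg (ap (coequalizer.desc φ hφ)) e
  rw [← ap_comp, ← ap_comp, coequalizer.π_desc] at e'
  refine secRel_local hinj
    (Presheaf.equalizerSieve_mem J (toSheafify J (quotPresheaf hrel)) (q.app (op U) a) (q.app (op U) b) e') ?_
  intro V g hg
  exact Quotient.exact (s := (⟨secRel p₁ p₂ V, secRel_equivalence hrel V⟩ : Setoid _)) hg

include hinj hrel in
lemma isPullback_coequalizer_of_equivRel :
    IsPullback p₁ p₂ (coequalizer.π p₁ p₂) (coequalizer.π p₁ p₂) := by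
  let m : R ⟶ pullback (coequalizer.π p₁ p₂) (coequalizer.π p₁ p₂) :=
    pullback.lift p₁ p₂ (coequalizer.condition p₁ p₂)
  have sq := IsPullback.of_hasPullback (coequalizer.π p₁ p₂) (coequalizer.π p₁ p₂)
  have hm₁ : ∀ {U : C} (r : R.obj.obj (op U)), ap (pullback.fst _ _) (ap m r) = ap p₁ r := fun r => by
    rw [← ap_comp, pullback.lift_fst]
  have hm₂ : ∀ {U : C} (r : R.obj.obj (op U)), ap (pullback.snd _ _) (ap m r) = ap p₂ r := fun r => by
    rw [← ap_comp, pullback.lift_snd]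
  have : IsIso m := isIso_of_bijective m fun U =>
    ⟨fun r r' h => secRel_inj hinj (by rw [← hm₁, ← hm₁]; exact congrArg _ h)
        (by rw [← hm₂, ← hm₂]; exact congrArg _ h),
      fun z => by
        obtain ⟨r, h₁, h₂⟩ := secRel_of_coequalizer hinj hrel (a := ap (pullback.fst _ _) z)
          (b := ap (pullback.snd _ _) z) (by rw [← ap_comp, ← ap_comp, pullback.condition])
        exact ⟨r, pb_sec_ext sq ((hm₁ r).trans h₁) ((hm₂ r).trans h₂)⟩⟩
  exact IsPullback.of_iso_pullback ⟨coequalizer.condition p₁ p₂⟩ (asIso m) (pullback.lift_fst _ _ _)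
    (pullback.lift_snd _ _ _)

include hrel in
lemma isPushout_coequalizer_of_equivRel :
    IsPushout p₁ p₂ (coequalizer.π p₁ p₂) (coequalizer.π p₁ p₂) := by
  obtain ⟨e, he₁, he₂⟩ := (hrel A).refl (𝟙 A)
  have key : ∀ {W : Tp J} (f g : A ⟶ W), p₁ ≫ f = p₂ ≫ g → f = g := fun f g h => by
    simpa only [reassoc_of% he₁, reassoc_of% he₂] using e ≫= h
  exact ⟨⟨coequalizer.condition p₁ p₂⟩, ⟨PushoutCocone.IsColimit.mk _
    (fun s => coequalizer.desc s.inl (by
      have h := key _ _ s.condition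
      exact s.condition.trans (by rw [h])))
    (fun s => coequalizer.π_desc _ _)
    (fun s => (coequalizer.π_desc _ _).trans (key _ _ s.condition))
    (fun s m h₁ _ => coequalizer.hom_ext (h₁.trans (coequalizer.π_desc _ _).symm))⟩⟩

end EquivRel

lemma covers_snd_of_coequalizer {R A : Tp J} (p₁ p₂ : R ⟶ A) {B : Tp J} (g : B ⟶ coequalizer p₁ p₂) :
    Covers (fun _ : PUnit.{u + 1} => pullback.snd (coequalizer.π p₁ p₂) g) :=
  ((covers_single_iff (coequalizer.π p₁ p₂)).2 inferInstance).of_isPullback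
    (q := fun _ => pullback.fst (coequalizer.π p₁ p₂) g) fun _ => (IsPullback.of_hasPullback _ _).flip

end Groth.SitesTopoi.Topos
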