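import Groth.Prelude.Def_SGA4a
import Groth.Agent.SitesTopoi.Topos.Giraud
import Mathlib.CategoryTheory.Comma.Over.Pullback
import Mathlib.CategoryTheory.Limits.Constructions.LimitsOfProductsAndEqualizers
import Mathlib.CategoryTheory.Limits.Preserves.Shapes.Pullbacks
import Mathlib.CategoryTheory.Limits.Preserves.Shapes.Terminal
import Mathlib.CategoryTheory.Adjunction.FullyFaithful

/-!
An open of a topos of sheaves and its closed complement.
-/

universe w u

open CategoryTheory CategoryTheory.Limits Opposite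

namespace Groth.SitesTopoi.Topos

variable {C : Type u} [SmallCategory C] {J : GrothendieckTopology C}

lemma prod_sec_ext {A B : Tp J} {V : C} {p q : (A ⨯ B).obj.obj (op V)}
    (h₁ : ap (prod.fst : A ⨯ B ⟶ A) p = ap (prod.fst : A ⨯ B ⟶ A) q)
    (h₂ : ap (prod.snd : A ⨯ B ⟶ B) p = ap (prod.snd : A ⨯ B ⟶ B) q) : p = q := by
  have e : epsLift p = epsLift q := Limits.prod.hom_ext
    (eps_hom_ext (by simp only [ap_comp, ap_epsLift, rs_id, h₁]))
    (eps_hom_ext (by simp only [ap_comp, ap_epsLift, rs_id, h₂]))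
  simpa only [ap_epsLift, rs_id] using congrArg (fun φ => ap φ (epsSec (J := J) (𝟙 V))) e

lemma prod_sec_lift {A B : Tp J} {V : C} (a : A.obj.obj (op V)) (b : B.obj.obj (op V)) :
    ∃ p : (A ⨯ B).obj.obj (op V), ap (prod.fst : A ⨯ B ⟶ A) p = a ∧ ap (prod.snd : A ⨯ B ⟶ B) p = b :=
  ⟨ap (prod.lift (epsLift a) (epsLift b)) (epsSec (𝟙 V)),
    by rw [← ap_comp, prod.lift_fst, ap_epsLift, rs_id], by rw [← ap_comp, prod.lift_snd, ap_epsLift, rs_id]⟩

lemma isTerminal_sec_subsingleton {T : Tp J} (hT : IsTerminal T) (V : C) (a b : T.obj.obj (op V)) : a = b := by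
  have := congrArg (fun φ => ap φ (epsSec (J := J) (𝟙 V))) (hT.hom_ext (epsLift a) (epsLift b))
  simpa only [ap_epsLift, rs_id] using this

lemma isPullback_of_sections {W X Y Z : Tp J} {f : W ⟶ X} {g : W ⟶ Y} {h : X ⟶ Z} {i : Y ⟶ Z}
    (w : f ≫ h = g ≫ i)
    (hinj : ∀ (V : C) (a b : W.obj.obj (op V)), ap f a = ap f b → ap g a = ap g b → a = b)
    (hsurj : ∀ (V : C) (x : X.obj.obj (op V)) (y : Y.obj.obj (op V)), ap h x = ap i y →
      ∃ S ∈ J V, ∀ ⦃V' : C⦄ (k : V' ⟶ V), S k → ∃ a : W.obj.obj (op V'), ap f a = rs X k x ∧ ap g a = rs Y k y) :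
    IsPullback f g h i := by
  let m : W ⟶ pullback h i := pullback.lift f g w
  have hf : ∀ {V : C} (a : W.obj.obj (op V)), ap (pullback.fst h i) (ap m a) = ap f a := fun a => by
    rw [← ap_comp, pullback.lift_fst]
  have hg : ∀ {V : C} (a : W.obj.obj (op V)), ap (pullback.snd h i) (ap m a) = ap g a := fun a => by
    rw [← ap_comp, pullback.lift_snd]
  have : Mono m := (mono_iff_injective m).2 fun V a b e =>
    hinj V a b (by rw [← hf, ← hf, e]) (by rw [← hg, ← hg, e])
  have : Epi m := (covers_single_iff m).1 fun V z => by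
    obtain ⟨S, hS, hloc⟩ := hsurj V (ap (pullback.fst h i) z) (ap (pullback.snd h i) z)
      (by rw [← ap_comp, ← ap_comp, pullback.condition])
    refine J.superset_covering (fun V' k hk => ?_) hS
    obtain ⟨a, h₁, h₂⟩ := hloc k hk
    exact ⟨PUnit.unit, a, pb_sec_ext (IsPullback.of_hasPullback h i)
      (by rw [hf, h₁, ap_rs]) (by rw [hg, h₂, ap_rs])⟩
  have : IsIso m := Balanced.isIso_of_mono_of_epi m
  exact IsPullback.of_iso_pullback ⟨w⟩ (asIso m) (pullback.lift_fst _ _ _) (pullback.lift_snd _ _ _)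

variable {U : Tp J}

lemma open_sec_subsingleton (hU : SGA4.IsOpen U) {V : C} (a b : U.obj.obj (op V)) : a = b :=
  have : Mono (terminal.from U) := hU
  (mono_iff_injective (terminal.from U)).1 inferInstance V a b (isTerminal_sec_subsingleton (T := ⊤_ Tp J) terminalIsTerminal V _ _)

lemma closedCompl_iff (hU : SGA4.IsOpen U) (X : Tp J) :
    SGA4.closedCompl U X ↔ ∀ (V : C), U.obj.obj (op V) → ∃! _x : X.obj.obj (op V), True := by
  constructor
  · intro h V u
    have h' : IsIso (prod.fst : U ⨯ X ⟶ U) := h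
    have hinj := (mono_iff_injective (prod.fst : U ⨯ X ⟶ U)).1 inferInstance
    refine ⟨ap (prod.snd : U ⨯ X ⟶ X) (ap (inv (prod.fst : U ⨯ X ⟶ U)) u), trivial, fun x _ => ?_⟩
    obtain ⟨p, hp₁, hp₂⟩ := prod_sec_lift u x
    rw [← hp₂]
    refine congrArg _ (hinj V _ _ ?_)
    rw [hp₁, ← ap_comp, IsIso.inv_hom_id, ap_id]
  · intro h
    refine isIso_of_bijective (prod.fst : U ⨯ X ⟶ U) fun V => ⟨fun p q e => prod_sec_ext e ?_, fun u => ?_⟩
    · exact (h V (ap prod.fst p)).unique trivial trivial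
    · obtain ⟨x, -⟩ := h V u
      obtain ⟨p, hp, -⟩ := prod_sec_lift u x
      exact ⟨p, hp⟩

/-- The closed part of an object. -/
noncomputable abbrev closedPart (U X : Tp J) : Tp J := pushout (prod.fst : U ⨯ X ⟶ U) (prod.snd : U ⨯ X ⟶ X)

/-- The map of an object to its closed part. -/
noncomputable abbrev toClosedPart (U X : Tp J) : X ⟶ closedPart U X :=
  pushout.inr (prod.fst : U ⨯ X ⟶ U) (prod.snd : U ⨯ X ⟶ X)

lemma toClosedPart_eq_inl {X : Tp J} {V : C} (u : U.obj.obj (op V)) (x : X.obj.obj (op V)) :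
    ap (pushout.inl (prod.fst : U ⨯ X ⟶ U) (prod.snd : U ⨯ X ⟶ X)) u = ap (toClosedPart U X) x := by
  obtain ⟨p, hp₁, hp₂⟩ := prod_sec_lift u x
  rw [← hp₁, ← hp₂, ← ap_comp, ← ap_comp, pushout.condition]

lemma exists_local_closedPart (X : Tp J) {V : C} (z : (closedPart U X).obj.obj (op V)) :
    ∃ S ∈ J V, ∀ ⦃V' : C⦄ (k : V' ⟶ V), S k →
      (∃ x, ap (toClosedPart U X) x = rs (closedPart U X) k z) ∨ Nonempty (U.obj.obj (op V')) := by
  let π : ∀ b : ULift.{u} Bool, Bool.rec U X b.down ⟶ closedPart U X := fun ⟨b⟩ => match b with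
    | true => toClosedPart U X
    | false => pushout.inl _ _
  have hπ : Covers π := covers_of_ext fun Z a b h => pushout.hom_ext (h ⟨false⟩) (h ⟨true⟩)
  refine ⟨_, hπ V z, fun V' k hk => ?_⟩
  obtain ⟨⟨b⟩, t, ht⟩ := hk
  cases b
  · exact .inr ⟨t⟩
  · exact .inl ⟨t, ht⟩

lemma closedCompl_closedPart (hU : SGA4.IsOpen U) (X : Tp J) : SGA4.closedCompl U (closedPart U X) := by
  refine (closedCompl_iff hU _).2 fun V u => ⟨ap (pushout.inl _ _) u, trivial, fun z _ => ?_⟩
  let π : ∀ b : ULift.{u} Bool, Bool.rec U X b.down ⟶ closedPart U X := fun ⟨b⟩ => match b with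
    | true => toClosedPart U X
    | false => pushout.inl _ _
  have hπ : Covers π := covers_of_ext fun Z a b h => pushout.hom_ext (h ⟨false⟩) (h ⟨true⟩)
  refine sec_ext _ (hπ V z) fun V' k hk => ?_
  obtain ⟨⟨b⟩, t, ht⟩ := hk
  rw [← ht, ← ap_rs]
  cases b
  · exact congrArg _ (open_sec_subsingleton hU _ _)
  · exact (toClosedPart_eq_inl (rs U k u) t).symm

lemma rel_trans_of_open {X : Tp J} {V : C} {a b c : X.obj.obj (op V)}
    (h₁ : a = b ∨ Nonempty (U.obj.obj (op V))) (h₂ : b = c ∨ Nonempty (U.obj.obj (op V))) :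
    a = c ∨ Nonempty (U.obj.obj (op V)) := by
  rcases h₁ with rfl | h₁
  · exact h₂
  · exact .inr h₁

/-- The relation collapsing an object over the open. -/
def collapseSetoid (U X : Tp J) (V : C) : Setoid (X.obj.obj (op V) ⊕ U.obj.obj (op V)) where
  r a b := a = b ∨ Nonempty (U.obj.obj (op V))
  iseqv :=
    { refl := fun _ => .inl rfl
      symm := fun h => h.imp Eq.symm id
      trans := fun h h' => by
        rcases h with rfl | h
        · exact h'
        · exact .inr h }

/-- A presheaf model of the closed part. -/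
def collapsePresheaf (U X : Tp J) : Cᵒᵖ ⥤ Type u where
  obj V := Quotient (collapseSetoid U X V.unop)
  map g := TypeCat.ofHom (Quotient.map' (Sum.map (rs X g.unop) (rs U g.unop))
    fun _ _ h => h.imp (congrArg _) fun ⟨u⟩ => ⟨rs U g.unop u⟩)
  map_id V := by
    ext ⟨a⟩
    refine congrArg (Quot.mk _) ?_
    cases a <;> simp [rs]
  map_comp f g := by
    ext ⟨a⟩
    refine congrArg (Quot.mk _) ?_
    cases a <;> simp [rs]

lemma exists_local_eq_of_toClosedPart_eq {X : Tp J} {V : C} {x x' : X.obj.obj (op V)}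
    (h : ap (toClosedPart U X) x = ap (toClosedPart U X) x') :
    ∃ S ∈ J V, ∀ ⦃V' : C⦄ (k : V' ⟶ V), S k → rs X k x = rs X k x' ∨ Nonempty (U.obj.obj (op V')) := by
  let T := collapsePresheaf U X
  let qX : X.obj ⟶ T :=
    { app := fun W => TypeCat.ofHom fun a => Quotient.mk _ (Sum.inl a)
      naturality := fun W W' g => by ext a; rfl }
  let qU : U.obj ⟶ T :=
    { app := fun W => TypeCat.ofHom fun a => Quotient.mk _ (Sum.inr a)
      naturality := fun W W' g => by ext a; rfl }
  let φ : X ⟶ (presheafToSheaf J (Type u)).obj T := ⟨qX ≫ toSheafify J T⟩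
  let ψ : U ⟶ (presheafToSheaf J (Type u)).obj T := ⟨qU ≫ toSheafify J T⟩
  have e : (prod.fst : U ⨯ X ⟶ U) ≫ ψ = (prod.snd : U ⨯ X ⟶ X) ≫ φ := hom_ext_ap fun W p =>
    congrArg ((toSheafify J T).app (op W)) (Quotient.sound (Or.inr ⟨ap prod.fst p⟩))
  have e' := congrArg (ap (pushout.desc ψ φ e)) h
  rw [← ap_comp, ← ap_comp, pushout.inr_desc] at e'
  refine ⟨_, Presheaf.equalizerSieve_mem J (toSheafify J T) (qX.app (op V) x) (qX.app (op V) x') e', ?_⟩
  intro V' k hk
  exact (Quotient.exact (s := collapseSetoid U X V') hk).imp Sum.inl_injective.eq_iff.1 id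

variable (hU : SGA4.IsOpen U)

include hU in
lemma hom_open_unique {Z : Tp J} (hZ : SGA4.closedCompl U Z) : ∃ g : U ⟶ Z, ∀ g' : U ⟶ Z, g' = g :=
  have h' : IsIso (prod.fst : U ⨯ Z ⟶ U) := hZ
  ⟨inv (prod.fst : U ⨯ Z ⟶ U) ≫ prod.snd, fun _ => hom_ext_ap fun V u =>
    ((closedCompl_iff hU Z).1 hZ V u).unique trivial trivial⟩

include hU in
lemma closedPart_hom_ext {X Z : Tp J} (hZ : SGA4.closedCompl U Z) {a b : closedPart U X ⟶ Z}
    (h : toClosedPart U X ≫ a = toClosedPart U X ≫ b) : a = b := by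
  obtain ⟨g, hg⟩ := hom_open_unique hU hZ
  exact pushout.hom_ext ((hg _).trans (hg _).symm) h

include hU in
lemma exists_closedPart_desc {X Z : Tp J} (hZ : SGA4.closedCompl U Z) (φ : X ⟶ Z) :
    ∃ ψ : closedPart U X ⟶ Z, toClosedPart U X ≫ ψ = φ := by
  obtain ⟨g, -⟩ := hom_open_unique hU hZ
  refine ⟨pushout.desc g φ (hom_ext_ap fun V p => ?_), pushout.inr_desc _ _ _⟩
  exact ((closedCompl_iff hU Z).1 hZ V (ap prod.fst p)).unique trivial trivial

/-- Maps out of the closed part into a closed object are maps out of the object. -/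
noncomputable def closedPartEquiv (X : Tp J) (Z : (SGA4.closedCompl U).FullSubcategory) :
    ((⟨closedPart U X, closedCompl_closedPart hU X⟩ : (SGA4.closedCompl U).FullSubcategory) ⟶ Z) ≃
      (X ⟶ (SGA4.closedCompl U).ι.obj Z) where
  toFun ψ := toClosedPart U X ≫ ψ.hom
  invFun φ := ⟨(exists_closedPart_desc hU Z.property φ).choose⟩
  left_inv ψ := ObjectProperty.hom_ext _
    (closedPart_hom_ext hU Z.property (exists_closedPart_desc hU Z.property _).choose_spec)
  right_inv φ := (exists_closedPart_desc hU Z.property φ).choose_spec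

/-- The reflector to the closed complement. -/
noncomputable def closedPartFunctor (hU : SGA4.IsOpen U) : Tp J ⥤ (SGA4.closedCompl U).FullSubcategory :=
  Adjunction.leftAdjointOfEquiv (G := (SGA4.closedCompl U).ι) (closedPartEquiv hU)
    fun X Y Y' g h => by
      change _ ≫ h.hom ≫ g.hom = (_ ≫ h.hom) ≫ g.hom
      rw [Category.assoc]

/-- The closed complement is reflective. -/
noncomputable def closedPartAdjunction (hU : SGA4.IsOpen U) : closedPartFunctor hU ⊣ (SGA4.closedCompl U).ι :=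
  Adjunction.adjunctionOfEquivLeft _ _

/-- The closed part as an endofunctor. -/
noncomputable abbrev closedPartMap (hU : SGA4.IsOpen U) {X Y : Tp J} (f : X ⟶ Y) : closedPart U X ⟶ closedPart U Y :=
  ((closedPartFunctor hU).map f).hom

lemma toClosedPart_map {X Y : Tp J} (f : X ⟶ Y) :
    toClosedPart U X ≫ closedPartMap hU f = f ≫ toClosedPart U Y := by
  refine ((closedPartEquiv hU X _).apply_symm_apply _).trans ?_
  exact congrArg (f ≫ ·) (Category.comp_id (toClosedPart U Y))

lemma ap_closedPartMap {X Y : Tp J} (f : X ⟶ Y) {V : C} (x : X.obj.obj (op V)) :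
    ap (closedPartMap hU f) (ap (toClosedPart U X) x) = ap (toClosedPart U Y) (ap f x) := by
  rw [← ap_comp, toClosedPart_map, ap_comp]

include hU in
lemma closedPart_eq_of_open {X : Tp J} {V : C} (hV : Nonempty (U.obj.obj (op V)))
    (z z' : (closedPart U X).obj.obj (op V)) : z = z' :=
  ((closedCompl_iff hU _).1 (closedCompl_closedPart hU X) V hV.some).unique trivial trivial

lemma isPullback_closedPartMap {W X Y Z : Tp J} {f : W ⟶ X} {g : W ⟶ Y} {h : X ⟶ Z} {i : Y ⟶ Z}
    (sq : IsPullback f g h i) :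
    IsPullback (closedPartMap hU f) (closedPartMap hU g) (closedPartMap hU h) (closedPartMap hU i) := by
  refine isPullback_of_sections ?_ (fun V a b ef eg => ?_) (fun V x y e => ?_)
  · refine closedPart_hom_ext hU (closedCompl_closedPart hU Z) ?_
    simp only [← Category.assoc, toClosedPart_map]
    simp only [Category.assoc, toClosedPart_map]
    rw [← Category.assoc, ← Category.assoc, sq.w]
  · obtain ⟨S, hS, ha⟩ := exists_local_closedPart W a
    obtain ⟨S', hS', hb⟩ := exists_local_closedPart W b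
    refine sec_ext _ (J.intersection_covering hS hS') fun V' k hk => ?_
    by_cases hV : Nonempty (U.obj.obj (op V'))
    · exact closedPart_eq_of_open hU hV _ _
    obtain ⟨a', ha'⟩ := (ha k hk.1).resolve_right hV
    obtain ⟨b', hb'⟩ := (hb k hk.2).resolve_right hV
    have e₁ : ap (toClosedPart U X) (ap f a') = ap (toClosedPart U X) (ap f b') := by
      rw [← ap_closedPartMap hU, ← ap_closedPartMap hU, ha', hb', ap_rs, ap_rs, ef]
    have e₂ : ap (toClosedPart U Y) (ap g a') = ap (toClosedPart U Y) (ap g b') := by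
      rw [← ap_closedPartMap hU, ← ap_closedPartMap hU, ha', hb', ap_rs, ap_rs, eg]
    obtain ⟨T, hT, h₁⟩ := exists_local_eq_of_toClosedPart_eq e₁
    obtain ⟨T', hT', h₂⟩ := exists_local_eq_of_toClosedPart_eq e₂
    rw [← ha', ← hb']
    refine sec_ext _ (J.intersection_covering hT hT') fun V'' l hl => ?_
    rw [← ap_rs, ← ap_rs]
    by_cases hV' : Nonempty (U.obj.obj (op V''))
    · exact closedPart_eq_of_open hU hV' _ _
    have q₁ := (h₁ l hl.1).resolve_right hV'
    have q₂ := (h₂ l hl.2).resolve_right hV'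
    rw [← ap_rs, ← ap_rs] at q₁ q₂
    rw [pb_sec_ext sq q₁ q₂]
  · obtain ⟨S, hS, hx⟩ := exists_local_closedPart X x
    obtain ⟨S', hS', hy⟩ := exists_local_closedPart Y y
    let T : Sieve V :=
      { arrows := fun V' k => ∃ a, ap (closedPartMap hU f) a = rs _ k x ∧ ap (closedPartMap hU g) a = rs _ k y
        downward_closed := by
          rintro V' V'' k ⟨a, h₁, h₂⟩ l
          exact ⟨rs _ l a, by rw [ap_rs, h₁, rs_rs], by rw [ap_rs, h₂, rs_rs]⟩ }
    have hopen : ∀ ⦃V' : C⦄ (k : V' ⟶ V), Nonempty (U.obj.obj (op V')) → T k := fun V' k hV =>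
      ⟨ap (pushout.inl _ _) hV.some, closedPart_eq_of_open hU hV _ _, closedPart_eq_of_open hU hV _ _⟩
    refine ⟨T, J.transitive (J.intersection_covering hS hS') _ fun V' k hk => ?_, fun _ _ hk => hk⟩
    by_cases hV : Nonempty (U.obj.obj (op V'))
    · refine J.superset_covering ?_ (J.top_mem V')
      intro V'' l _
      exact hopen _ (hV.map (rs U l))
    obtain ⟨x', hx'⟩ := (hx k hk.1).resolve_right hV
    obtain ⟨y', hy'⟩ := (hy k hk.2).resolve_right hV
    obtain ⟨R, hR, hRe⟩ := exists_local_eq_of_toClosedPart_eq (U := U)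
      (x := ap h x') (x' := ap i y') (by
        rw [← ap_closedPartMap hU, ← ap_closedPartMap hU, hx', hy', ap_rs, ap_rs, e])
    refine J.superset_covering ?_ hR
    intro V'' l hl
    rcases hRe l hl with q | hV'
    · rw [← ap_rs, ← ap_rs] at q
      obtain ⟨a, ha₁, ha₂⟩ := pb_sec_lift sq _ _ q
      exact ⟨ap (toClosedPart U W) a,
        by rw [ap_closedPartMap hU, ha₁, ap_rs, hx', rs_rs],
        by rw [ap_closedPartMap hU, ha₂, ap_rs, hy', rs_rs]⟩
    · exact hopen _ hV'

include hU in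
lemma isIso_from_closedPart_terminal : IsIso (terminal.from (closedPart U (⊤_ Tp J))) := by
  refine isIso_of_bijective _ fun V => ⟨fun a b _ => ?_, fun t => ⟨ap (toClosedPart U _) t,
    isTerminal_sec_subsingleton (T := ⊤_ Tp J) terminalIsTerminal V _ _⟩⟩
  obtain ⟨S, hS, ha⟩ := exists_local_closedPart (⊤_ Tp J) a
  obtain ⟨S', hS', hb⟩ := exists_local_closedPart (⊤_ Tp J) b
  refine sec_ext _ (J.intersection_covering hS hS') fun V' k hk => ?_
  by_cases hV : Nonempty (U.obj.obj (op V'))
  · exact closedPart_eq_of_open hU hV _ _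
  obtain ⟨x, hx⟩ := (ha k hk.1).resolve_right hV
  obtain ⟨y, hy⟩ := (hb k hk.2).resolve_right hV
  rw [← hx, ← hy, isTerminal_sec_subsingleton (T := ⊤_ Tp J) terminalIsTerminal V' x y]

theorem closedPartFunctor_preservesFiniteLimits : PreservesFiniteLimits (closedPartFunctor hU) := by
  let G := closedPartFunctor hU ⋙ (SGA4.closedCompl U).ι
  have : PreservesLimit (Functor.empty.{0} (Tp J)) G :=
    @preservesTerminal_of_isIso _ _ _ _ G _ _ (terminal.from (closedPart U (⊤_ Tp J)))
      (isIso_from_closedPart_terminal hU)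
  have : PreservesLimitsOfShape (Discrete PEmpty.{1}) G :=
    ⟨fun {K} => preservesLimit_of_iso_diagram G (Functor.emptyExt (Functor.empty.{0} (Tp J)) K)⟩
  have : PreservesLimitsOfShape WalkingCospan G := by
    refine ⟨fun {K} => ?_⟩
    have : PreservesLimit (cospan (K.map WalkingCospan.Hom.inl) (K.map WalkingCospan.Hom.inr)) G :=
      preservesLimit_of_preserves_limit_cone (IsPullback.of_hasPullback _ _).isLimit
        ((isLimitMapConePullbackConeEquiv G pullback.condition).symm
          (isPullback_closedPartMap hU (IsPullback.of_hasPullback _ _)).isLimit)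
    exact preservesLimit_of_iso_diagram G (diagramIsoCospan K).symm
  have : PreservesFiniteLimits G := preservesFiniteLimits_of_preservesTerminal_and_pullbacks G
  exact ⟨fun K _ _ => preservesLimitsOfShape_of_reflects_of_preserves (closedPartFunctor hU) (SGA4.closedCompl U).ι⟩

lemma isIso_left_star_map_iff {X Y : Tp J} (m : X ⟶ Y) :
    IsIso ((Over.star U).map m) ↔ IsIso (prod.map (𝟙 U) m) := by
  rw [← isIso_iff_of_reflects_iso ((Over.star U).map m) (Over.forget U)]
  exact Iff.rfl

include hU in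
lemma bijective_of_isIso_prod_map {X Y : Tp J} (m : X ⟶ Y) (h : IsIso (prod.map (𝟙 U) m)) {V : C}
    (u : U.obj.obj (op V)) : Function.Bijective (fun x : X.obj.obj (op V) => ap m x) := by
  refine ⟨fun x x' e => ?_, fun y => ?_⟩
  · obtain ⟨p, hp₁, hp₂⟩ := prod_sec_lift u x
    obtain ⟨p', hp₁', hp₂'⟩ := prod_sec_lift u x'
    rw [← hp₂, ← hp₂']
    refine congrArg _ ((mono_iff_injective (prod.map (𝟙 U) m)).1 inferInstance V p p' (prod_sec_ext ?_ ?_))
    · exact open_sec_subsingleton hU _ _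
    · simp only [← ap_comp, prod.map_snd]
      rw [ap_comp, ap_comp, hp₂, hp₂']
      exact e
  · obtain ⟨p, -, hp₂⟩ := prod_sec_lift u y
    refine ⟨ap (prod.snd : U ⨯ X ⟶ X) (ap (inv (prod.map (𝟙 U) m)) p), ?_⟩
    change ap m (ap _ _) = y
    rw [← ap_comp, ← prod.map_snd (𝟙 U) m, ← ap_comp, IsIso.inv_hom_id_assoc, hp₂]

include hU in
lemma isIso_prod_map_of_bijective {X Y : Tp J} (m : X ⟶ Y)
    (h : ∀ {V : C}, U.obj.obj (op V) → Function.Bijective (fun x : X.obj.obj (op V) => ap m x)) :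
    IsIso (prod.map (𝟙 U) m) := by
  refine isIso_of_bijective _ fun V => ⟨fun p p' e => prod_sec_ext (open_sec_subsingleton hU _ _) ?_, fun q => ?_⟩
  · refine (h (ap prod.fst p)).1 ?_
    change ap m (ap prod.snd p) = ap m (ap prod.snd p')
    rw [← ap_comp, ← ap_comp, ← prod.map_snd (𝟙 U) m, ap_comp, ap_comp]
    exact congrArg _ e
  · obtain ⟨x, hx⟩ := (h (ap prod.fst q)).2 (ap prod.snd q)
    obtain ⟨p, hp₁, hp₂⟩ := prod_sec_lift (ap prod.fst q) x
    refine ⟨p, prod_sec_ext (open_sec_subsingleton hU _ _) ?_⟩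
    rw [← ap_comp, prod.map_snd, ap_comp, hp₂]
    exact hx

include hU in
lemma isIso_of_open_closed {X Y : Tp J} (m : X ⟶ Y) (h₁ : IsIso (prod.map (𝟙 U) m))
    (h₂ : IsIso (closedPartMap hU m)) : IsIso m := by
  have hb : ∀ {V : C}, U.obj.obj (op V) → Function.Bijective (fun x : X.obj.obj (op V) => ap m x) :=
    fun u => bijective_of_isIso_prod_map hU m h₁ u
  have : Mono m := (mono_iff_injective m).2 fun V x x' e => by
    obtain ⟨S, hS, hloc⟩ := exists_local_eq_of_toClosedPart_eq (U := U) (x := x) (x' := x')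
      ((mono_iff_injective (closedPartMap hU m)).1 inferInstance V _ _ (by
        rw [ap_closedPartMap hU, ap_closedPartMap hU, e]))
    refine sec_ext X hS fun V' k hk => ?_
    rcases hloc k hk with q | hu
    · exact q
    · exact (hb hu.some).1 (by simp only [ap_rs, e])
  have : Epi m := (covers_single_iff m).1 fun V y => by
    obtain ⟨S, hS, hloc⟩ := exists_local_closedPart X (ap (inv (closedPartMap hU m)) (ap (toClosedPart U Y) y))
    refine J.transitive hS _ fun V' k hk => ?_
    rcases hloc k hk with ⟨x, hx⟩ | hu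
    · have e : ap (toClosedPart U Y) (ap m x) = ap (toClosedPart U Y) (rs Y k y) := by
        rw [← ap_closedPartMap hU, hx, ap_rs, ← ap_comp, IsIso.inv_hom_id, ap_id, ap_rs]
      obtain ⟨R, hR, hRe⟩ := exists_local_eq_of_toClosedPart_eq e
      refine J.superset_covering ?_ hR
      intro V'' l hl
      rcases hRe l hl with q | hu
      · exact ⟨PUnit.unit, rs X l x, by rw [ap_rs, q, rs_rs]⟩
      · obtain ⟨x', hx'⟩ := (hb hu.some).2 (rs Y (l ≫ k) y)
        exact ⟨PUnit.unit, x', hx'⟩
    · refine J.superset_covering ?_ (J.top_mem V')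
      intro V'' l _
      obtain ⟨x', hx'⟩ := (hb (rs U l hu.some)).2 (rs Y (l ≫ k) y)
      exact ⟨PUnit.unit, x', hx'⟩
  exact Balanced.isIso_of_mono_of_epi m

include hU in
lemma isPullback_toClosedPart_iff {X Y : Tp J} (m : X ⟶ Y) :
    IsPullback m (toClosedPart U X) (toClosedPart U Y) (closedPartMap hU m) ↔ IsIso (prod.map (𝟙 U) m) := by
  constructor
  · intro sq
    refine isIso_prod_map_of_bijective hU m fun {V} u => ⟨fun x x' e => ?_, fun y => ?_⟩
    · exact pb_sec_ext sq e (closedPart_eq_of_open hU ⟨u⟩ _ _)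
    · obtain ⟨x, hx, -⟩ := pb_sec_lift sq y (ap (pushout.inl _ _) u) (closedPart_eq_of_open hU ⟨u⟩ _ _)
      exact ⟨x, hx⟩
  · intro h
    refine isPullback_of_sections (toClosedPart_map hU m).symm (fun V a b em et => ?_) (fun V y z e => ?_)
    · obtain ⟨S, hS, hloc⟩ := exists_local_eq_of_toClosedPart_eq et
      refine sec_ext X hS fun V' k hk => ?_
      rcases hloc k hk with q | hu
      · exact q
      · exact (bijective_of_isIso_prod_map hU m h hu.some).1 (by simp only [ap_rs, em])
    · obtain ⟨S, hS, hz⟩ := exists_local_closedPart X z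
      let T : Sieve V :=
        { arrows := fun V' k => ∃ a, ap m a = rs Y k y ∧ ap (toClosedPart U X) a = rs _ k z
          downward_closed := by
            rintro V' V'' k ⟨a, h₁, h₂⟩ l
            exact ⟨rs X l a, by rw [ap_rs, h₁, rs_rs], by rw [ap_rs, h₂, rs_rs]⟩ }
      have hopen : ∀ ⦃V' : C⦄ (k : V' ⟶ V), Nonempty (U.obj.obj (op V')) → T k := fun V' k hV => by
        obtain ⟨a, ha⟩ := (bijective_of_isIso_prod_map hU m h hV.some).2 (rs Y k y)
        exact ⟨a, ha, closedPart_eq_of_open hU hV _ _⟩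
      refine ⟨T, J.transitive hS _ fun V' k hk => ?_, fun _ _ hk => hk⟩
      rcases hz k hk with ⟨x, hx⟩ | hV
      · have e' : ap (toClosedPart U Y) (ap m x) = ap (toClosedPart U Y) (rs Y k y) := by
          rw [← ap_closedPartMap hU, hx, ap_rs, ap_rs, e]
        obtain ⟨R, hR, hRe⟩ := exists_local_eq_of_toClosedPart_eq e'
        refine J.superset_covering ?_ hR
        intro V'' l hl
        rcases hRe l hl with q | hV'
        · exact ⟨rs X l x, by rw [ap_rs, q, rs_rs], by rw [ap_rs, hx, rs_rs]⟩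
        · exact hopen _ hV'
      · refine J.superset_covering ?_ (J.top_mem V')
        intro V'' l _
        exact hopen _ (hV.map (rs U l))

include hU in
lemma closedCompl_of_iso {X Y : Tp J} (e : X ≅ Y) (h : SGA4.closedCompl U Y) : SGA4.closedCompl U X :=
  (closedCompl_iff hU X).2 fun V u => by
    obtain ⟨y, -, hy⟩ := (closedCompl_iff hU Y).1 h V u
    refine ⟨ap e.inv y, trivial, fun x _ => ?_⟩
    rw [← hy (ap e.hom x) trivial, ← ap_comp, e.hom_inv_id, ap_id]

include hU in
lemma isIso_toClosedPart {X : Tp J} (h : SGA4.closedCompl U X) : IsIso (toClosedPart U X) := by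
  obtain ⟨ψ, hψ⟩ := exists_closedPart_desc hU h (𝟙 X)
  refine ⟨ψ, hψ, closedPart_hom_ext hU (closedCompl_closedPart hU X) ?_⟩
  rw [← Category.assoc, hψ, Category.id_comp, Category.comp_id]

end Groth.SitesTopoi.Topos
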