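import Groth.Agent.SitesTopoi.Topos.Giraud
import Groth.Agent.SitesTopoi.Topos.Eps

/-!
When the sheaves associated to a family of arrows form a coproduct.
-/

universe w u

open CategoryTheory CategoryTheory.Limits Opposite

namespace Groth.SitesTopoi.Topos

variable {C : Type u} [SmallCategory C] {J : GrothendieckTopology C}

lemma epsSec_eq_of_local {X U : C} {h h' : U ⟶ X} {S : Sieve U} (hS : S ∈ J U)
    (H : ∀ ⦃W : C⦄ (g : W ⟶ U), S g → g ≫ h = g ≫ h') : epsSec (J := J) h = epsSec h' :=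
  sec_ext _ hS fun W g hg => by rw [rs_epsSec, rs_epsSec, H g hg]

lemma isEmptySheaf_sheafify_iff {P : Cᵒᵖ ⥤ Type u} :
    IsEmptySheaf ((presheafToSheaf J (Type u)).obj P) ↔ ∀ (U : C), P.obj (op U) → (⊥ : Sieve U) ∈ J U := by
  refine ⟨fun h U s => h U ((toSheafify J P).app (op U) s), fun h U s => ?_⟩
  refine J.transitive (Presheaf.imageSieve_mem J (toSheafify J P) s) _ ?_
  rintro V g ⟨t, -⟩
  rw [Sieve.pullback_bot]
  exact h V t

lemma nonempty_isInitial_iff {F : Tp J} : Nonempty (IsInitial F) ↔ IsEmptySheaf F :=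
  ⟨fun ⟨h⟩ => isEmptySheaf_of_isInitial h, fun h => ⟨h.isInitial⟩⟩

section Family

variable {ι : Type u} {X : C} {Y : ι → C} {s : ∀ i, Y i ⟶ X}

/-- Being a coproduct after sheafification, in terms of arrows of the site. -/
def IsDisjointCoverSite (J : GrothendieckTopology C) (s : ∀ i, Y i ⟶ X) : Prop :=
  Sieve.ofArrows Y s ∈ J X ∧
    (∀ (i : ι) (Z : C) (l l' : Z ⟶ Y i), l ≫ s i = l' ≫ s i → epsSec (J := J) l = epsSec l') ∧
    ∀ (i j : ι), i ≠ j → ∀ (Z : C) (l : Z ⟶ Y i) (l' : Z ⟶ Y j), l ≫ s i = l' ≫ s j → (⊥ : Sieve Z) ∈ J Z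

lemma isDisjointCover_epsMap_iff :
    IsDisjointCover (fun i => epsMap (J := J) (s i)) ↔ IsDisjointCoverSite J s := by
  constructor
  · refine fun h => ⟨ofArrows_mem_of_covers_epsMap h.covers, fun i Z l l' e => h.inj i Z _ _ ?_,
      fun i j hij Z l l' e => h.disj i j hij Z (epsSec l) (epsSec l') ?_⟩
    · rw [ap_epsMap, ap_epsMap, e]
    · rw [ap_epsMap, ap_epsMap, e]
  · rintro ⟨hc, hi, hd⟩
    refine ⟨covers_epsMap hc, fun i U a b e => ?_, fun i j hij U a b e => ?_⟩
    · obtain ⟨S, hS, ha⟩ := exists_local_epsSec a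
      obtain ⟨T, hT, hb⟩ := exists_local_epsSec b
      refine sec_ext _ (J.intersection_covering hS hT) fun V g hg => ?_
      obtain ⟨l, hl⟩ := ha g hg.1
      obtain ⟨l', hl'⟩ := hb g hg.2
      have e' := congrArg (rs (epsObj X) g) e
      rw [← ap_rs, ← ap_rs, hl, hl', ap_epsMap, ap_epsMap] at e'
      obtain ⟨R, hR, hR'⟩ := epsSec_eq e'
      rw [hl, hl']
      exact sec_ext _ hR fun W g' hg' => by
        rw [rs_epsSec, rs_epsSec]
        exact hi i W _ _ (by rw [Category.assoc, Category.assoc, hR' g' hg'])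
    · obtain ⟨S, hS, ha⟩ := exists_local_epsSec a
      obtain ⟨T, hT, hb⟩ := exists_local_epsSec b
      refine J.transitive (J.intersection_covering hS hT) _ fun V g hg => ?_
      obtain ⟨l, hl⟩ := ha g hg.1
      obtain ⟨l', hl'⟩ := hb g hg.2
      have e' := congrArg (rs (epsObj X) g) e
      rw [← ap_rs, ← ap_rs, hl, hl', ap_epsMap, ap_epsMap] at e'
      obtain ⟨R, hR, hR'⟩ := epsSec_eq e'
      rw [Sieve.pullback_bot]
      refine J.transitive hR _ fun W g' hg' => ?_
      rw [Sieve.pullback_bot]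
      exact hd i j hij W (g' ≫ l) (g' ≫ l') (by rw [Category.assoc, Category.assoc, hR' g' hg'])

lemma isColimit_sheafified_cofan_iff :
    Nonempty (IsColimit (Cofan.mk ((presheafToSheaf J (Type u)).obj (yoneda.obj X))
      (fun i => (presheafToSheaf J (Type u)).map (yoneda.map (s i))))) ↔ IsDisjointCoverSite J s := by
  rw [← isDisjointCover_epsMap_iff]
  exact ⟨fun ⟨hc⟩ => isDisjointCover_of_isColimit_cofan hc, fun h => ⟨isColimitOfIsDisjointCover h⟩⟩

lemma IsDisjointCoverSite.of_le {J' : GrothendieckTopology C} (hJ : J ≤ J') (h : IsDisjointCoverSite J s) :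
    IsDisjointCoverSite J' s := by
  refine ⟨hJ _ h.1, fun i Z l l' e => ?_, fun i j hij Z l l' e => hJ _ (h.2.2 i j hij Z l l' e)⟩
  obtain ⟨S, hS, H⟩ := epsSec_eq (h.2.1 i Z l l' e)
  exact epsSec_eq_of_local (hJ _ hS) H

lemma isDisjointCoverSite_of_mono [∀ i, Mono (s i)] [∀ (i : ι) (Z : C) (g : Z ⟶ X), HasPullback (s i) g]
    (hcov : Sieve.ofArrows Y s ∈ J X)
    (hdisj : ∀ i j, i ≠ j → (⊥ : Sieve (pullback (s i) (s j))) ∈ J (pullback (s i) (s j))) :
    IsDisjointCoverSite J s := by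
  refine ⟨hcov, fun i Z l l' e => by rw [(cancel_mono (s i)).1 e], fun i j hij Z l l' e => ?_⟩
  have := J.pullback_stable (pullback.lift l l' e) (hdisj i j hij)
  rwa [Sieve.pullback_bot] at this

end Family

lemma isIso_sheafify_diagonal_iff {Y X : C} (s : Y ⟶ X) :
    IsIso ((presheafToSheaf J (Type u)).map (pullback.diagonal (yoneda.map s))) ↔
      ∀ (Z : C) (l l' : Z ⟶ Y), l ≫ s = l' ≫ s → epsSec (J := J) l = epsSec l' := by
  rw [← J.W_iff, J.W_iff_isLocallyBijective]
  have sq : ∀ Z : C, IsPullback ((pullback.fst (yoneda.map s) (yoneda.map s)).app (op Z))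
      ((pullback.snd (yoneda.map s) (yoneda.map s)).app (op Z)) ((yoneda.map s).app (op Z))
      ((yoneda.map s).app (op Z)) := fun Z =>
    (IsPullback.of_hasPullback (yoneda.map s) (yoneda.map s)).map ((evaluation Cᵒᵖ (Type u)).obj (op Z))
  constructor
  · rintro ⟨-, hsurj⟩ Z l l' e
    obtain ⟨p, hp₁, hp₂⟩ := Types.exists_of_isPullback (sq Z) l l' e
    refine epsSec_eq_of_local (Presheaf.imageSieve_mem J (pullback.diagonal (yoneda.map s)) p) ?_
    rintro W g ⟨k, hk⟩
    have h₁ := congrArg ((pullback.fst (yoneda.map s) (yoneda.map s)).app (op W)) hk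
    have h₂ := congrArg ((pullback.snd (yoneda.map s) (yoneda.map s)).app (op W)) hk
    rw [← NatTrans.comp_app_apply, pullback.diagonal_fst, NatTrans.naturality_apply, hp₁] at h₁
    rw [← NatTrans.comp_app_apply, pullback.diagonal_snd, NatTrans.naturality_apply, hp₂] at h₂
    exact h₁.symm.trans h₂
  · intro H
    refine ⟨Presheaf.isLocallyInjective_of_injective J _ fun U a b e => ?_, ⟨fun {U} p => ?_⟩⟩
    · have e' := congrArg ((pullback.fst (yoneda.map s) (yoneda.map s)).app U) e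
      rwa [← NatTrans.comp_app_apply, ← NatTrans.comp_app_apply, pullback.diagonal_fst] at e'
    obtain ⟨S, hS, hl⟩ := epsSec_eq (H U ((pullback.fst (yoneda.map s) (yoneda.map s)).app (op U) p)
      ((pullback.snd (yoneda.map s) (yoneda.map s)).app (op U) p)
      (congrArg (fun φ => φ.app (op U) p) (pullback.condition (f := yoneda.map s) (g := yoneda.map s))))
    refine J.superset_covering (fun W g hg => ?_) hS
    refine ⟨g ≫ (pullback.fst (yoneda.map s) (yoneda.map s)).app (op U) p,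
      Types.ext_of_isPullback (sq W) ?_ ?_⟩
    · rw [← NatTrans.comp_app_apply, pullback.diagonal_fst, NatTrans.naturality_apply]
      rfl
    · rw [← NatTrans.comp_app_apply, pullback.diagonal_snd, NatTrans.naturality_apply]
      exact hl g hg

lemma isEmptySheaf_sheafify_pullback_iff {Y Y' X : C} (s : Y ⟶ X) (s' : Y' ⟶ X) :
    IsEmptySheaf ((presheafToSheaf J (Type u)).obj (pullback (yoneda.map s) (yoneda.map s'))) ↔
      ∀ (Z : C) (l : Z ⟶ Y) (l' : Z ⟶ Y'), l ≫ s = l' ≫ s' → (⊥ : Sieve Z) ∈ J Z := by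
  rw [isEmptySheaf_sheafify_iff]
  refine ⟨fun h Z l l' e => ?_, fun h Z p => h Z ((pullback.fst (yoneda.map s) (yoneda.map s')).app (op Z) p)
    ((pullback.snd (yoneda.map s) (yoneda.map s')).app (op Z) p)
    (congrArg (fun φ => φ.app (op Z) p) (pullback.condition (f := yoneda.map s) (g := yoneda.map s')))⟩
  obtain ⟨p, -, -⟩ := Types.exists_of_isPullback
    ((IsPullback.of_hasPullback (yoneda.map s) (yoneda.map s')).map ((evaluation Cᵒᵖ (Type u)).obj (op Z))) l l' e
  exact h Z p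

end Groth.SitesTopoi.Topos
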