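import Groth.Prelude.Def_SGA4a
import Mathlib.CategoryTheory.Sites.LocallySurjective
import Mathlib.CategoryTheory.Sites.Limits
import Mathlib.CategoryTheory.Sites.Closed
import Mathlib.CategoryTheory.Limits.Types.Filtered
import Mathlib.CategoryTheory.Limits.Types.Pullbacks
import Mathlib.CategoryTheory.Limits.Shapes.Pullback.IsPullback.Basic

/-!
Covering families in a topos of sheaves of sets, in terms of sections.
-/

universe w u

open CategoryTheory CategoryTheory.Limits Opposite

namespace Groth.SitesTopoi.Topos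

variable {C : Type u} [SmallCategory C] {J : GrothendieckTopology C}

/-- The topos of sheaves of sets. -/
abbrev Tp (J : GrothendieckTopology C) : Type (u + 1) := Sheaf J (Type u)

/-- Restriction of a section along an arrow of the site. -/
abbrev rs (X : Tp J) {U V : C} (g : V ⟶ U) (s : X.obj.obj (op U)) : X.obj.obj (op V) := X.obj.map g.op s

/-- The action of a morphism of sheaves on sections. -/
abbrev ap {X Y : Tp J} (φ : X ⟶ Y) {U : C} (s : X.obj.obj (op U)) : Y.obj.obj (op U) := φ.hom.app (op U) s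

lemma ap_rs {X Y : Tp J} (φ : X ⟶ Y) {U V : C} (g : V ⟶ U) (s : X.obj.obj (op U)) :
    ap φ (rs X g s) = rs Y g (ap φ s) :=
  NatTrans.naturality_apply φ.hom g.op s

lemma rs_rs (X : Tp J) {U V W : C} (g : V ⟶ U) (h : W ⟶ V) (s : X.obj.obj (op U)) :
    rs X h (rs X g s) = rs X (h ≫ g) s :=
  (FunctorToTypes.map_comp_apply X.obj g.op h.op s).symm

lemma rs_id (X : Tp J) {U : C} (s : X.obj.obj (op U)) : rs X (𝟙 U) s = s := FunctorToTypes.map_id_apply X.obj s

lemma ap_comp {X Y Z : Tp J} (φ : X ⟶ Y) (ψ : Y ⟶ Z) {U : C} (s : X.obj.obj (op U)) :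
    ap (φ ≫ ψ) s = ap ψ (ap φ s) := rfl

lemma ap_id {X : Tp J} {U : C} (s : X.obj.obj (op U)) : ap (𝟙 X) s = s := rfl

lemma hom_ext_ap {X Y : Tp J} {φ ψ : X ⟶ Y} (h : ∀ (U : C) (s : X.obj.obj (op U)), ap φ s = ap ψ s) : φ = ψ := by
  refine Sheaf.hom_ext (NatTrans.ext (funext fun U => ?_))
  ext s
  exact h U.unop s

lemma isSheafFor {X : Tp J} {U : C} {S : Sieve U} (hS : S ∈ J U) : Presieve.IsSheafFor X.obj (S : Presieve U) :=
  ((isSheaf_iff_isSheaf_of_type J X.obj).1 X.property) S hS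

lemma sec_ext (X : Tp J) {U : C} {S : Sieve U} (hS : S ∈ J U) {s t : X.obj.obj (op U)}
    (h : ∀ ⦃V : C⦄ (g : V ⟶ U), S g → rs X g s = rs X g t) : s = t :=
  (isSheafFor (X := X) hS).isSeparatedFor.ext h

section CoverSieve

variable {ι : Type w} {F : ι → Tp J} {X : Tp J} (π : ∀ i, F i ⟶ X)

/-- The arrows along which a section comes from a member of the family. -/
def coverSieve {U : C} (s : X.obj.obj (op U)) : Sieve U where
  arrows V g := ∃ (i : ι) (t : (F i).obj.obj (op V)), ap (π i) t = rs X g s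
  downward_closed := by
    rintro V W g ⟨i, t, ht⟩ h
    exact ⟨i, rs (F i) h t, by rw [ap_rs, ht, rs_rs]⟩

/-- A family of morphisms is covering when every section locally comes from a member. -/
def Covers : Prop := ∀ (U : C) (s : X.obj.obj (op U)), coverSieve π s ∈ J U

variable {π}

lemma Covers.ext (h : Covers π) {Z : Tp J} {a b : X ⟶ Z} (hab : ∀ i, π i ≫ a = π i ≫ b) : a = b := by
  refine hom_ext_ap fun U s => sec_ext Z (h U s) ?_
  rintro V g ⟨i, t, ht⟩
  rw [← ap_rs, ← ap_rs, ← ht, ← ap_comp, ← ap_comp, hab]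

lemma Covers.of_factor {κ : Type*} {G : κ → Tp J} {σ : ∀ k, G k ⟶ X} (h : Covers σ) (φ : κ → ι)
    (m : ∀ k, G k ⟶ F (φ k)) (hm : ∀ k, m k ≫ π (φ k) = σ k) : Covers π := by
  intro U s
  refine J.superset_covering ?_ (h U s)
  rintro V g ⟨k, t, ht⟩
  exact ⟨φ k, ap (m k) t, by rw [← ap_comp, hm, ht]⟩

lemma Covers.comp (h : Covers π) {κ : ι → Type*} {G : ∀ i, κ i → Tp J} (σ : ∀ i k, G i k ⟶ F i)
    (hσ : ∀ i, Covers (σ i)) :
    Covers (fun p : Σ i, κ i => σ p.1 p.2 ≫ π p.1) := by
  intro U s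
  refine J.transitive (h U s) _ ?_
  rintro V g ⟨i, t, ht⟩
  refine J.superset_covering ?_ (hσ i V t)
  rintro W g' ⟨k, r, hr⟩
  exact ⟨⟨i, k⟩, r, by rw [ap_comp, hr, ap_rs, ht, rs_rs]⟩

lemma Covers.postcomp_iso (h : Covers π) {Y : Tp J} (e : X ⟶ Y) [IsIso e] : Covers (fun i => π i ≫ e) := by
  intro U s
  refine J.superset_covering ?_ (h U (ap (inv e) s))
  rintro V g ⟨i, t, ht⟩
  exact ⟨i, t, by rw [ap_comp, ht, ap_rs, ← ap_comp, IsIso.inv_hom_id, ap_id]⟩

end CoverSieve

lemma covers_id (X : Tp J) : Covers (fun _ : PUnit.{1} => 𝟙 X) := fun U s =>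
  J.superset_covering (fun V g _ => ⟨PUnit.unit, rs X g s, rfl⟩) (J.top_mem U)

section Sections

variable {W X Y Z : Tp J} {f : W ⟶ X} {g : W ⟶ Y} {h : X ⟶ Z} {i : Y ⟶ Z}

lemma isPullback_sec (sq : IsPullback f g h i) (U : C) :
    IsPullback (f.hom.app (op U)) (g.hom.app (op U)) (h.hom.app (op U)) (i.hom.app (op U)) :=
  sq.map (sheafToPresheaf J (Type u) ⋙ (evaluation Cᵒᵖ (Type u)).obj (op U))

lemma pb_sec_ext (sq : IsPullback f g h i) {U : C} {s t : W.obj.obj (op U)}
    (h₁ : ap f s = ap f t) (h₂ : ap g s = ap g t) : s = t :=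
  Types.ext_of_isPullback (isPullback_sec sq U) h₁ h₂

lemma pb_sec_lift (sq : IsPullback f g h i) {U : C} (a : X.obj.obj (op U)) (b : Y.obj.obj (op U))
    (e : ap h a = ap i b) : ∃ s : W.obj.obj (op U), ap f s = a ∧ ap g s = b :=
  Types.exists_of_isPullback (isPullback_sec sq U) a b e

end Sections

section Pullback

variable {ι : Type w} {F : ι → Tp J} {X : Tp J} {π : ∀ i, F i ⟶ X}

lemma Covers.of_isPullback (h : Covers π) {Y : Tp J} {f : Y ⟶ X} {P : ι → Tp J} {p : ∀ i, P i ⟶ Y}
    {q : ∀ i, P i ⟶ F i} (sq : ∀ i, IsPullback (p i) (q i) f (π i)) : Covers p := by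
  intro U s
  refine J.superset_covering ?_ (h U (ap f s))
  rintro V g ⟨i, t, ht⟩
  obtain ⟨r, hr, -⟩ := pb_sec_lift (sq i) (rs Y g s) t (by rw [ap_rs, ht])
  exact ⟨i, r, hr⟩

lemma Covers.pullback_left (h : Covers π) {Y : Tp J} (f : Y ⟶ X) :
    Covers (fun i => pullback.fst f (π i)) :=
  h.of_isPullback fun i => IsPullback.of_hasPullback f (π i)

lemma Covers.pullback_right (h : Covers π) {Y : Tp J} (f : Y ⟶ X) :
    Covers (fun i => pullback.snd (π i) f) :=
  h.of_isPullback fun i => (IsPullback.of_hasPullback (π i) f).flip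

end Pullback

section Epi

variable {ι : Type u} {F : ι → Tp J} {X : Tp J} {π : ∀ i, F i ⟶ X}

lemma covers_of_isColimit_cofan {c : Cofan F} (hc : IsColimit c) : Covers (fun i => c.inj i) := by
  let E := colimit.cocone (Discrete.functor F ⋙ sheafToPresheaf J (Type u))
  let e := (Sheaf.isColimitSheafifyCocone E (colimit.isColimit _)).coconePointUniqueUpToIso hc
  let e' : sheafify J E.pt ⟶ c.pt.obj := e.hom.hom
  have : IsIso e' := inferInstanceAs (IsIso ((sheafToPresheaf _ _).map e.hom))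
  have : Presheaf.IsLocallySurjective J e' := inferInstance
  have : Presheaf.IsLocallySurjective J (toSheafify J E.pt) := inferInstance
  have : Presheaf.IsLocallySurjective J (toSheafify J E.pt ≫ e') :=
    Presheaf.isLocallySurjective_comp J (toSheafify J E.pt) e'
  intro U s
  refine J.superset_covering ?_ (Presheaf.imageSieve_mem J (toSheafify J E.pt ≫ e') s)
  rintro V g ⟨t, ht⟩
  obtain ⟨⟨i⟩, a, ha⟩ := Types.jointly_surjective_of_isColimit
    (isColimitOfPreserves ((evaluation Cᵒᵖ (Type u)).obj (op V))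
      (colimit.isColimit (Discrete.functor F ⋙ sheafToPresheaf J (Type u)))) t
  have h0 : (c.inj i).hom = E.ι.app ⟨i⟩ ≫ toSheafify J E.pt ≫ e' := by
    change (c.ι.app ⟨i⟩).hom = _
    rw [← (Sheaf.isColimitSheafifyCocone E (colimit.isColimit _)).comp_coconePointUniqueUpToIso_hom hc ⟨i⟩]
    rw [ObjectProperty.FullSubcategory.comp_hom, Sheaf.sheafifyCocone_ι_app_val]
    exact Category.assoc _ _ _
  refine ⟨i, a, ?_⟩
  change (c.inj i).hom.app (op V) a = _
  rw [h0]
  change (toSheafify J E.pt ≫ e').app (op V) ((E.ι.app ⟨i⟩).app (op V) a) = _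
  rw [show (E.ι.app ⟨i⟩).app (op V) a = t from ha, ht]

lemma covers_iff_epi_desc : Covers π ↔ Epi (Sigma.desc π) := by
  constructor
  · intro h
    exact ⟨fun a b hab => h.ext fun i => by rw [← Sigma.ι_desc π i, Category.assoc, hab, Category.assoc]⟩
  · intro h
    have hs : Sheaf.IsLocallySurjective (Sigma.desc π) := (Sheaf.isLocallySurjective_iff_epi _).2 h
    have : Presheaf.IsLocallySurjective J (Sigma.desc π).hom := hs
    intro U s
    refine J.transitive (Presheaf.imageSieve_mem J (Sigma.desc π).hom s) _ ?_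
    rintro V g ⟨t, ht⟩
    refine J.superset_covering ?_ (covers_of_isColimit_cofan (coproductIsCoproduct F) V t)
    rintro W g' ⟨i, a, ha⟩
    refine ⟨i, a, ?_⟩
    have h1 : ap (Sigma.ι F i) a = rs (∐ F) g' t := ha
    have h2 : π i = Sigma.ι F i ≫ Sigma.desc π := (Sigma.ι_desc π i).symm
    rw [h2, ap_comp, h1, ap_rs]
    rw [← rs_rs]
    exact congrArg (rs X g') ht

lemma covers_iff_isEpiFamily : Covers π ↔ SGA4.IsEpiFamily π :=
  ⟨fun h Z a b hab => h.ext hab, fun h => covers_iff_epi_desc.2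
    ⟨fun a b hab => h _ a b fun i => by rw [← Sigma.ι_desc π i, Category.assoc, hab, Category.assoc]⟩⟩

lemma covers_of_ext (h : ∀ (Z : Tp J) (a b : X ⟶ Z), (∀ i, π i ≫ a = π i ≫ b) → a = b) : Covers π :=
  covers_iff_isEpiFamily.2 h

end Epi

lemma covers_single_iff {Y X : Tp J} (f : Y ⟶ X) : Covers (fun _ : PUnit.{u + 1} => f) ↔ Epi f := by
  rw [covers_iff_isEpiFamily]
  exact ⟨fun h => ⟨fun a b hab => h _ a b fun _ => hab⟩, fun h Z a b hab => h.left_cancellation a b (hab PUnit.unit)⟩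

section Glue

variable {ι : Type w} {F : ι → Tp J} {X : Tp J} {π : ∀ i, F i ⟶ X}

lemma Covers.glue (h : Covers π) {Z : Tp J} (φ : ∀ i, F i ⟶ Z)
    (hφ : ∀ (i j : ι) (U : C) (a : (F i).obj.obj (op U)) (b : (F j).obj.obj (op U)),
      ap (π i) a = ap (π j) b → ap (φ i) a = ap (φ j) b) :
    ∃ ψ : X ⟶ Z, ∀ i, π i ≫ ψ = φ i := by
  classical
  have hx : ∀ (U : C) (s : X.obj.obj (op U)), ∃ z : Z.obj.obj (op U), ∀ ⦃V : C⦄ (g : V ⟶ U) (i : ι)
      (t : (F i).obj.obj (op V)), ap (π i) t = rs X g s → rs Z g z = ap (φ i) t := by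
    intro U s
    let x : Presieve.FamilyOfElements Z.obj (coverSieve π s : Presieve U) :=
      fun V g hg => ap (φ hg.choose) hg.choose_spec.choose
    have hxeq : ∀ ⦃V : C⦄ (g : V ⟶ U) (hg : coverSieve π s g) (i : ι) (t : (F i).obj.obj (op V)),
        ap (π i) t = rs X g s → x g hg = ap (φ i) t := fun V g hg i t ht =>
      hφ _ _ _ _ _ (hg.choose_spec.choose_spec.trans ht.symm)
    have hc : x.Compatible := by
      intro V₁ V₂ W g₁ g₂ f₁ f₂ h₁ h₂ e
      change rs Z g₁ (x f₁ h₁) = rs Z g₂ (x f₂ h₂)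
      rw [← ap_rs, ← ap_rs]
      refine hφ _ _ _ _ _ ?_
      rw [ap_rs, ap_rs, h₁.choose_spec.choose_spec, h₂.choose_spec.choose_spec, rs_rs, rs_rs, e]
    refine ⟨(isSheafFor (h U s)).amalgamate x hc, fun V g i t ht => ?_⟩
    exact ((isSheafFor (X := Z) (h U s)).valid_glue hc g ⟨i, t, ht⟩).trans (hxeq g _ i t ht)
  choose z hz using hx
  have huniq : ∀ (U : C) (s : X.obj.obj (op U)) (w : Z.obj.obj (op U)),
      (∀ ⦃V : C⦄ (g : V ⟶ U) (i : ι) (t : (F i).obj.obj (op V)), ap (π i) t = rs X g s → rs Z g w = ap (φ i) t) →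
      w = z U s := fun U s w hw => sec_ext Z (h U s) (by
        rintro V g ⟨i, t, ht⟩
        rw [hw g i t ht, hz U s g i t ht])
  refine ⟨⟨{ app := fun U => TypeCat.ofHom (z U.unop), naturality := ?_ }⟩, fun i => hom_ext_ap fun U a => ?_⟩
  · intro U V g
    ext s
    change z V.unop (rs X g.unop s) = rs Z g.unop (z U.unop s)
    refine (huniq _ _ _ fun W g' i t ht => ?_).symm
    rw [rs_rs]
    exact hz U.unop s (g' ≫ g.unop) i t (by rw [ht, rs_rs])
  · change z U (ap (π i) a) = ap (φ i) a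
    refine (huniq _ _ _ fun V g j t ht => ?_).symm
    rw [← ap_rs]
    exact hφ _ _ _ _ _ (by rw [ap_rs, ht])

end Glue

section Empty

/-- A sheaf is empty when its sections live only over objects covered by the empty sieve. -/
def IsEmptySheaf (F : Tp J) : Prop := ∀ (U : C), F.obj.obj (op U) → (⊥ : Sieve U) ∈ J U

lemma eq_of_bot_mem (X : Tp J) {U : C} (h : (⊥ : Sieve U) ∈ J U) (s t : X.obj.obj (op U)) : s = t :=
  sec_ext X h fun _ _ hg => hg.elim

lemma sec_of_bot_mem (X : Tp J) {U : C} (h : (⊥ : Sieve U) ∈ J U) : Nonempty (X.obj.obj (op U)) :=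
  ⟨(isSheafFor (X := X) h).amalgamate (fun _ _ hg => hg.elim) (fun _ _ _ _ _ _ _ h₁ => h₁.elim)⟩

/-- An empty sheaf is initial. -/
noncomputable def IsEmptySheaf.isInitial {F : Tp J} (hF : IsEmptySheaf F) : IsInitial F :=
  IsInitial.ofUniqueHom
    (fun Z => ⟨{ app := fun U => TypeCat.ofHom fun s => (sec_of_bot_mem Z (hF U.unop s)).some
                 naturality := fun U V g => by
                   ext s
                   exact eq_of_bot_mem Z (hF V.unop (F.obj.map g s)) _ _ }⟩)
    (fun Z m => hom_ext_ap fun U s => eq_of_bot_mem Z (hF U s) _ _)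

lemma isEmptySheaf_iff_covers_empty {F : Tp J} :
    IsEmptySheaf F ↔ Covers (F := fun i : PEmpty.{u + 1} => (i.elim : Tp J)) (fun i => (i.elim : _ ⟶ F)) := by
  constructor
  · intro h U s
    exact J.superset_covering (bot_le (a := coverSieve _ s)) (h U s)
  · intro h U s
    refine J.superset_covering ?_ (h U s)
    rintro V g ⟨i, -⟩
    exact i.elim

lemma isEmptySheaf_of_isInitial {F : Tp J} (hF : IsInitial F) : IsEmptySheaf F :=
  isEmptySheaf_iff_covers_empty.2 (covers_of_ext fun _ a b _ => hF.hom_ext a b)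

lemma IsEmptySheaf.of_hom {F G : Tp J} (hG : IsEmptySheaf G) (φ : F ⟶ G) : IsEmptySheaf F :=
  fun U s => hG U (ap φ s)

lemma IsEmptySheaf.of_covers {ι : Type w} {F : ι → Tp J} {X : Tp J} {π : ∀ i, F i ⟶ X} (h : Covers π)
    (hF : ∀ i, IsEmptySheaf (F i)) : IsEmptySheaf X := fun U s =>
  J.transitive (h U s) _ fun V g ⟨i, t, _⟩ => by
    rw [Sieve.pullback_bot]
    exact hF i V t

end Empty

section Disjoint

variable {ι : Type w} {F : ι → Tp J} {X : Tp J}

/-- A covering family of monomorphisms with pairwise empty intersections. -/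
structure IsDisjointCover (π : ∀ i, F i ⟶ X) : Prop where
  covers : Covers π
  inj : ∀ (i : ι) (U : C) (a b : (F i).obj.obj (op U)), ap (π i) a = ap (π i) b → a = b
  disj : ∀ (i j : ι), i ≠ j → ∀ (U : C) (a : (F i).obj.obj (op U)) (b : (F j).obj.obj (op U)),
    ap (π i) a = ap (π j) b → (⊥ : Sieve U) ∈ J U

lemma IsDisjointCover.of_isPullback {π : ∀ i, F i ⟶ X} (h : IsDisjointCover π) {Y : Tp J} {f : Y ⟶ X}
    {P : ι → Tp J} {p : ∀ i, P i ⟶ Y} {q : ∀ i, P i ⟶ F i} (sq : ∀ i, IsPullback (p i) (q i) f (π i)) :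
    IsDisjointCover p where
  covers := h.covers.of_isPullback sq
  inj i U a b e := pb_sec_ext (sq i) e (h.inj i U _ _ (by
    rw [← ap_comp, ← ap_comp, ← (sq i).w, ap_comp, ap_comp, e]))
  disj i j hij U a b e := h.disj i j hij U (ap (q i) a) (ap (q j) b) (by
    rw [← ap_comp, ← ap_comp, ← (sq i).w, ← (sq j).w, ap_comp, ap_comp, e])

lemma IsDisjointCover.mono {π : ∀ i, F i ⟶ X} (h : IsDisjointCover π) (i : ι) : Mono (π i) :=
  ⟨fun a b e => hom_ext_ap fun U s => h.inj i U _ _ (by rw [← ap_comp, ← ap_comp, e])⟩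

/-- The presheaf of sections of `F`, with an added point. -/
def optionPresheaf (F : Tp J) : Cᵒᵖ ⥤ Type u where
  obj U := Option (F.obj.obj U)
  map g := TypeCat.ofHom (Option.map fun x => F.obj.map g x)
  map_id U := by ext (_ | x) <;> simp
  map_comp f g := by ext (_ | x) <;> simp

/-- The sheaf of partial sections. -/
noncomputable def optionSheaf (F : Tp J) : Tp J := (presheafToSheaf J (Type u)).obj (optionPresheaf F)

/-- The unit of the sheaf of partial sections. -/
noncomputable def optionUnit (F : Tp J) {U : C} (x : Option (F.obj.obj (op U))) : (optionSheaf F).obj.obj (op U) :=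
  (toSheafify J (optionPresheaf F)).app (op U) x

lemma optionUnit_eq (F : Tp J) {U : C} {x y : Option (F.obj.obj (op U))} (h : optionUnit F x = optionUnit F y) :
    ∃ S ∈ J U, ∀ ⦃V : C⦄ (g : V ⟶ U), S g →
      x.map (fun a => rs F g a) = y.map (fun a => rs F g a) :=
  ⟨Presheaf.equalizerSieve (F := optionPresheaf F) (X := op U) x y,
    Presheaf.equalizerSieve_mem J (toSheafify J (optionPresheaf F)) x y h, fun _ _ hg => hg⟩

/-- The map to partial sections which is a given map on one member. -/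
noncomputable def optionInl (F : Tp J) : F ⟶ optionSheaf F :=
  ⟨{ app := fun U => TypeCat.ofHom fun s => optionUnit F (U := U.unop) (some s)
     naturality := fun U V g => by
       ext s
       exact NatTrans.naturality_apply (toSheafify J (optionPresheaf F)) g
         (show (optionPresheaf F).obj U from some s) }⟩

/-- The map to partial sections which is nowhere defined. -/
noncomputable def optionInr (G F : Tp J) : G ⟶ optionSheaf F :=
  ⟨{ app := fun U => TypeCat.ofHom fun _ => optionUnit F (U := U.unop) none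
     naturality := fun U V g => by
       ext s
       exact NatTrans.naturality_apply (toSheafify J (optionPresheaf F)) g
         (show (optionPresheaf F).obj U from none) }⟩

lemma isDisjointCover_of_isColimit_cofan {ι : Type u} {F : ι → Tp J} {c : Cofan F} (hc : IsColimit c) :
    IsDisjointCover (fun i => c.inj i) := by
  classical
  let φ : ∀ i, c.pt ⟶ optionSheaf (F i) := fun i => Cofan.IsColimit.desc hc fun j =>
    if h : j = i then eqToHom (congrArg F h) ≫ optionInl (F i) else optionInr (F j) (F i)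
  have hi : ∀ i, c.inj i ≫ φ i = optionInl (F i) := fun i => by
    simp only [φ, Cofan.IsColimit.fac, dif_pos, eqToHom_refl, Category.id_comp]
  have hj : ∀ i j, j ≠ i → c.inj j ≫ φ i = optionInr (F j) (F i) := fun i j h => by
    simp only [φ, Cofan.IsColimit.fac, dif_neg h]
  refine ⟨covers_of_isColimit_cofan hc, fun i U a b e => ?_, fun i j hij U a b e => ?_⟩
  · have e' := congrArg (ap (φ i)) e
    rw [← ap_comp, ← ap_comp, hi] at e'
    obtain ⟨S, hS, h⟩ := optionUnit_eq (F i) (x := some a) (y := some b) e'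
    exact sec_ext (F i) hS fun V g hg => Option.some_injective _ (h g hg)
  · have e' := congrArg (ap (φ i)) e
    rw [← ap_comp, ← ap_comp, hi, hj i j (Ne.symm hij)] at e'
    obtain ⟨S, hS, h⟩ := optionUnit_eq (F i) (x := some a) (y := none) e'
    exact J.superset_covering (fun V g hg => absurd (h g hg) (by simp)) hS

end Disjoint

section Representable

/-- The sheaf associated to a representable presheaf. -/
noncomputable abbrev epsObj (U : C) : Tp J := (presheafToSheaf J (Type u)).obj (yoneda.obj U)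

/-- The canonical section of the sheaf associated to a representable presheaf. -/
noncomputable def epsSec {U V : C} (h : V ⟶ U) : (epsObj (J := J) U).obj.obj (op V) :=
  (toSheafify J (yoneda.obj U)).app (op V) h

lemma rs_epsSec {U V W : C} (h : V ⟶ U) (g : W ⟶ V) : rs (epsObj (J := J) U) g (epsSec h) = epsSec (g ≫ h) :=
  (NatTrans.naturality_apply (toSheafify J (yoneda.obj U)) g.op h).symm

lemma exists_local_epsSec {U V : C} (s : (epsObj (J := J) U).obj.obj (op V)) :
    ∃ S ∈ J V, ∀ ⦃W : C⦄ (g : W ⟶ V), S g → ∃ h : W ⟶ U, rs (epsObj (J := J) U) g s = epsSec h :=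
  ⟨_, Presheaf.imageSieve_mem J (toSheafify J (yoneda.obj U)) s, fun _ _ ⟨t, ht⟩ => ⟨t, ht.symm⟩⟩

lemma epsSec_eq {U V : C} {h h' : V ⟶ U} (e : epsSec (J := J) h = epsSec h') :
    ∃ S ∈ J V, ∀ ⦃W : C⦄ (g : W ⟶ V), S g → g ≫ h = g ≫ h' :=
  ⟨Presheaf.equalizerSieve (F := yoneda.obj U) (X := op V) h h',
    Presheaf.equalizerSieve_mem J (toSheafify J (yoneda.obj U)) h h' e, fun _ _ hg => hg⟩

/-- The map of representable sheaves induced by an arrow. -/
noncomputable abbrev epsMap {U V : C} (g : V ⟶ U) : epsObj (J := J) V ⟶ epsObj U :=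
  (presheafToSheaf J (Type u)).map (yoneda.map g)

lemma ap_epsMap {U V W : C} (g : V ⟶ U) (h : W ⟶ V) : ap (epsMap (J := J) g) (epsSec h) = epsSec (h ≫ g) :=
  congrArg (fun m => m.app (op W) h) (toSheafify_naturality J (yoneda.map g)).symm

/-- The morphism out of a representable sheaf given by a section. -/
noncomputable def epsLift {X : Tp J} {U : C} (s : X.obj.obj (op U)) : epsObj U ⟶ X :=
  ((sheafificationAdjunction J (Type u)).homEquiv _ _).symm (yonedaEquiv.symm s)

lemma ap_epsLift {X : Tp J} {U V : C} (s : X.obj.obj (op U)) (h : V ⟶ U) :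
    ap (epsLift s) (epsSec h) = rs X h s := by
  have e : toSheafify J (yoneda.obj U) ≫ (epsLift s).hom = yonedaEquiv.symm s :=
    ((sheafificationAdjunction J (Type u)).homEquiv_unit _ _ _).symm.trans (Equiv.apply_symm_apply _ _)
  exact (congrArg (fun m => m.app (op V) h) e).trans (yonedaEquiv_symm_app_apply s (op V) h)

lemma eps_hom_ext {X : Tp J} {U : C} {a b : epsObj U ⟶ X}
    (h : ap a (epsSec (J := J) (𝟙 U)) = ap b (epsSec (J := J) (𝟙 U))) : a = b := by
  refine hom_ext_ap fun V s => ?_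
  obtain ⟨S, hS, hrep⟩ := exists_local_epsSec s
  refine sec_ext X hS fun W g hg => ?_
  obtain ⟨k, hk⟩ := hrep g hg
  rw [← ap_rs, ← ap_rs, hk, ← Category.comp_id k, ← rs_epsSec, ap_rs, ap_rs, h]

lemma epsLift_ap {X : Tp J} {U : C} (a : epsObj U ⟶ X) : epsLift (ap a (epsSec (J := J) (𝟙 U))) = a :=
  eps_hom_ext (by rw [ap_epsLift, rs_id])

lemma covers_epsLift (X : Tp J) : Covers (fun p : Σ U : C, X.obj.obj (op U) => epsLift p.2) := fun U s =>
  J.superset_covering (fun V g _ => ⟨⟨U, s⟩, epsSec g, ap_epsLift s g⟩) (J.top_mem U)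

end Representable

section Colimit

variable {I : Type u} [SmallCategory I] {D : I ⥤ Tp J} {c : Cocone D}

lemma covers_of_isColimit (hc : IsColimit c) : Covers (fun i => c.ι.app i) :=
  covers_of_ext fun Z _ _ h => hc.hom_ext h

lemma exists_local_eq_of_isColimit [IsFiltered I] (hc : IsColimit c) {U : C} {i j : I}
    (a : (D.obj i).obj.obj (op U)) (b : (D.obj j).obj.obj (op U)) (h : ap (c.ι.app i) a = ap (c.ι.app j) b) :
    ∃ S ∈ J U, ∀ ⦃V : C⦄ (g : V ⟶ U), S g → ∃ (k : I) (p : i ⟶ k) (q : j ⟶ k),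
      ap (D.map p) (rs (D.obj i) g a) = ap (D.map q) (rs (D.obj j) g b) := by
  let E := colimit.cocone (D ⋙ sheafToPresheaf J (Type u))
  let e := (Sheaf.isColimitSheafifyCocone E (colimit.isColimit _)).coconePointUniqueUpToIso hc
  let e' : sheafify J E.pt ⟶ c.pt.obj := e.hom.hom
  let m : E.pt ⟶ c.pt.obj := toSheafify J E.pt ≫ e'
  have : IsIso e' := inferInstanceAs (IsIso ((sheafToPresheaf _ _).map e.hom))
  have : Presheaf.IsLocallyInjective J e' := inferInstance
  have : Presheaf.IsLocallyInjective J (toSheafify J E.pt) := inferInstance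
  have : Presheaf.IsLocallyInjective J m := Presheaf.isLocallyInjective_comp J (toSheafify J E.pt) e'
  have h0 : ∀ l, (c.ι.app l).hom = E.ι.app l ≫ m := fun l => by
    rw [← (Sheaf.isColimitSheafifyCocone E (colimit.isColimit _)).comp_coconePointUniqueUpToIso_hom hc l]
    rw [ObjectProperty.FullSubcategory.comp_hom, Sheaf.sheafifyCocone_ι_app_val]
    exact Category.assoc _ _ _
  have h' : m.app (op U) ((E.ι.app i).app (op U) a) = m.app (op U) ((E.ι.app j).app (op U) b) :=
    (congrArg (fun q => q.app (op U) a) (h0 i)).symm.trans (h.trans (congrArg (fun q => q.app (op U) b) (h0 j)))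
  refine ⟨_, Presheaf.equalizerSieve_mem J m _ _ h', fun V g hg => ?_⟩
  have key : (E.ι.app i).app (op V) (rs (D.obj i) g a) = (E.ι.app j).app (op V) (rs (D.obj j) g b) :=
    (NatTrans.naturality_apply (E.ι.app i) g.op a).trans
      (hg.trans (NatTrans.naturality_apply (E.ι.app j) g.op b).symm)
  obtain ⟨k, p, q, hk⟩ := (Types.FilteredColimit.isColimit_eq_iff _
    (isColimitOfPreserves ((evaluation Cᵒᵖ (Type u)).obj (op V))
      (colimit.isColimit (D ⋙ sheafToPresheaf J (Type u))))).1 key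
  exact ⟨k, p, q, hk⟩

end Colimit

end Groth.SitesTopoi.Topos
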