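import Groth.Prelude.Def_SGA4c
import Groth.Agent.SitesTopoi.Topos.Covers
import Mathlib.CategoryTheory.MorphismProperty.Limits

/-!
Quasi-compact objects of a topos of sheaves, and the calculus of quasi-compact and
quasi-separated morphisms.
-/

universe w u

open CategoryTheory CategoryTheory.Limits Opposite ToposFin

namespace Groth.SitesTopoi.Topos

variable {C : Type u} [SmallCategory C] {J : GrothendieckTopology C}

lemma isQC_iff {X : Tp J} : IsQC X ↔
    ∀ (ι : Type u) (F : ι → Tp J) (π : ∀ i, F i ⟶ X), Covers π → ∃ s : Finset ι, Covers (fun i : s => π i) := by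
  simp only [ToposFin.IsQC, covers_iff_epi_desc]

lemma finite_subcover {X : Tp J} (hX : IsQC X) {ι : Type u} {F : ι → Tp J} {π : ∀ i, F i ⟶ X}
    (h : Covers π) : ∃ s : Finset ι, Covers (fun i : s => π i) :=
  isQC_iff.1 hX ι F π h

lemma isQC_of_finite_covers {κ : Type w} [Finite κ] {K : κ → Tp J} {X : Tp J} {π : ∀ k, K k ⟶ X}
    (hπ : Covers π) (hK : ∀ k, IsQC (K k)) : IsQC X := by
  classical
  rw [isQC_iff]
  intro ι F σ hσ
  choose s hs using fun k => (finite_subcover (hK k)) (hσ.pullback_left (π k))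
  have : Fintype κ := Fintype.ofFinite κ
  refine ⟨Finset.univ.biUnion s, (hπ.comp _ hs).of_factor
    (fun p => (⟨p.2.1, Finset.mem_biUnion.2 ⟨p.1, Finset.mem_univ _, p.2.2⟩⟩ : (Finset.univ.biUnion s : Finset ι)))
    (fun p => pullback.snd _ _) (fun p => pullback.condition.symm)⟩

lemma isQC_of_epi {X Y : Tp J} (f : Y ⟶ X) [Epi f] (hY : IsQC Y) : IsQC X :=
  isQC_of_finite_covers ((covers_single_iff f).2 inferInstance) fun _ => hY

lemma isQC_of_iso {X Y : Tp J} (e : X ≅ Y) (h : IsQC X) : IsQC Y := isQC_of_epi e.hom h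

lemma isQC_of_isEmptySheaf {X : Tp J} (h : IsEmptySheaf X) : IsQC X :=
  isQC_of_finite_covers (isEmptySheaf_iff_covers_empty.1 h) fun i => i.elim

lemma IsDisjointCover.isQC_member {X : Tp J} (hX : IsQC X) {ι : Type u} {F : ι → Tp J} {π : ∀ i, F i ⟶ X}
    (h : IsDisjointCover π) (i : ι) : IsQC (F i) := by
  classical
  rw [isQC_iff]
  intro κ G σ hσ
  let ι' := κ ⊕ {j : ι // j ≠ i}
  let G' : ι' → Tp J := Sum.elim G (fun j => F j.1)
  let σ' : ∀ a, G' a ⟶ X := fun a => match a with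
    | .inl k => σ k ≫ π i
    | .inr j => π j.1
  have hσ' : Covers σ' := by
    intro U s
    refine J.transitive (h.covers U s) _ ?_
    rintro V g ⟨j, t, ht⟩
    by_cases hj : j = i
    · subst hj
      refine J.superset_covering ?_ (hσ V t)
      rintro W g' ⟨k, r, hr⟩
      exact ⟨.inl k, r, by change ap (σ k ≫ π j) r = _; rw [ap_comp, hr, ap_rs, ht, rs_rs]⟩
    · refine J.superset_covering ?_ (J.top_mem V)
      rintro W g' -
      exact ⟨.inr ⟨j, hj⟩, rs (F j) g' t, by change ap (π j) _ = _; rw [ap_rs, ht, rs_rs]⟩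
  obtain ⟨s, hs⟩ := finite_subcover hX hσ'
  refine ⟨s.toLeft, fun U t => J.transitive (hs U (ap (π i) t)) _ ?_⟩
  rintro V g ⟨⟨a | j, ha⟩, r, hr⟩
  · obtain ⟨r', hr'⟩ : ∃ r' : (G a).obj.obj (op V), ap (σ a ≫ π i) r' = rs X g (ap (π i) t) := ⟨r, hr⟩
    refine J.superset_covering ?_ (J.top_mem V)
    rintro W g' -
    refine ⟨⟨a, Finset.mem_toLeft.2 ha⟩, rs (G a) g' r', h.inj i W _ _ ?_⟩
    change ap (π i) (ap (σ a) (rs (G a) g' r')) = ap (π i) (rs (F i) (g' ≫ g) t)
    rw [← ap_comp, ap_rs, ap_rs, ← rs_rs, hr']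
  · refine J.superset_covering bot_le (h.disj j.1 i j.2 V r (rs (F i) g t) ?_)
    rw [ap_rs]
    exact hr

lemma IsDisjointCover.finite_nonempty {X : Tp J} (hX : IsQC X) {ι : Type u} {F : ι → Tp J}
    {π : ∀ i, F i ⟶ X} (h : IsDisjointCover π) :
    ∃ s : Finset ι, Covers (fun i : s => π i) ∧ ∀ i ∉ s, IsEmptySheaf (F i) := by
  obtain ⟨s, hs⟩ := finite_subcover hX h.covers
  refine ⟨s, hs, fun i hi U t => J.transitive (hs U (ap (π i) t)) _ ?_⟩
  rintro V g ⟨⟨j, hj⟩, r, hr⟩
  rw [Sieve.pullback_bot]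
  exact h.disj j i (fun e => hi (e ▸ hj)) V r (rs (F i) g t) (by rw [ap_rs]; exact hr)

lemma exists_finite_cover_of_isQC {P : Tp J → Prop}
    (hgen : ∀ X : Tp J, ∃ (ι : Type u) (F : ι → Tp J) (π : ∀ i, F i ⟶ X), (∀ i, P (F i)) ∧ Covers π)
    {X : Tp J} (hX : IsQC X) :
    ∃ (ι : Type u) (_ : Finite ι) (F : ι → Tp J) (π : ∀ i, F i ⟶ X), (∀ i, P (F i)) ∧ Covers π := by
  obtain ⟨ι, F, π, hP, hπ⟩ := hgen X
  obtain ⟨s, hs⟩ := finite_subcover hX hπ
  exact ⟨s, inferInstance, fun i => F i, fun i => π i, fun i => hP i, hs⟩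

/-- The property of being a quasi-compact morphism. -/
abbrev qcHom (J : GrothendieckTopology C) : MorphismProperty (Tp J) := fun _ _ f => ToposFin.IsQCHom f

lemma isQC_of_isPullback {X Y Y' W : Tp J} {f : X ⟶ Y} {g : Y' ⟶ Y} {p : W ⟶ X} {q : W ⟶ Y'}
    (hf : IsQCHom f) (sq : IsPullback p q f g) (hY' : IsQC Y') : IsQC W :=
  isQC_of_iso sq.isoPullback.symm (hf Y' g hY')

lemma isQCHom_of_isPullback {X Y X' Y' : Tp J} {f : X ⟶ Y} {g : Y' ⟶ Y} {p : X' ⟶ X} {f' : X' ⟶ Y'}
    (sq : IsPullback p f' f g) (hf : IsQCHom f) : IsQCHom f' := fun Z h hZ =>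
  isQC_of_isPullback hf ((IsPullback.of_hasPullback f' h).paste_horiz sq) hZ

instance qcHom_isStableUnderBaseChange : (qcHom J).IsStableUnderBaseChange :=
  ⟨fun sq hg => isQCHom_of_isPullback sq hg⟩

lemma isQCHom_comp {X Y Z : Tp J} {f : X ⟶ Y} {g : Y ⟶ Z} (hf : IsQCHom f) (hg : IsQCHom g) :
    IsQCHom (f ≫ g) := fun W h hW =>
  isQC_of_iso (pullbackRightPullbackFstIso g h f) (hf _ (pullback.fst g h) (hg W h hW))

lemma isQCHom_of_isIso {X Y : Tp J} (f : X ⟶ Y) [IsIso f] : IsQCHom f := fun _ _ hY' =>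
  isQC_of_iso (asIso (pullback.snd f _)).symm hY'

instance qcHom_isMultiplicative : (qcHom J).IsMultiplicative where
  id_mem X := isQCHom_of_isIso (𝟙 X)
  comp_mem _ _ hf hg := isQCHom_comp hf hg

/-- The property of being a quasi-separated morphism. -/
abbrev qsHom (J : GrothendieckTopology C) : MorphismProperty (Tp J) := (qcHom J).diagonal

lemma isQSHom_iff {X Y : Tp J} (f : X ⟶ Y) : IsQSHom f ↔ qsHom J f := Iff.rfl

lemma isQSHom_of_mono {X Y : Tp J} (u : X ⟶ Y) [Mono u] : IsQSHom u := isQCHom_of_isIso _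

lemma isQSHom_comp {X Y Z : Tp J} {f : X ⟶ Y} {g : Y ⟶ Z} (hf : IsQSHom f) (hg : IsQSHom g) :
    IsQSHom (f ≫ g) := (qsHom J).comp_mem f g hf hg

lemma isQSHom_of_isPullback {X Y X' Y' : Tp J} {f : X ⟶ Y} {g : Y' ⟶ Y} {p : X' ⟶ X} {f' : X' ⟶ Y'}
    (sq : IsPullback p f' f g) (hf : IsQSHom f) : IsQSHom f' :=
  MorphismProperty.of_isPullback (P := qsHom J) sq hf

lemma isQCHom_of_comp {X Y Z : Tp J} {f : X ⟶ Y} {g : Y ⟶ Z} (hg : IsQSHom g) (hfg : IsQCHom (f ≫ g)) :
    IsQCHom f := by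
  have : (qcHom J).HasOfPostcompProperty (qsHom J) :=
    (qcHom J).hasOfPostcompProperty_iff_le_diagonal.2 le_rfl
  exact (qcHom J).of_postcomp (W' := qsHom J) f g hg hfg

lemma isQSHom_of_comp {X Y Z : Tp J} {f : X ⟶ Y} {g : Y ⟶ Z} (hfg : IsQSHom (f ≫ g)) : IsQSHom f := by
  have : (qsHom J).HasOfPostcompProperty ⊤ :=
    (qsHom J).hasOfPostcompProperty_iff_le_diagonal.2 fun _ _ h _ => isQSHom_of_mono (pullback.diagonal h)
  exact (qsHom J).of_postcomp (W' := ⊤) f g trivial hfg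

lemma isQS_iff {X : Tp J} : IsQS X ↔ ∀ (Y : Tp J) (a : Y ⟶ X), IsQC Y → IsQCHom a :=
  ⟨fun h Y a hY Z b hZ => h Y Z a b hY hZ, fun h Y Z a b hY hZ => h Y a hY Z b hZ⟩

lemma isQS_of_isQSHom {X Y : Tp J} {f : X ⟶ Y} (hf : IsQSHom f) (hY : IsQS Y) : IsQS X :=
  isQS_iff.2 fun Z a hZ => isQCHom_of_comp hf (isQS_iff.1 hY Z (a ≫ f) hZ)

lemma isQS_of_mono {X Y : Tp J} (u : X ⟶ Y) [Mono u] (hY : IsQS Y) : IsQS X :=
  isQS_of_isQSHom (isQSHom_of_mono u) hY

lemma isQS_of_iso {X Y : Tp J} (e : X ≅ Y) (hX : IsQS X) : IsQS Y := isQS_of_mono e.inv hX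

lemma isQCHom_of_cover_source {Y Z : Tp J} {g : Y ⟶ Z} {κ : Type w} [Finite κ] {K : κ → Tp J}
    {π : ∀ k, K k ⟶ Y} (hπ : Covers π) (h : ∀ k, IsQCHom (π k ≫ g)) : IsQCHom g := fun W a hW =>
  isQC_of_finite_covers (hπ.pullback_left (pullback.fst g a)) fun k =>
    isQC_of_isPullback (h k)
      (((IsPullback.of_hasPullback (pullback.fst g a) (π k)).flip.paste_vert
        (IsPullback.of_hasPullback g a)))
      hW

/-- The topos has a class of quasi-compact generators. -/
def GenBy (J : GrothendieckTopology C) (P : Tp J → Prop) : Prop :=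
  ∀ X : Tp J, ∃ (ι : Type u) (F : ι → Tp J) (π : ∀ i, F i ⟶ X), (∀ i, P (F i)) ∧ Covers π

lemma genBy_of_hasQCGenerators (h : HasQCGenerators J) : GenBy J IsQC := fun X => by
  obtain ⟨ι, F, π, h1, h2⟩ := h X
  exact ⟨ι, F, π, h1, covers_iff_epi_desc.2 h2⟩

lemma genBy_of_family {α : Type w} (G : α → Tp J)
    (hgen : ∀ X : Tp J, ∃ (ι : Type u) (a : ι → α) (π : ∀ i, G (a i) ⟶ X), Epi (Sigma.desc π)) :
    GenBy J (fun K => ∃ a, K = G a) := fun X => by
  obtain ⟨ι, a, π, h⟩ := hgen X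
  exact ⟨ι, fun i => G (a i), π, fun i => ⟨a i, rfl⟩, covers_iff_epi_desc.2 h⟩

lemma GenBy.mono {P Q : Tp J → Prop} (h : GenBy J P) (hPQ : ∀ K, P K → Q K) : GenBy J Q := fun X => by
  obtain ⟨ι, F, π, h1, h2⟩ := h X
  exact ⟨ι, F, π, fun i => hPQ _ (h1 i), h2⟩

section Gen

variable {P : Tp J → Prop} (hgen : GenBy J P)

include hgen in
lemma isQCHom_iff_gen (hP : ∀ K, P K → IsQC K) {X Y : Tp J} (f : X ⟶ Y) :
    IsQCHom f ↔ ∀ (K : Tp J), P K → ∀ s : K ⟶ Y, IsQC (pullback f s) := by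
  refine ⟨fun h K hK s => h K s (hP K hK), fun h W a hW => ?_⟩
  obtain ⟨ι, _, F, π, hF, hπ⟩ := exists_finite_cover_of_isQC hgen hW
  exact isQC_of_finite_covers (hπ.pullback_left (pullback.snd f a)) fun k =>
    isQC_of_iso (pullbackLeftPullbackSndIso f a (π k)).symm (h (F k) (hF k) (π k ≫ a))

include hgen in
lemma isQS_iff_gen (hP : ∀ K, P K → IsQC K) {X : Tp J} :
    IsQS X ↔ ∀ (K : Tp J), P K → ∀ s : K ⟶ X, IsQCHom s := by
  refine ⟨fun h K hK s => isQS_iff.1 h K s (hP K hK), fun h => isQS_iff.2 fun W a hW => ?_⟩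
  obtain ⟨ι, _, F, π, hF, hπ⟩ := exists_finite_cover_of_isQC hgen hW
  exact isQCHom_of_cover_source hπ fun k => h (F k) (hF k) (π k ≫ a)

include hgen in
lemma isQCHom_of_locally_on_target (hP : ∀ K, P K → IsQC K) {X Y : Tp J} {f : X ⟶ Y} {ι : Type u}
    {Yi : ι → Tp J} {g : ∀ i, Yi i ⟶ Y} (hg : Covers g)
    (h : ∀ i, IsQCHom (pullback.snd f (g i))) : IsQCHom f := by
  intro W a hW
  choose κ F π hF hπ using fun i => hgen (pullback a (g i))
  obtain ⟨s, hs⟩ := finite_subcover hW ((hg.pullback_left a).comp π hπ)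
  refine isQC_of_finite_covers (hs.pullback_left (pullback.snd f a)) fun p => ?_
  refine isQC_of_iso (pullbackLeftPullbackSndIso f a _).symm ?_
  have e : (π p.1.1 p.1.2 ≫ pullback.fst a (g p.1.1)) ≫ a =
      (π p.1.1 p.1.2 ≫ pullback.snd a (g p.1.1)) ≫ g p.1.1 := by
    rw [Category.assoc, Category.assoc, pullback.condition]
  refine isQC_of_iso (pullback.congrHom rfl e.symm) ?_
  exact isQC_of_iso (pullbackLeftPullbackSndIso f (g p.1.1) _)
    (h p.1.1 _ (π p.1.1 p.1.2 ≫ pullback.snd a (g p.1.1)) (hP _ (hF _ _)))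

lemma isPullback_diagonal {X Y Y' : Tp J} (f : X ⟶ Y) (g : Y' ⟶ Y) :
    ∃ (t : pullback (pullback.snd f g) (pullback.snd f g) ⟶ pullback f f),
      IsPullback (pullback.fst f g) (pullback.diagonal (pullback.snd f g)) (pullback.diagonal f) t ∧
        IsPullback t (pullback.fst (pullback.snd f g) (pullback.snd f g) ≫ pullback.snd f g)
          (pullback.fst f f ≫ f) g := by
  let t : pullback (pullback.snd f g) (pullback.snd f g) ⟶ pullback f f :=
    pullback.map _ _ _ _ (pullback.fst f g) (pullback.fst f g) g pullback.condition.symm pullback.condition.symm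
  have h1 : IsPullback (pullback.snd (pullback.snd f g) (pullback.snd f g) ≫ pullback.fst f g)
      (pullback.fst (pullback.snd f g) (pullback.snd f g)) f (pullback.fst f g ≫ f) := by
    rw [pullback.condition]
    exact ((IsPullback.of_hasPullback (pullback.snd f g) (pullback.snd f g)).flip).paste_horiz
      (IsPullback.of_hasPullback f g)
  have htf : t ≫ pullback.fst f f = pullback.fst _ _ ≫ pullback.fst f g := pullback.lift_fst _ _ _
  have hts : t ≫ pullback.snd f f = pullback.snd _ _ ≫ pullback.fst f g := pullback.lift_snd _ _ _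
  have h2 : IsPullback t (pullback.fst (pullback.snd f g) (pullback.snd f g)) (pullback.fst f f) (pullback.fst f g) := by
    refine IsPullback.of_right (h₁₂ := pullback.snd f f) ?_ htf (IsPullback.of_hasPullback f f).flip
    rw [hts]
    exact h1
  refine ⟨t, ?_, h2.paste_vert (IsPullback.of_hasPullback f g)⟩
  refine IsPullback.of_bot (h₃₁ := pullback.fst f g) (v₂₁ := pullback.fst _ _) (v₂₂ := pullback.fst f f) ?_ ?_ h2
  · rw [pullback.diagonal_fst, pullback.diagonal_fst]
    exact IsPullback.of_vert_isIso ⟨by simp⟩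
  · refine pullback.hom_ext ?_ ?_
    · rw [Category.assoc, Category.assoc, htf, pullback.diagonal_fst, pullback.diagonal_fst_assoc, Category.comp_id]
    · rw [Category.assoc, Category.assoc, hts, pullback.diagonal_snd, pullback.diagonal_snd_assoc, Category.comp_id]

include hgen in
lemma isQSHom_of_locally_on_target (hP : ∀ K, P K → IsQC K) {X Y : Tp J} {f : X ⟶ Y} {ι : Type u}
    {Yi : ι → Tp J} {g : ∀ i, Yi i ⟶ Y} (hg : Covers g)
    (h : ∀ i, IsQSHom (pullback.snd f (g i))) : IsQSHom f := by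
  choose t hdiag ht using fun i => isPullback_diagonal f (g i)
  refine isQCHom_of_locally_on_target hgen hP (g := t)
    (hg.of_isPullback fun i => by exact ht i) fun i => ?_
  exact MorphismProperty.of_isPullback (P := qcHom J)
    (IsPullback.of_horiz_isIso (fst := (hdiag i).isoPullback.inv) (snd := pullback.snd (pullback.diagonal f) (t i))
      (f := pullback.diagonal (pullback.snd f (g i))) (g := 𝟙 _)
      ⟨by rw [Category.comp_id, IsPullback.isoPullback_inv_snd]⟩) (h i)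

end Gen

section DiagCover

variable {ι : Type w} {X Y : Tp J} {Xi : ι → Tp J} (f : X ⟶ Y) (g : ∀ i, Xi i ⟶ X)

/-- The family covering the fibre square of `f`, made from a family of maps to its source. -/
noncomputable abbrev diagCover (p : ι × ι) : pullback (g p.1 ≫ f) (g p.2 ≫ f) ⟶ pullback f f :=
  pullback.map _ _ _ _ (g p.1) (g p.2) (𝟙 _) (by rw [Category.comp_id]) (by rw [Category.comp_id])

variable {g}

lemma covers_diagCover (hg : Covers g) : Covers (diagCover f g) := by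
  intro U s
  refine J.transitive (hg U (ap (pullback.fst f f) s)) _ ?_
  rintro V r ⟨i, a, ha⟩
  refine J.superset_covering ?_ (hg V (rs X r (ap (pullback.snd f f) s)))
  rintro W r' ⟨j, b, hb⟩
  obtain ⟨z, hz₁, hz₂⟩ := pb_sec_lift (IsPullback.of_hasPullback (g i ≫ f) (g j ≫ f)) (rs (Xi i) r' a) b (by
    rw [ap_comp, ap_comp, hb, ap_rs (g i), ha, rs_rs, rs_rs, ap_rs f, ap_rs f, ← ap_comp, ← ap_comp,
      pullback.condition])
  refine ⟨⟨i, j⟩, z, pb_sec_ext (IsPullback.of_hasPullback f f) ?_ ?_⟩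
  · rw [← ap_comp, pullback.lift_fst, ap_comp, hz₁, ap_rs, ha, rs_rs, ap_rs]
  · rw [← ap_comp, pullback.lift_snd, ap_comp, hz₂, hb, rs_rs, ap_rs]

lemma isDisjointCover_diagCover (hg : IsDisjointCover g) : IsDisjointCover (diagCover f g) where
  covers := covers_diagCover f hg.covers
  inj p U a b e := by
    have e₁ := congrArg (ap (pullback.fst f f)) e
    have e₂ := congrArg (ap (pullback.snd f f)) e
    rw [← ap_comp, ← ap_comp, pullback.lift_fst, ap_comp, ap_comp] at e₁
    rw [← ap_comp, ← ap_comp, pullback.lift_snd, ap_comp, ap_comp] at e₂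
    exact pb_sec_ext (IsPullback.of_hasPullback _ _) (hg.inj _ U _ _ e₁) (hg.inj _ U _ _ e₂)
  disj p q hpq U a b e := by
    have e₁ := congrArg (ap (pullback.fst f f)) e
    have e₂ := congrArg (ap (pullback.snd f f)) e
    rw [← ap_comp, ← ap_comp, pullback.lift_fst, pullback.lift_fst, ap_comp, ap_comp] at e₁
    rw [← ap_comp, ← ap_comp, pullback.lift_snd, pullback.lift_snd, ap_comp, ap_comp] at e₂
    by_cases h : p.1 = q.1
    · exact hg.disj p.2 q.2 (fun h' => hpq (Prod.ext h h')) U _ _ e₂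
    · exact hg.disj p.1 q.1 h U _ _ e₁

variable (g) in
lemma isQCHom_snd_diagCover (p : ι × ι)
    (h : ∀ (m : pullback (g p.1) (g p.2) ⟶ pullback (g p.1 ≫ f) (g p.2 ≫ f)),
      m ≫ pullback.fst _ _ = pullback.fst _ _ → m ≫ pullback.snd _ _ = pullback.snd _ _ → IsQCHom m) :
    IsQCHom (pullback.snd (pullback.diagonal f) (diagCover f g p)) := by
  let c := diagCover f g
  let m : pullback (g p.1) (g p.2) ⟶ pullback (g p.1 ≫ f) (g p.2 ≫ f) :=
    pullback.map _ _ _ _ (𝟙 _) (𝟙 _) f (by simp) (by simp)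
  have hm₁ : m ≫ pullback.fst (g p.1 ≫ f) (g p.2 ≫ f) = pullback.fst (g p.1) (g p.2) :=
    (pullback.lift_fst _ _ _).trans (Category.comp_id _)
  have hm₂ : m ≫ pullback.snd (g p.1 ≫ f) (g p.2 ≫ f) = pullback.snd (g p.1) (g p.2) :=
    (pullback.lift_snd _ _ _).trans (Category.comp_id _)
  have hc₁ : c p ≫ pullback.fst f f = pullback.fst _ _ ≫ g p.1 := pullback.lift_fst _ _ _
  have hc₂ : c p ≫ pullback.snd f f = pullback.snd _ _ ≫ g p.2 := pullback.lift_snd _ _ _
  have sq : IsPullback (pullback.fst (g p.1) (g p.2) ≫ g p.1) m (pullback.diagonal f) (c p) := by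
    refine IsPullback.mk ⟨?_⟩ ⟨PullbackCone.IsLimit.mk _
      (fun s => pullback.lift (s.snd ≫ pullback.fst _ _) (s.snd ≫ pullback.snd _ _) ?_) (fun s => ?_)
      (fun s => ?_) (fun s l h₁ h₂ => ?_)⟩
    · refine pullback.hom_ext ?_ ?_
      · rw [Category.assoc, Category.assoc, pullback.diagonal_fst, Category.comp_id, Category.assoc, hc₁,
          ← Category.assoc m, hm₁]
      · rw [Category.assoc, Category.assoc, pullback.diagonal_snd, Category.comp_id, Category.assoc, hc₂,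
          ← Category.assoc m, hm₂, pullback.condition]
    · rw [Category.assoc, Category.assoc, ← hc₁, ← hc₂, ← Category.assoc, ← Category.assoc, ← s.condition,
        Category.assoc, Category.assoc, pullback.diagonal_fst, pullback.diagonal_snd]
    · have e : s.fst ≫ 𝟙 X = s.snd ≫ pullback.fst _ _ ≫ g p.1 := by
        rw [← pullback.diagonal_fst f, ← Category.assoc, s.condition, Category.assoc, hc₁]
      rw [Category.comp_id] at e
      rw [← Category.assoc, pullback.lift_fst, Category.assoc, e]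
    · refine pullback.hom_ext ?_ ?_
      · rw [Category.assoc, hm₁, pullback.lift_fst]
      · rw [Category.assoc, hm₂, pullback.lift_snd]
    · refine pullback.hom_ext ?_ ?_
      · rw [pullback.lift_fst, ← h₂, Category.assoc, hm₁]
      · rw [pullback.lift_snd, ← h₂, Category.assoc, hm₂]
  exact isQCHom_of_isPullback
    (IsPullback.of_horiz_isIso (fst := sq.isoPullback.inv) (snd := pullback.snd (pullback.diagonal f) (c p))
      (f := m) (g := 𝟙 _) ⟨by rw [Category.comp_id, IsPullback.isoPullback_inv_snd]⟩) (h m hm₁ hm₂)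

end DiagCover

lemma isQSHom_of_cover {P : Tp J → Prop} (hgen : GenBy J P) (hP : ∀ K, P K → IsQC K) {X Y : Tp J} {f : X ⟶ Y}
    {ι : Type u} {Xi : ι → Tp J} {g : ∀ i, Xi i ⟶ X} (hg : Covers g)
    (h : ∀ i j (m : pullback (g i) (g j) ⟶ pullback (g i ≫ f) (g j ≫ f)),
      m ≫ pullback.fst _ _ = pullback.fst _ _ → m ≫ pullback.snd _ _ = pullback.snd _ _ → IsQCHom m) :
    IsQSHom f :=
  isQCHom_of_locally_on_target hgen hP (covers_diagCover f hg) fun p => isQCHom_snd_diagCover f g p (h p.1 p.2)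

section DisjointCover

variable {ι : Type u} {F : ι → Tp J} {X : Tp J} {π : ∀ i, F i ⟶ X}

lemma IsDisjointCover.isQCHom_member (h : IsDisjointCover π) (i : ι) : IsQCHom (π i) := fun _ a hW =>
  isQC_of_iso (pullbackSymmetry a (π i))
    ((h.of_isPullback fun j => IsPullback.of_hasPullback a (π j)).isQC_member hW i)

lemma IsDisjointCover.isQCHom_of_target (hd : IsDisjointCover π) {Z : Tp J} {f : Z ⟶ X}
    (h : ∀ i, IsQCHom (pullback.snd f (π i))) : IsQCHom f := fun W a hW => by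
  have hdW := hd.of_isPullback fun j => IsPullback.of_hasPullback a (π j)
  obtain ⟨s, hs, -⟩ := hdW.finite_nonempty hW
  refine isQC_of_finite_covers (hs.pullback_left (pullback.snd f a)) fun i => ?_
  refine isQC_of_iso (pullbackLeftPullbackSndIso f a _).symm ?_
  refine isQC_of_iso (pullback.congrHom rfl pullback.condition.symm) ?_
  exact isQC_of_iso (pullbackLeftPullbackSndIso f (π i) _) (h i _ _ (hdW.isQC_member hW i))

lemma IsDisjointCover.isQS (hd : IsDisjointCover π) (h : ∀ i, IsQS (F i)) : IsQS X :=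
  isQS_iff.2 fun W a hW => by
    have hdW := hd.of_isPullback fun j => IsPullback.of_hasPullback a (π j)
    obtain ⟨s, hs, -⟩ := hdW.finite_nonempty hW
    refine isQCHom_of_cover_source hs fun i => ?_
    rw [pullback.condition]
    exact isQCHom_comp (isQS_iff.1 (h i) _ (pullback.snd a (π i)) (hdW.isQC_member hW i)) (hd.isQCHom_member i)

lemma isQCHom_of_isEmptySheaf {X Y : Tp J} (f : X ⟶ Y) (h : IsEmptySheaf X) : IsQCHom f := fun _ a _ =>
  isQC_of_isEmptySheaf (h.of_hom (pullback.fst f a))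

lemma IsDisjointCover.isQSHom (hd : IsDisjointCover π) {Y : Tp J} {f : X ⟶ Y}
    (h : ∀ i, IsQSHom (π i ≫ f)) : IsQSHom f := by
  refine (isDisjointCover_diagCover f hd).isQCHom_of_target fun p => isQCHom_snd_diagCover f π p ?_
  obtain ⟨i, j⟩ := p
  intro m hm₁ hm₂
  by_cases hij : i = j
  · subst hij
    have : Mono (π i) := hd.mono i
    have hm : m = pullback.fst (π i) (π i) ≫ pullback.diagonal (π i ≫ f) := by
      refine pullback.hom_ext ?_ ?_
      · rw [hm₁, Category.assoc, pullback.diagonal_fst, Category.comp_id]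
      · rw [hm₂, Category.assoc, pullback.diagonal_snd, Category.comp_id, ← fst_eq_snd_of_mono_eq]
    rw [hm]
    exact isQCHom_comp (isQCHom_of_isIso _) (h i)
  · refine isQCHom_of_isEmptySheaf m fun U s => hd.disj i j hij U (ap (pullback.fst (π i) (π j)) s)
      (ap (pullback.snd (π i) (π j)) s) ?_
    rw [← ap_comp, ← ap_comp, pullback.condition]

end DisjointCover

end Groth.SitesTopoi.Topos
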