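import Groth.Agent.SitesTopoi.Topos.FilteredHom
import Mathlib.CategoryTheory.Limits.Shapes.Pullback.HasPullback
import Mathlib.CategoryTheory.Limits.Types.Colimits

/-!
The comparison map from a colimit of hom-sets to the homs into a colimit.
-/

universe w u

open CategoryTheory CategoryTheory.Limits Opposite ToposFin

namespace Groth.SitesTopoi.Topos

variable {C : Type u} [SmallCategory C] {J : GrothendieckTopology C}

section Post

variable {I : Type u} [SmallCategory I] [IsFiltered I] (D : I ⥤ Tp J) (X : Tp J)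

/-- The element of the colimit of hom-sets given by a morphism to a stage. -/
noncomputable abbrev homClass {i : I} (a : X ⟶ D.obj i) : (colimit (D ⋙ coyoneda.obj (op X)) : Type u) :=
  colimit.ι (D ⋙ coyoneda.obj (op X)) i a

lemma post_homClass {i : I} (a : X ⟶ D.obj i) :
    colimit.post D (coyoneda.obj (op X)) (homClass D X a) = a ≫ colimit.ι D i :=
  types_comp_apply_congr (colimit.ι_post D (coyoneda.obj (op X)) i) a
where
  types_comp_apply_congr {A B : Type u} {f g : A ⟶ B} (h : f = g) (x : A) : f x = g x := by rw [h]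

lemma exists_homClass (x : (colimit (D ⋙ coyoneda.obj (op X)) : Type u)) :
    ∃ (i : I) (a : X ⟶ D.obj i), homClass D X a = x :=
  Types.jointly_surjective_of_isColimit (colimit.isColimit _) x

lemma homClass_eq_iff {i j : I} (a : X ⟶ D.obj i) (b : X ⟶ D.obj j) :
    homClass D X a = homClass D X b ↔ ∃ (l : I) (p : i ⟶ l) (q : j ⟶ l), a ≫ D.map p = b ≫ D.map q :=
  Types.FilteredColimit.colimit_eq_iff (D ⋙ coyoneda.obj (op X))

lemma bijective_post_iff :
    Function.Bijective (colimit.post D (coyoneda.obj (op X))) ↔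
      (∀ {i j : I} (a : X ⟶ D.obj i) (b : X ⟶ D.obj j), a ≫ colimit.ι D i = b ≫ colimit.ι D j →
        ∃ (l : I) (p : i ⟶ l) (q : j ⟶ l), a ≫ D.map p = b ≫ D.map q) ∧
      ∀ φ : X ⟶ colimit D, ∃ (i : I) (a : X ⟶ D.obj i), a ≫ colimit.ι D i = φ := by
  refine ⟨fun h => ⟨fun a b e => (homClass_eq_iff D X a b).1 (h.1 ?_), fun φ => ?_⟩, fun h => ⟨?_, fun φ => ?_⟩⟩
  · rw [post_homClass, post_homClass, e]
  · obtain ⟨x, hx⟩ := h.2 φ
    obtain ⟨i, a, rfl⟩ := exists_homClass D X x
    exact ⟨i, a, (post_homClass D X a).symm.trans hx⟩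
  · intro x y e
    obtain ⟨i, a, rfl⟩ := exists_homClass D X x
    obtain ⟨j, b, rfl⟩ := exists_homClass D X y
    rw [post_homClass, post_homClass] at e
    exact (homClass_eq_iff D X a b).2 (h.1 a b e)
  · obtain ⟨i, a, e⟩ := h.2 φ
    exact ⟨homClass D X a, (post_homClass D X a).trans e⟩

lemma injective_post_of_isQC (hX : IsQC X) : Function.Injective (colimit.post D (coyoneda.obj (op X))) := by
  intro x y e
  obtain ⟨i, a, rfl⟩ := exists_homClass D X x
  obtain ⟨j, b, rfl⟩ := exists_homClass D X y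
  rw [post_homClass, post_homClass] at e
  exact (homClass_eq_iff D X a b).2 (exists_comp_eq_of_isQC₂ (colimit.isColimit D) hX a b e)

lemma bijective_post_of_isCoherent {P : Tp J → Prop} (hgen : GenBy J P) (hP : ∀ K, P K → IsQC K)
    (hX : IsCoherent X) : Function.Bijective (colimit.post D (coyoneda.obj (op X))) :=
  (bijective_post_iff D X).2 ⟨fun a b e => exists_comp_eq_of_isQC₂ (colimit.isColimit D) hX.1 a b e,
    fun φ => exists_factor_of_isCoherent hgen hP (colimit.isColimit D) hX φ⟩

end Post

section Converse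

variable {X : Tp J} {ι : Type u} {F : ι → Tp J} (π : ∀ i, F i ⟶ X)

/-- The map from the sum of a finite part of a family. -/
noncomputable abbrev partDesc (s : Finset ι) : (∐ fun i : s => F i) ⟶ X := Sigma.desc fun i : s => π i

lemma comp_inl_eq_inr {s : Finset ι} (i : ι) (hi : i ∈ s) :
    π i ≫ pushout.inl (partDesc π s) (partDesc π s) = π i ≫ pushout.inr (partDesc π s) (partDesc π s) := by
  have h := Sigma.ι (fun i : s => F i) ⟨i, hi⟩ ≫= pushout.condition (f := partDesc π s) (g := partDesc π s)
  rwa [Sigma.ι_desc_assoc, Sigma.ι_desc_assoc] at h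

lemma partDesc_comp_eq {s t : Finset ι} (h : s ⊆ t) :
    partDesc π s ≫ pushout.inl (partDesc π t) (partDesc π t) =
      partDesc π s ≫ pushout.inr (partDesc π t) (partDesc π t) :=
  Sigma.hom_ext _ _ fun i => by rw [Sigma.ι_desc_assoc, Sigma.ι_desc_assoc, comp_inl_eq_inr π i.1 (h i.2)]

/-- The cokernel pairs of the finite parts of a family. -/
noncomputable def cokerPairs : Finset ι ⥤ Tp J where
  obj s := pushout (partDesc π s) (partDesc π s)
  map {s t} h := pushout.desc (pushout.inl _ _) (pushout.inr _ _) (partDesc_comp_eq π (leOfHom h))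
  map_id s := pushout.hom_ext (by rw [pushout.inl_desc, Category.comp_id])
    (by rw [pushout.inr_desc, Category.comp_id])
  map_comp f g := pushout.hom_ext (by rw [pushout.inl_desc, pushout.inl_desc_assoc, pushout.inl_desc])
    (by rw [pushout.inr_desc, pushout.inr_desc_assoc, pushout.inr_desc])

lemma isQC_of_forall_injective
    (h : ∀ (I : Type u) [SmallCategory I] [IsFiltered I] (D : I ⥤ Tp J),
      Function.Injective (colimit.post D (coyoneda.obj (op X)))) : IsQC X := by
  classical
  rw [isQC_iff]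
  intro ι F π hπ
  let D := cokerPairs π
  let a : ∀ s : Finset ι, X ⟶ D.obj s := fun s => pushout.inl (partDesc π s) (partDesc π s)
  let b : ∀ s : Finset ι, X ⟶ D.obj s := fun s => pushout.inr (partDesc π s) (partDesc π s)
  have hw : ∀ {s t : Finset ι} (r : s ⟶ t), a s ≫ D.map r = a t ∧ b s ≫ D.map r = b t := fun r =>
    ⟨pushout.inl_desc _ _ _, pushout.inr_desc _ _ _⟩
  have e : a ∅ ≫ colimit.ι D ∅ = b ∅ ≫ colimit.ι D ∅ := hπ.ext fun i => by
    have r : (∅ : Finset ι) ⟶ {i} := homOfLE (Finset.empty_subset _)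
    rw [← colimit.w D r, ← Category.assoc (a ∅), ← Category.assoc (b ∅), (hw r).1, (hw r).2,
      ← Category.assoc, ← Category.assoc]
    exact congrArg (· ≫ colimit.ι D {i}) (comp_inl_eq_inr π i (Finset.mem_singleton_self i))
  have e' : homClass D X (a ∅) = homClass D X (b ∅) :=
    h (Finset ι) D (by rw [post_homClass, post_homClass, e])
  obtain ⟨t, p, q, hpq⟩ := (homClass_eq_iff D X _ _).1 e'
  rw [(hw p).1, (hw q).2] at hpq
  refine ⟨t, covers_of_ext fun Z u v huv => ?_⟩
  have hs : partDesc π t ≫ u = partDesc π t ≫ v :=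
    Sigma.hom_ext _ _ fun i => by rw [Sigma.ι_desc_assoc, Sigma.ι_desc_assoc]; exact huv i
  calc u = a t ≫ pushout.desc u v hs := (pushout.inl_desc _ _ _).symm
    _ = b t ≫ pushout.desc u v hs := by rw [hpq]
    _ = v := pushout.inr_desc _ _ _

end Converse

end Groth.SitesTopoi.Topos
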