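import Groth.Prelude.Def_ToposFin2
import Groth.Agent.SitesTopoi.Topos.QC

/-!
Criteria for quasi-separated objects and morphisms of a topos.
-/

universe w u

open CategoryTheory CategoryTheory.Limits Opposite ToposFin

namespace Groth.SitesTopoi.Topos

variable {C : Type u} [SmallCategory C] {J : GrothendieckTopology C}

lemma covers_ulift_fin {n : ℕ} {F : Fin n → Tp J} {X : Tp J} {π : ∀ k, F k ⟶ X} (hπ : Epi (Sigma.desc π)) :
    Covers (fun k : ULift.{u} (Fin n) => π k.down) :=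
  covers_of_ext fun Z a b h => hπ.left_cancellation a b (Sigma.hom_ext _ _ fun k => by
    rw [← Category.assoc, ← Category.assoc, Sigma.ι_desc]; exact h ⟨k⟩)

lemma isDisjointCover_fin {n : ℕ} {X : Fin n → Tp J} {c : Cofan X} (hc : IsColimit c) :
    IsDisjointCover (fun i : ULift.{u} (Fin n) => c.inj i.down) :=
  isDisjointCover_of_isColimit_cofan (c := Cofan.mk c.pt fun i : ULift.{u} (Fin n) => c.inj i.down)
    (mkCofanColimit _ (fun s => Cofan.IsColimit.desc hc fun i => s.inj ⟨i⟩)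
      (fun _ j => Cofan.IsColimit.fac hc _ j.down)
      (fun _ _ h => Cofan.IsColimit.hom_ext hc _ _ fun i => by rw [Cofan.IsColimit.fac]; exact h ⟨i⟩))

lemma genBy_of_isGenerating {S : Set (Tp J)} (h : IsGenerating S) : GenBy J (fun K => K ∈ S) := fun X => by
  obtain ⟨ι, F, π, h1, h2⟩ := h X
  exact ⟨ι, F, π, h1, covers_of_ext h2⟩

lemma genBy_of_hasCoherentGenerators (h : HasCoherentGenerators J) : GenBy J IsCoherent := fun X => by
  obtain ⟨ι, F, π, h1, h2⟩ := h X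
  exact ⟨ι, F, π, h1, covers_iff_epi_desc.2 h2⟩

/-- A morphism from a quasi-compact object to a quasi-separated one is quasi-compact. -/
lemma isQCHom_of_isQC_of_isQS {X Y : Tp J} (f : X ⟶ Y) (hX : IsQC X) (hY : IsQS Y) : IsQCHom f :=
  isQS_iff.1 hY X f hX

lemma isQS_pullback_of_isQS_prod {A B Y : Tp J} (a : A ⟶ Y) (b : B ⟶ Y) (h : IsQS (A ⨯ B)) :
    IsQS (pullback a b) := by
  have : Mono (prod.lift (pullback.fst a b) (pullback.snd a b)) := ⟨fun u v e => pullback.hom_ext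
    (by have h' := e =≫ prod.fst; rwa [Category.assoc, Category.assoc, prod.lift_fst] at h')
    (by have h' := e =≫ prod.snd; rwa [Category.assoc, Category.assoc, prod.lift_snd] at h')⟩
  exact isQS_of_mono (prod.lift (pullback.fst a b) (pullback.snd a b)) h

lemma isQS_of_covers_qcHom {P : Tp J → Prop} (hgen : GenBy J P) (hP : ∀ K, P K → IsQC K) {Y : Tp J}
    {ι : Type u} {Yi : ι → Tp J} {g : ∀ i, Yi i ⟶ Y} (hg : Covers g) (hqs : ∀ i, IsQS (Yi i))
    (hqc : ∀ i, IsQCHom (g i)) : IsQS Y :=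
  isQS_iff.2 fun _ a hW => isQCHom_of_locally_on_target hgen hP hg fun i =>
    isQCHom_of_isQC_of_isQS _ (isQC_of_iso (pullbackSymmetry (g i) a) (hqc i _ a hW)) (hqs i)

lemma isQSHom_of_cover_qs {P : Tp J → Prop} (hgen : GenBy J P) (hP : ∀ K, P K → IsQC K) {X Y : Tp J}
    {f : X ⟶ Y} {ι : Type u} {Xi : ι → Tp J} {g : ∀ i, Xi i ⟶ X} (hg : Covers g) (hqc : ∀ i, IsQC (Xi i))
    (hqs : ∀ i j, IsQS (pullback (g i ≫ f) (g j ≫ f))) (hX : IsQS X) : IsQSHom f :=
  isQSHom_of_cover hgen hP hg fun i j m _ _ =>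
    isQCHom_of_isQC_of_isQS m (hX _ _ (g i) (g j) (hqc i) (hqc j)) (hqs i j)

lemma isQSHom_of_cover_qcHom {P : Tp J → Prop} (hgen : GenBy J P) (hP : ∀ K, P K → IsQC K) {X Y : Tp J}
    {f : X ⟶ Y} {ι : Type u} {Xi : ι → Tp J} {g : ∀ i, Xi i ⟶ X} (hg : Covers g) (hqc : ∀ i, IsQCHom (g i))
    (hqs : ∀ i, IsQSHom (g i ≫ f)) : IsQSHom f :=
  isQSHom_of_cover hgen hP hg fun i j m _ hm₂ =>
    isQCHom_of_comp (isQSHom_of_isPullback (IsPullback.of_hasPullback (g i ≫ f) (g j ≫ f)) (hqs i))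
      (hm₂ ▸ isQCHom_of_isPullback (IsPullback.of_hasPullback (g i) (g j)) (hqc i))

end Groth.SitesTopoi.Topos
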