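import Groth.Agent.SitesTopoi.Topos.HomColimit
import Groth.Agent.SitesTopoi.Topos.Algebraic
import Mathlib.CategoryTheory.Limits.Shapes.Equalizers

/-!
Objects of a topos as filtered colimits of coequalizers of coherent objects; objects of finite presentation.
-/

universe w u

open CategoryTheory CategoryTheory.Limits Opposite ToposFin

namespace Groth.SitesTopoi.Topos

variable {C : Type u} [SmallCategory C] {J : GrothendieckTopology C}

lemma isCoherent_sigma {ι : Type u} [Finite ι] {F : ι → Tp J} (h : ∀ i, IsCoherent (F i)) :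
    IsCoherent (∐ F) :=
  have hd := isDisjointCover_of_isColimit_cofan (coproductIsCoproduct F)
  ⟨isQC_of_finite_covers hd.covers fun i => (h i).1, hd.isQS fun i => (h i).2⟩

lemma isCoherent_of_retract {X Y : Tp J} {i : X ⟶ Y} {p : Y ⟶ X} (h : i ≫ p = 𝟙 X) (hY : IsCoherent Y) :
    IsCoherent X := by
  have : IsSplitMono i := ⟨⟨⟨p, h⟩⟩⟩
  have : IsSplitEpi p := ⟨⟨⟨i, h⟩⟩⟩
  exact ⟨isQC_of_epi p hY.1, isQS_of_mono i hY.2⟩

/-- Morphisms on the members of a covering family glue when they agree after covering the pullbacks. -/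
lemma Covers.glue_of_pullback {ι : Type w} {K : ι → Tp J} {X : Tp J} {π : ∀ i, K i ⟶ X} (h : Covers π)
    {κ : ι → ι → Type w} {R : ∀ i j, κ i j → Tp J} {σ : ∀ i j k, R i j k ⟶ pullback (π i) (π j)}
    (hσ : ∀ i j, Covers (σ i j)) {Z : Tp J} (φ : ∀ i, K i ⟶ Z)
    (hφ : ∀ i j k, σ i j k ≫ pullback.fst _ _ ≫ φ i = σ i j k ≫ pullback.snd _ _ ≫ φ j) :
    ∃ ψ : X ⟶ Z, ∀ i, π i ≫ ψ = φ i :=
  h.glue φ fun i j U a b e => by
    obtain ⟨z, hz₁, hz₂⟩ := pb_sec_lift (IsPullback.of_hasPullback (π i) (π j)) a b e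
    rw [← hz₁, ← hz₂, ← ap_comp, ← ap_comp, (hσ i j).ext (hφ i j)]

section Presentation

variable {ι : Type u} (K : ι → Tp J) {ρ : Type u} (R : ρ → Tp J) (src tgt : ρ → ι)
  (a : ∀ r, R r ⟶ K (src r)) (b : ∀ r, R r ⟶ K (tgt r))

/-- The objects occurring in a finite part of a presentation. -/
noncomputable def partObjs (T : Finset (ι ⊕ ρ)) : Finset ι :=
  haveI : DecidableEq ι := Classical.decEq ι
  T.toLeft ∪ T.toRight.image src ∪ T.toRight.image tgt

lemma partObjs_mono {S T : Finset (ι ⊕ ρ)} (h : S ⊆ T) : partObjs src tgt S ⊆ partObjs src tgt T := by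
  classical
  intro i hi
  simp only [partObjs, Finset.mem_union, Finset.mem_image, Finset.mem_toLeft, Finset.mem_toRight] at hi ⊢
  rcases hi with (hi | ⟨r, hr, e⟩) | ⟨r, hr, e⟩
  · exact .inl (.inl (h hi))
  · exact .inl (.inr ⟨r, h hr, e⟩)
  · exact .inr ⟨r, h hr, e⟩

lemma src_mem_partObjs {T : Finset (ι ⊕ ρ)} {r : ρ} (h : r ∈ T.toRight) : src r ∈ partObjs src tgt T := by
  classical
  simp only [partObjs, Finset.mem_union, Finset.mem_image]
  exact .inl (.inr ⟨r, h, rfl⟩)

lemma tgt_mem_partObjs {T : Finset (ι ⊕ ρ)} {r : ρ} (h : r ∈ T.toRight) : tgt r ∈ partObjs src tgt T := by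
  classical
  simp only [partObjs, Finset.mem_union, Finset.mem_image]
  exact .inr ⟨r, h, rfl⟩

/-- The sum of the objects of a finite part. -/
noncomputable abbrev partGen (T : Finset (ι ⊕ ρ)) : Tp J := ∐ fun i : partObjs src tgt T => K i

/-- The sum of the relations of a finite part. -/
noncomputable abbrev partRel (T : Finset (ι ⊕ ρ)) : Tp J := ∐ fun r : T.toRight => R r

/-- The first map of a finite part of a presentation. -/
noncomputable abbrev partA (T : Finset (ι ⊕ ρ)) : partRel R T ⟶ partGen K src tgt T :=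
  Sigma.desc fun r => a r.1 ≫ Sigma.ι (fun i : partObjs src tgt T => K i) ⟨src r.1, src_mem_partObjs src tgt r.2⟩

/-- The second map of a finite part of a presentation. -/
noncomputable abbrev partB (T : Finset (ι ⊕ ρ)) : partRel R T ⟶ partGen K src tgt T :=
  Sigma.desc fun r => b r.1 ≫ Sigma.ι (fun i : partObjs src tgt T => K i) ⟨tgt r.1, tgt_mem_partObjs src tgt r.2⟩

/-- The object presented by a finite part. -/
noncomputable abbrev partObj (T : Finset (ι ⊕ ρ)) : Tp J :=
  coequalizer (partA K R src tgt a T) (partB K R src tgt b T)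

/-- The canonical map of a generator to a finite part. -/
noncomputable def partι (T : Finset (ι ⊕ ρ)) {i : ι} (h : i ∈ partObjs src tgt T) :
    K i ⟶ partObj K R src tgt a b T :=
  Sigma.ι (fun i : partObjs src tgt T => K i) ⟨i, h⟩ ≫ coequalizer.π _ _

lemma partι_rel {T : Finset (ι ⊕ ρ)} {r : ρ} (h : r ∈ T.toRight) :
    a r ≫ partι K R src tgt a b T (src_mem_partObjs src tgt h) =
      b r ≫ partι K R src tgt a b T (tgt_mem_partObjs src tgt h) := by
  have e := Sigma.ι (fun r : T.toRight => R r) ⟨r, h⟩ ≫=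
    coequalizer.condition (partA K R src tgt a T) (partB K R src tgt b T)
  rwa [Sigma.ι_desc_assoc, Sigma.ι_desc_assoc, Category.assoc, Category.assoc] at e

lemma partObj_hom_ext {T : Finset (ι ⊕ ρ)} {Z : Tp J} {u v : partObj K R src tgt a b T ⟶ Z}
    (h : ∀ i (hi : i ∈ partObjs src tgt T),
      partι K R src tgt a b T hi ≫ u = partι K R src tgt a b T hi ≫ v) : u = v :=
  coequalizer.hom_ext (Sigma.hom_ext _ _ fun i => by
    simpa only [partι, Category.assoc] using h i.1 i.2)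

/-- Maps out of a finite part. -/
noncomputable def partObjDesc {T : Finset (ι ⊕ ρ)} {Z : Tp J} (φ : ∀ i, i ∈ partObjs src tgt T → (K i ⟶ Z))
    (hφ : ∀ r (h : r ∈ T.toRight), a r ≫ φ _ (src_mem_partObjs src tgt h) = b r ≫ φ _ (tgt_mem_partObjs src tgt h)) :
    partObj K R src tgt a b T ⟶ Z :=
  coequalizer.desc (Sigma.desc fun i => φ i.1 i.2) (Sigma.hom_ext _ _ fun r => by
    rw [Sigma.ι_desc_assoc, Sigma.ι_desc_assoc, Category.assoc, Category.assoc, Sigma.ι_desc, Sigma.ι_desc]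
    exact hφ r.1 r.2)

@[reassoc]
lemma partι_desc {T : Finset (ι ⊕ ρ)} {Z : Tp J} (φ : ∀ i, i ∈ partObjs src tgt T → (K i ⟶ Z)) (hφ)
    {i : ι} (hi : i ∈ partObjs src tgt T) :
    partι K R src tgt a b T hi ≫ partObjDesc K R src tgt a b φ hφ = φ i hi := by
  rw [partι, partObjDesc, Category.assoc, coequalizer.π_desc, Sigma.ι_desc]

/-- The finite parts of a presentation, as a filtered diagram. -/
noncomputable def partDiagram : Finset (ι ⊕ ρ) ⥤ Tp J where
  obj := partObj K R src tgt a b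
  map {S T} h := partObjDesc K R src tgt a b
    (fun i hi => partι K R src tgt a b T (partObjs_mono src tgt (leOfHom h) hi))
    (fun r hr => partι_rel K R src tgt a b (Finset.mem_toRight.2 (leOfHom h (Finset.mem_toRight.1 hr))))
  map_id T := partObj_hom_ext K R src tgt a b fun i hi => by rw [partι_desc, Category.comp_id]
  map_comp f g := partObj_hom_ext K R src tgt a b fun i hi => by
    rw [partι_desc, partι_desc_assoc, partι_desc]

variable {X : Tp J} (π : ∀ i, K i ⟶ X) (w : ∀ r, a r ≫ π (src r) = b r ≫ π (tgt r))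

/-- The cocone of finite parts. -/
noncomputable def partCocone : Cocone (partDiagram K R src tgt a b) where
  pt := X
  ι :=
    { app := fun T => partObjDesc K R src tgt a b (fun i _ => π i) fun r _ => w r
      naturality := fun S T h => partObj_hom_ext K R src tgt a b fun i hi => by
        simp only [partDiagram, Functor.const_obj_map, partι_desc, partι_desc_assoc]
        exact (Category.comp_id _).symm }

lemma left_mem_partObjs (i : ι) : i ∈ partObjs src tgt ({Sum.inl i} : Finset (ι ⊕ ρ)) := by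
  classical
  simp [partObjs]

/-- A presentation exhibits its object as the filtered colimit of its finite parts. -/
noncomputable def partIsColimit (hπ : Covers π)
    (hglue : ∀ (Z : Tp J) (φ : ∀ i, K i ⟶ Z), (∀ r, a r ≫ φ (src r) = b r ≫ φ (tgt r)) →
      ∃ ψ : X ⟶ Z, ∀ i, π i ≫ ψ = φ i) :
    IsColimit (partCocone K R src tgt a b π w) := by
  classical
  have hnat : ∀ (s : Cocone (partDiagram K R src tgt a b)) {S T : Finset (ι ⊕ ρ)} (h : S ⊆ T) {i : ι}
      (hi : i ∈ partObjs src tgt S),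
      partι K R src tgt a b T (partObjs_mono src tgt h hi) ≫ s.ι.app T =
        partι K R src tgt a b S hi ≫ s.ι.app S := fun s S T h i hi => by
    rw [← s.w (homOfLE h)]
    simp only [partDiagram, partι_desc_assoc]
  have hφ : ∀ (s : Cocone (partDiagram K R src tgt a b)) r,
      a r ≫ partι K R src tgt a b {Sum.inl (src r)} (left_mem_partObjs src tgt (src r)) ≫ s.ι.app _ =
        b r ≫ partι K R src tgt a b {Sum.inl (tgt r)} (left_mem_partObjs src tgt (tgt r)) ≫ s.ι.app _ := by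
    intro s r
    let T : Finset (ι ⊕ ρ) := {Sum.inr r, Sum.inl (src r), Sum.inl (tgt r)}
    have hr : r ∈ T.toRight := Finset.mem_toRight.2 (Finset.mem_insert_self _ _)
    rw [← hnat s (T := T) (Finset.singleton_subset_iff.2 (by simp [T])) (left_mem_partObjs src tgt (src r)),
      ← hnat s (T := T) (Finset.singleton_subset_iff.2 (by simp [T])) (left_mem_partObjs src tgt (tgt r)),
      ← Category.assoc, ← Category.assoc]
    exact congrArg (· ≫ s.ι.app T) (partι_rel K R src tgt a b hr)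
  refine
    { desc := fun s => (hglue s.pt (fun i => partι K R src tgt a b {Sum.inl i} (left_mem_partObjs src tgt i) ≫
        s.ι.app _) (hφ s)).choose
      fac := fun s T => partObj_hom_ext K R src tgt a b fun i hi => ?_
      uniq := fun s m hm => hπ.ext fun i => ?_ }
  · change partι K R src tgt a b T hi ≫ partObjDesc K R src tgt a b (fun i _ => π i) (fun r _ => w r) ≫ _ = _
    rw [partι_desc_assoc,
      (hglue s.pt _ (hφ s)).choose_spec i]
    have h1 := hnat s (S := {Sum.inl i}) (T := insert (Sum.inl i) T)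
      (Finset.singleton_subset_iff.2 (Finset.mem_insert_self _ _)) (left_mem_partObjs src tgt i)
    have h2 := hnat s (S := T) (T := insert (Sum.inl i) T) (Finset.subset_insert _ _) hi
    exact h1.symm.trans h2
  · rw [(hglue s.pt _ (hφ s)).choose_spec i, ← hm]
    change _ = partι K R src tgt a b _ _ ≫ partObjDesc K R src tgt a b (fun i _ => π i) (fun r _ => w r) ≫ m
    rw [partι_desc_assoc]

end Presentation

/-- An object is presented by coherent objects when it is a coequalizer of two maps between coherent objects. -/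
def IsCoherentCoeq (X : Tp J) : Prop :=
  ∃ (X₀ X₁ : Tp J) (a b : X₁ ⟶ X₀), IsCoherent X₀ ∧ IsCoherent X₁ ∧ Nonempty (X ≅ coequalizer a b)

lemma exists_filtered_presentation (hgen : GenBy J IsCoherent) (X : Tp J) :
    ∃ (I : Type u) (_ : SmallCategory I) (_ : IsFiltered I) (D : I ⥤ Tp J) (c : Cocone D) (_ : IsColimit c),
      c.pt = X ∧ ∀ i, IsCoherentCoeq (D.obj i) := by
  classical
  obtain ⟨ι, K, π, hK, hπ⟩ := hgen X
  choose κ R σ hR hσ using fun p : ι × ι => hgen (pullback (π p.1) (π p.2))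
  let a : ∀ r : (Σ p : ι × ι, κ p), R r.1 r.2 ⟶ K r.1.1 := fun r => σ r.1 r.2 ≫ pullback.fst _ _
  let b : ∀ r : (Σ p : ι × ι, κ p), R r.1 r.2 ⟶ K r.1.2 := fun r => σ r.1 r.2 ≫ pullback.snd _ _
  have w : ∀ r, a r ≫ π r.1.1 = b r ≫ π r.1.2 := fun r => by
    simp only [a, b, Category.assoc, pullback.condition]
  refine ⟨Finset (ι ⊕ Σ p : ι × ι, κ p), inferInstance, inferInstance,
    partDiagram K (fun r => R r.1 r.2) (fun r => r.1.1) (fun r => r.1.2) a b,
    partCocone K _ _ _ a b π w,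
    partIsColimit K _ _ _ a b π w hπ fun Z φ hφ => ?_, rfl, fun T => ?_⟩
  · refine hπ.glue_of_pullback (fun i j => hσ (i, j)) φ fun i j k => ?_
    simpa only [a, b, Category.assoc] using hφ ⟨(i, j), k⟩
  · exact ⟨_, _, _, _, isCoherent_sigma fun (i : partObjs _ _ T) => hK i.1,
      isCoherent_sigma fun (r : T.toRight) => hR r.1.1 r.1.2,
      ⟨Iso.refl _⟩⟩

lemma isFP_of_retract {X Y : Tp J} {i : X ⟶ Y} {p : Y ⟶ X} (h : i ≫ p = 𝟙 X) (hY : IsFP Y) : IsFP X := by
  intro I _ _ D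
  obtain ⟨h₁, h₂⟩ := (bijective_post_iff D Y).1 (hY I D)
  refine (bijective_post_iff D X).2 ⟨fun {k l} x y e => ?_, fun φ => ?_⟩
  · obtain ⟨m, r, s, hrs⟩ := h₁ (p ≫ x) (p ≫ y) (by rw [Category.assoc, Category.assoc, e])
    refine ⟨m, r, s, ?_⟩
    have := i ≫= hrs
    simpa only [Category.assoc, reassoc_of% h] using this
  · obtain ⟨k, x, hx⟩ := h₂ (p ≫ φ)
    exact ⟨k, i ≫ x, by rw [Category.assoc, hx, reassoc_of% h]⟩

lemma isFP_coequalizer {X₀ X₁ : Tp J} (a b : X₁ ⟶ X₀) (h₀ : IsFP X₀) (h₁ : IsFP X₁) :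
    IsFP (coequalizer a b) := by
  intro I _ _ D
  obtain ⟨i₀, s₀⟩ := (bijective_post_iff D X₀).1 (h₀ I D)
  obtain ⟨i₁, -⟩ := (bijective_post_iff D X₁).1 (h₁ I D)
  refine (bijective_post_iff D _).2 ⟨fun {k l} x y e => ?_, fun φ => ?_⟩
  · obtain ⟨m, r, s, hrs⟩ := i₀ (coequalizer.π a b ≫ x) (coequalizer.π a b ≫ y)
      (by rw [Category.assoc, Category.assoc, e])
    exact ⟨m, r, s, coequalizer.hom_ext (by simpa only [Category.assoc] using hrs)⟩
  · obtain ⟨k, x, hx⟩ := s₀ (coequalizer.π a b ≫ φ)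
    obtain ⟨m, r, s, hrs⟩ := i₁ (a ≫ x) (b ≫ x)
      (by rw [Category.assoc, Category.assoc, hx, coequalizer.condition_assoc])
    obtain ⟨n, t, ht⟩ : ∃ (n : I) (t : m ⟶ n), r ≫ t = s ≫ t :=
      ⟨_, IsFiltered.coeqHom r s, IsFiltered.coeq_condition r s⟩
    have he : a ≫ x ≫ D.map (r ≫ t) = b ≫ x ≫ D.map (r ≫ t) := by
      have := hrs =≫ D.map t
      simp only [Category.assoc, ← D.map_comp] at this
      rw [this, ht]
    refine ⟨n, coequalizer.desc (x ≫ D.map (r ≫ t)) he, coequalizer.hom_ext ?_⟩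
    rw [coequalizer.π_desc_assoc, Category.assoc, colimit.w, hx]

lemma isFP_iff_retract (hgen : GenBy J IsCoherent) (X : Tp J) :
    IsFP X ↔ ∃ (X₀ X₁ : Tp J) (a b : X₁ ⟶ X₀) (i : X ⟶ coequalizer a b) (p : coequalizer a b ⟶ X),
      IsCoherent X₀ ∧ IsCoherent X₁ ∧ i ≫ p = 𝟙 X := by
  have hcoh : ∀ K : Tp J, IsCoherent K → IsFP K := fun K hK I _ _ D =>
    bijective_post_of_isCoherent D K (hgen.mono fun _ h => h.1) (fun _ h => h) hK
  refine ⟨fun hX => ?_, fun ⟨X₀, X₁, a, b, i, p, h₀, h₁, e⟩ =>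
    isFP_of_retract e (isFP_coequalizer a b (hcoh _ h₀) (hcoh _ h₁))⟩
  obtain ⟨I, _, _, D, c, hc, rfl, hD⟩ := exists_filtered_presentation hgen X
  let e := hc.coconePointUniqueUpToIso (colimit.isColimit D)
  obtain ⟨k, x, hx⟩ := ((bijective_post_iff D c.pt).1 (hX I D)).2 e.hom
  obtain ⟨X₀, X₁, a, b, h₀, h₁, ⟨f⟩⟩ := hD k
  refine ⟨X₀, X₁, a, b, x ≫ f.hom, f.inv ≫ colimit.ι D k ≫ e.inv, h₀, h₁, ?_⟩
  rw [Category.assoc, Iso.hom_inv_id_assoc, reassoc_of% hx, Iso.hom_inv_id]

/-- The objects of a generating class closed under pullbacks and finite colimits contain all coherent objects. -/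
lemma exists_finite_presentation {P : Tp J → Prop} (hgen : GenBy J P) (hP : ∀ K, P K → IsQC K) {X : Tp J}
    (hX : IsCoherent X) :
    ∃ (ι ρ : Type u) (_ : Finite ι) (_ : Finite ρ) (K : ι → Tp J) (R : ρ → Tp J) (a b : (∐ R) ⟶ ∐ K),
      (∀ i, P (K i)) ∧ (∀ r, P (R r)) ∧ Nonempty (X ≅ coequalizer a b) := by
  obtain ⟨ι, hι, K, π, hK, hπ⟩ := exists_finite_cover_of_isQC hgen hX.1
  choose κ hκ R σ hR hσ using fun p : ι × ι =>
    exists_finite_cover_of_isQC hgen (hX.2 _ _ (π p.1) (π p.2) (hP _ (hK p.1)) (hP _ (hK p.2)))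
  let a : (∐ fun r : (Σ p : ι × ι, κ p) => R r.1 r.2) ⟶ ∐ K :=
    Sigma.desc fun r => σ r.1 r.2 ≫ pullback.fst _ _ ≫ Sigma.ι K r.1.1
  let b : (∐ fun r : (Σ p : ι × ι, κ p) => R r.1 r.2) ⟶ ∐ K :=
    Sigma.desc fun r => σ r.1 r.2 ≫ pullback.snd _ _ ≫ Sigma.ι K r.1.2
  let p : coequalizer a b ⟶ X := coequalizer.desc (Sigma.desc π) (Sigma.hom_ext _ _ fun r => by
    simp only [a, b, Sigma.ι_desc_assoc, Category.assoc, Sigma.ι_desc, pullback.condition])
  obtain ⟨q, hq⟩ := hπ.glue_of_pullback (fun i j => hσ (i, j))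
    (fun i => Sigma.ι K i ≫ coequalizer.π a b) (fun i j k => by
      have := Sigma.ι (fun r : (Σ p : ι × ι, κ p) => R r.1 r.2) ⟨(i, j), k⟩ ≫= coequalizer.condition a b
      simpa only [a, b, Sigma.ι_desc_assoc, Category.assoc] using this)
  refine ⟨ι, Σ p : ι × ι, κ p, hι, inferInstance, K, fun r => R r.1 r.2, a, b, hK, fun r => hR r.1 r.2,
    ⟨⟨q, p, hπ.ext fun i => ?_, coequalizer.hom_ext (Sigma.hom_ext _ _ fun i => ?_)⟩⟩⟩
  · rw [reassoc_of% (hq i), Category.comp_id, coequalizer.π_desc, Sigma.ι_desc]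
  · rw [coequalizer.π_desc_assoc, Sigma.ι_desc_assoc, hq, Category.comp_id]

end Groth.SitesTopoi.Topos
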