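import Groth.Agent.SitesTopoi.Topos.GiraudAxioms
import Groth.Agent.SitesTopoi.Topos.Giraud

/-!
Giraud's theorem: a category satisfying Giraud's axioms is a category of sheaves on a small site.
-/

universe u v

open CategoryTheory CategoryTheory.Limits Opposite

namespace Groth.SitesTopoi.Topos

/-- The hypotheses of Giraud's theorem, with a chosen small generating family. -/
structure GiraudData (E : Type v) [Category.{u} E] [HasFiniteLimits E] where
  hb : SGA4.HasDisjointUniversalCoproducts.{v, u} E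
  hc : EquivRelEffective E
  {I : Type u}
  Gen : I → E
  hdet : ∀ ⦃X Y : E⦄ (f : X ⟶ Y), (∀ (i : I) (h : Gen i ⟶ Y), ∃! h' : Gen i ⟶ X, h' ≫ f = h) → IsIso f

namespace GiraudData

variable {E : Type v} [Category.{u} E] [HasFiniteLimits E] (D : GiraudData E)

/-- The generating category. -/
abbrev Site : Type u := InducedCategory E D.Gen

lemma cov_gen (X : E) : IsCov (fun p : Σ i : D.Site, (D.Gen i ⟶ X) => p.2) := isCov_gen D.hdet X

/-- The arrows of a sieve, seen in the ambient category. -/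
abbrev sieveFam {X : D.Site} (S : Sieve X) :
    ∀ p : {p : Σ Y : D.Site, Y ⟶ X // S p.2}, D.Gen p.1.1 ⟶ D.Gen X := fun p => p.1.2.hom

lemma isCov_sieveFam_of_comp_gen {X : D.Site} (S : Sieve X) {ι : Type u} {F : ι → E}
    {g : ∀ i, F i ⟶ D.Gen X} (hg : IsCov g)
    (h : ∀ i (j : D.Site) (k : D.Gen j ⟶ F i), S (InducedCategory.homMk (k ≫ g i) : j ⟶ X)) :
    IsCov (D.sieveFam S) :=
  (hg.comp fun i => D.cov_gen (F i)).refine' fun p =>
    ⟨⟨⟨p.2.1, InducedCategory.homMk (p.2.2 ≫ g p.1)⟩, h p.1 p.2.1 p.2.2⟩, 𝟙 _, Category.id_comp _⟩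

/-- The topology on the generators. -/
def topology : GrothendieckTopology D.Site where
  sieves X := {S | IsCov (D.sieveFam S)}
  top_mem' X := fun M m _ hf => by
    obtain ⟨k, hk⟩ := hf ⟨⟨X, 𝟙 X⟩, trivial⟩
    have : IsSplitEpi m := ⟨⟨⟨k, hk⟩⟩⟩
    exact isIso_of_mono_of_isSplitEpi m
  pullback_stable' X Y S f hS := by
    refine D.isCov_sieveFam_of_comp_gen _ (IsCov.pullback D.hb D.hc hS f.hom) fun p j k => ?_
    have e : (InducedCategory.homMk (k ≫ pullback.fst f.hom (D.sieveFam S p)) : j ⟶ Y) ≫ f =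
        (InducedCategory.homMk (k ≫ pullback.snd f.hom (D.sieveFam S p)) : j ⟶ p.1.1) ≫ p.1.2 := by
      ext
      simp [pullback.condition]
    change S (_ ≫ f)
    rw [e]
    exact S.downward_closed p.2 _
  transitive' X S hS R hR := (hS.comp fun p => hR p.2).refine' fun q =>
    ⟨⟨⟨q.2.1.1, q.2.1.2 ≫ q.1.1.2⟩, q.2.2⟩, 𝟙 _, Category.id_comp _⟩

/-- The restricted Yoneda embedding. -/
def presheaf : E ⥤ D.Siteᵒᵖ ⥤ Type u :=
  yoneda ⋙ (Functor.whiskeringLeft _ _ _).obj (inducedFunctor D.Gen).op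

lemma isSheaf_presheaf (W : E) : Presheaf.IsSheaf D.topology (D.presheaf.obj W) := by
  rw [isSheaf_iff_isSheaf_of_type]
  intro X S hS x hx
  obtain ⟨ψ, hψ⟩ := IsCov.glue D.hb D.hc (hS : IsCov (D.sieveFam S)) (fun p => x p.1.2 p.2) fun p q T a b e =>
    (D.cov_gen T).ext fun r => by
      have h := hx (InducedCategory.homMk (r.2 ≫ a) : r.1 ⟶ p.1.1)
        (InducedCategory.homMk (r.2 ≫ b) : r.1 ⟶ q.1.1) p.2 q.2
        (InducedCategory.hom_ext (by
          change (r.2 ≫ a) ≫ p.1.2.hom = (r.2 ≫ b) ≫ q.1.2.hom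
          rw [Category.assoc, Category.assoc, e]))
      change (r.2 ≫ a) ≫ _ = (r.2 ≫ b) ≫ _ at h
      simpa only [Category.assoc] using h
  exact ⟨ψ, fun Y f hf => hψ ⟨⟨Y, f⟩, hf⟩,
    fun t ht => (hS : IsCov (D.sieveFam S)).ext fun p => (ht p.1.2 p.2).trans (hψ p).symm⟩

/-- The comparison functor. -/
def toSheaf : E ⥤ Sheaf D.topology (Type u) where
  obj W := ⟨D.presheaf.obj W, D.isSheaf_presheaf W⟩
  map f := ⟨D.presheaf.map f⟩

instance : D.toSheaf.Faithful where
  map_injective {X _} f g h := (D.cov_gen X).ext fun p => congrArg (fun φ => ap φ p.2) h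

instance : D.toSheaf.Full where
  map_surjective {X Y} η := by
    let x : ∀ p : Σ i : D.Site, (D.Gen i ⟶ X), D.Gen p.1 ⟶ Y := fun p => ap η (p.2 : _)
    obtain ⟨ψ, hψ⟩ := IsCov.glue D.hb D.hc (D.cov_gen X) x fun p q T a b e =>
      (D.cov_gen T).ext fun r => by
        have h₁ := ap_rs η (InducedCategory.homMk (r.2 ≫ a) : r.1 ⟶ p.1) (p.2 : _)
        have h₂ := ap_rs η (InducedCategory.homMk (r.2 ≫ b) : r.1 ⟶ q.1) (q.2 : _)
        change r.2 ≫ a ≫ x p = r.2 ≫ b ≫ x q
        rw [← Category.assoc, ← Category.assoc]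
        refine h₁.symm.trans ((congrArg (fun t => ap η t) ?_).trans h₂)
        change (r.2 ≫ a) ≫ p.2 = (r.2 ≫ b) ≫ q.2
        rw [Category.assoc, Category.assoc, e]
    exact ⟨ψ, hom_ext_ap fun i h => hψ ⟨i, h⟩⟩

variable (F : Sheaf D.topology (Type u))

/-- The index type of sections. -/
abbrev El : Type u := Σ i : D.Site, F.obj.obj (op i)

lemma bot_mem_of_isCov_empty {m : D.Site}
    (h : IsCov (fun i : PEmpty.{u + 1} => (i.elim : D.Gen m ⟶ D.Gen m))) : (⊥ : Sieve m) ∈ D.topology m :=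
  h.refine' (g' := D.sieveFam ⊥) fun i => i.elim

variable {F} {c : Cofan fun p : D.El F => D.Gen p.1} (hcc : IsColimit c)
  (hd : CoproductDisjoint fun p : D.El F => D.Gen p.1)

/-- The value of a section of the covering coproduct. -/
def IsVal {i : D.Site} (a : D.Gen i ⟶ c.pt) (z : F.obj.obj (op i)) : Prop :=
  ∀ (m : D.Site) (g : m ⟶ i) (p : D.El F) (l : m ⟶ p.1), l.hom ≫ c.inj p = g.hom ≫ a → rs F g z = rs F l p.2

/-- The sieve of arrows along which a map into the coproduct lands in a summand. -/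
def factorSieve {i : D.Site} (a : D.Gen i ⟶ c.pt) : Sieve i where
  arrows m g := ∃ (p : D.El F) (l : m ⟶ p.1), l.hom ≫ c.inj p = g.hom ≫ a
  downward_closed {m n g} := by
    rintro ⟨p, l, e⟩ k
    exact ⟨p, k ≫ l, by rw [InducedCategory.comp_hom, InducedCategory.comp_hom, Category.assoc, e, Category.assoc]⟩

variable (hu : ∀ {T : E} (t : T ⟶ c.pt), IsCov (fun p : D.El F => pullback.fst t (c.inj p)))

include hu in
lemma factorSieve_mem {i : D.Site} (a : D.Gen i ⟶ c.pt) : D.factorSieve a ∈ D.topology i :=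
  D.isCov_sieveFam_of_comp_gen _ (hu a) fun p j k =>
    ⟨p, InducedCategory.homMk (k ≫ pullback.snd a (c.inj p)), by simp [pullback.condition]⟩

include hcc hd in
lemma rs_eq_of_inj_eq {m : D.Site} {p q : D.El F} (l : m ⟶ p.1) (l' : m ⟶ q.1)
    (e : l.hom ≫ c.inj p = l'.hom ≫ c.inj q) : rs F l p.2 = rs F l' q.2 := by
  by_cases h : p = q
  · subst h
    have : Mono (c.inj p) := Mono.of_coproductDisjoint hcc p
    rw [InducedCategory.hom_ext ((cancel_mono (c.inj p)).1 e)]
  · exact eq_of_bot_mem F (D.bot_mem_of_isCov_empty (isCov_empty_of_disjoint D.hb hcc hd h e)) _ _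

include hcc hd hu in
lemma existsUnique_isVal {i : D.Site} (a : D.Gen i ⟶ c.pt) : ∃! z, D.IsVal a z := by
  have hS := D.factorSieve_mem hu a
  let x : Presieve.FamilyOfElements F.obj (D.factorSieve a : Presieve i) := fun _ _ hg =>
    rs F hg.choose_spec.choose hg.choose.2
  have hx : x.Compatible := by
    intro _ _ n g₁ g₂ f₁ f₂ h₁ h₂ e
    change rs F g₁ (rs F h₁.choose_spec.choose h₁.choose.2) = rs F g₂ (rs F h₂.choose_spec.choose h₂.choose.2)
    rw [rs_rs, rs_rs]
    refine D.rs_eq_of_inj_eq hcc hd _ _ ?_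
    rw [InducedCategory.comp_hom, InducedCategory.comp_hom, Category.assoc, Category.assoc,
      h₁.choose_spec.choose_spec, h₂.choose_spec.choose_spec, ← Category.assoc, ← Category.assoc,
      ← InducedCategory.comp_hom, ← InducedCategory.comp_hom, e]
  refine ⟨(isSheafFor hS).amalgamate x hx, fun m g p l e => ?_, fun z hz => sec_ext F hS fun m g hg => ?_⟩
  · refine ((isSheafFor hS).valid_glue hx g ⟨p, l, e⟩).trans (D.rs_eq_of_inj_eq hcc hd _ _ ?_)
    exact (Exists.choose_spec (Exists.choose_spec (⟨p, l, e⟩ : D.factorSieve a g))).trans e.symm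
  · exact (hz m g _ _ hg.choose_spec.choose_spec).trans ((isSheafFor hS).valid_glue hx g hg).symm

include hcc hd hu in
lemma exists_val : ∃ val : ∀ {i : D.Site}, (D.Gen i ⟶ c.pt) → F.obj.obj (op i),
    (∀ (p : D.El F), val (c.inj p) = p.2) ∧
    (∀ {i m : D.Site} (g : m ⟶ i) (a : D.Gen i ⟶ c.pt), val (g.hom ≫ a) = rs F g (val a)) := by
  refine ⟨fun {i} a => (D.existsUnique_isVal hcc hd hu a).choose, fun p => ?_, fun {i m} g a => ?_⟩
  · have h := (D.existsUnique_isVal hcc hd hu (c.inj p)).choose_spec.1 p.1 (𝟙 _) p (𝟙 _) rfl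
    simpa only [rs_id] using h
  · refine ((D.existsUnique_isVal hcc hd hu (g.hom ≫ a)).choose_spec.2 _ fun n k p l e => ?_).symm
    rw [rs_rs]
    refine (D.existsUnique_isVal hcc hd hu a).choose_spec.1 n (k ≫ g) p l ?_
    rw [e, InducedCategory.comp_hom, Category.assoc]

include D in
lemma exists_iso_toSheaf (F : Sheaf D.topology (Type u)) : ∃ B : E, Nonempty (D.toSheaf.obj B ≅ F) := by
  obtain ⟨c, ⟨hcc⟩, hd, hu⟩ := exists_pullback_cofan D.hb fun p : D.El F => D.Gen p.1
  obtain ⟨val, val_inj, val_rs⟩ := D.exists_val hcc hd hu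
  let Q := {q : Σ (k : D.Site) (p p' : D.El F), (k ⟶ p.1) × (k ⟶ p'.1) //
    rs F q.2.2.2.1 q.2.1.2 = rs F q.2.2.2.2 q.2.2.1.2}
  obtain ⟨c₀, ⟨hc₀⟩, -, hu₀⟩ := exists_pullback_cofan D.hb fun q : Q => D.Gen q.1.1
  obtain ⟨R, π₀, ρ, hπρ, hρ, hcov₀, -⟩ := exists_image D.hc
    (Cofan.IsColimit.desc hc₀ fun q : Q =>
      prod.lift (q.1.2.2.2.1.hom ≫ c.inj q.1.2.1) (q.1.2.2.2.2.hom ≫ c.inj q.1.2.2.1))
  have hinjQ : ∀ q : Q, (c₀.inj q ≫ π₀) ≫ ρ =
      prod.lift (q.1.2.2.2.1.hom ≫ c.inj q.1.2.1) (q.1.2.2.2.2.hom ≫ c.inj q.1.2.2.1) := fun q => by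
    rw [Category.assoc, hπρ, Cofan.IsColimit.fac]
  -- the relation on points coming from generators
  have hrel : ∀ {i : D.Site} (a b : D.Gen i ⟶ c.pt), (∃ k, k ≫ ρ = prod.lift a b) ↔ val a = val b := by
    intro i a b
    constructor
    · rintro ⟨k, hk⟩
      let S : Sieve i :=
        { arrows := fun m g => rs F g (val a) = rs F g (val b)
          downward_closed := fun {m n g} h l => by rw [← rs_rs, h, rs_rs] }
      suffices hS : S ∈ D.topology i from sec_ext F hS fun _ _ h => h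
      refine D.isCov_sieveFam_of_comp_gen S
        ((hcov₀ k).comp fun _ => hu₀ (pullback.fst π₀ k)) fun ⟨_, q⟩ j l => ?_
      let g : j ⟶ i := InducedCategory.homMk
        (l ≫ pullback.fst (pullback.fst π₀ k) (c₀.inj q) ≫ pullback.snd π₀ k)
      let h : j ⟶ q.1.1 := InducedCategory.homMk (l ≫ pullback.snd (pullback.fst π₀ k) (c₀.inj q))
      change rs F g (val a) = rs F g (val b)
      have e : g.hom ≫ k = h.hom ≫ c₀.inj q ≫ π₀ := by
        simp only [g, h, InducedCategory.homMk_hom, Category.assoc]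
        rw [← pullback.condition, pullback.condition_assoc]
      have e' := congrArg (· ≫ ρ) e
      simp only [Category.assoc, hk] at e'
      rw [← Category.assoc (c₀.inj q), hinjQ] at e'
      have ea := congrArg (· ≫ prod.fst) e'
      have eb := congrArg (· ≫ prod.snd) e'
      simp only [Category.assoc, prod.lift_fst, prod.lift_snd] at ea eb
      rw [← val_rs, ← val_rs, ea, eb, val_rs, val_rs, val_rs, val_rs, val_inj, val_inj]
      exact congrArg (rs F h) q.2
    · intro e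
      have hS := D.topology.intersection_covering (D.factorSieve_mem hu a) (D.factorSieve_mem hu b)
      have : IsIso (pullback.fst (prod.lift a b) ρ) := (hS : IsCov (D.sieveFam _)) _ inferInstance fun p => by
        obtain ⟨⟨m, g⟩, ⟨x, l, hl⟩, ⟨y, r, hr⟩⟩ := p
        have hq : rs F l x.2 = rs F r y.2 := by
          rw [← val_inj x, ← val_inj y, ← val_rs, ← val_rs, hl, hr, val_rs, val_rs, e]
        refine ⟨pullback.lift g.hom (c₀.inj ⟨⟨m, x, y, l, r⟩, hq⟩ ≫ π₀) ?_, pullback.lift_fst _ _ _⟩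
        rw [hinjQ]
        rw [prod.comp_lift]
        exact congrArg₂ prod.lift hl.symm hr.symm
      exact ⟨inv (pullback.fst (prod.lift a b) ρ) ≫ pullback.snd _ _, by
        rw [Category.assoc, ← pullback.condition, IsIso.inv_hom_id_assoc]⟩
  have hrelT : ∀ {T : E} (a b : T ⟶ c.pt),
      (∃ k, k ≫ ρ = prod.lift a b) ↔ ∀ (i : D.Site) (g : D.Gen i ⟶ T), val (g ≫ a) = val (g ≫ b) := by
    intro T a b
    constructor
    · rintro ⟨k, hk⟩ i g
      exact (hrel _ _).1 ⟨g ≫ k, by rw [Category.assoc, hk, prod.comp_lift]⟩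
    · intro h
      have : IsIso (pullback.fst (prod.lift a b) ρ) := D.cov_gen T _ inferInstance fun p => by
        obtain ⟨k, hk⟩ := (hrel _ _).2 (h p.1 p.2)
        exact ⟨pullback.lift p.2 k (by rw [prod.comp_lift, hk]), pullback.lift_fst _ _ _⟩
      exact ⟨inv (pullback.fst (prod.lift a b) ρ) ≫ pullback.snd _ _, by
        rw [Category.assoc, ← pullback.condition, IsIso.inv_hom_id_assoc]⟩
  have hequiv : SGA4.IsEquivRel (ρ ≫ prod.fst) (ρ ≫ prod.snd) := fun T => by
    refine ⟨fun k k' e => (cancel_mono ρ).1 ?_, ?_⟩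
    · have e' := Prod.ext_iff.1 e
      exact Limits.prod.hom_ext (by simpa using e'.1) (by simpa using e'.2)
    have e : (fun a b : T ⟶ c.pt => ∃ k : T ⟶ R, k ≫ ρ ≫ prod.fst = a ∧ k ≫ ρ ≫ prod.snd = b) =
        fun a b => ∀ (i : D.Site) (g : D.Gen i ⟶ T), val (g ≫ a) = val (g ≫ b) := by
      ext a b
      rw [← hrelT]
      refine exists_congr fun k => ⟨fun ⟨h₁, h₂⟩ => ?_, fun h => ?_⟩
      · exact Limits.prod.hom_ext (by rw [Category.assoc, prod.lift_fst, h₁]) (by rw [Category.assoc, prod.lift_snd, h₂])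
      · rw [← Category.assoc, ← Category.assoc, h, prod.lift_fst, prod.lift_snd]
        exact ⟨rfl, rfl⟩
    rw [e]
    exact ⟨fun _ _ _ => rfl, fun h i g => (h i g).symm, fun h h' i g => (h i g).trans (h' i g)⟩
  obtain ⟨B, q, hpb, -, he⟩ := D.hc _ _ _ _ hequiv
  have hq : ∀ {i : D.Site} (a b : D.Gen i ⟶ c.pt), a ≫ q = b ≫ q ↔ val a = val b := by
    intro i a b
    rw [← hrel]
    refine ⟨fun h => ⟨hpb.lift a b h, Limits.prod.hom_ext ?_ ?_⟩, fun ⟨k, hk⟩ => ?_⟩
    · rw [Category.assoc, hpb.lift_fst, prod.lift_fst]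
    · rw [Category.assoc, hpb.lift_snd, prod.lift_snd]
    · have h := congrArg (k ≫ ·) hpb.w
      have h₁ := congrArg (· ≫ prod.fst) hk
      have h₂ := congrArg (· ≫ prod.snd) hk
      simp only [Category.assoc, prod.lift_fst, prod.lift_snd] at h₁ h₂
      rw [← h₁, ← h₂]
      simpa only [Category.assoc] using h
  let θ : F ⟶ D.toSheaf.obj B :=
    ⟨{ app := fun i => TypeCat.ofHom fun x => c.inj ⟨i.unop, x⟩ ≫ q
       naturality := fun i j g => by
        ext x
        change c.inj ⟨j.unop, rs F g.unop x⟩ ≫ q = g.unop.hom ≫ c.inj ⟨i.unop, x⟩ ≫ q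
        rw [← Category.assoc, hq, val_rs, val_inj, val_inj] }⟩
  have hθinj : ∀ (i : D.Site) (x y : F.obj.obj (op i)), ap θ x = ap θ y → x = y := fun i x y e => by
    have := (hq (c.inj ⟨i, x⟩) (c.inj ⟨i, y⟩)).1 e
    rwa [val_inj, val_inj] at this
  have : IsIso θ := by
    refine isIso_of_bijective θ fun i => ⟨fun x y e => hθinj i x y e, fun b => ?_⟩
    let S : Sieve i :=
      { arrows := fun m g => ∃ x, ap θ x = rs (D.toSheaf.obj B) g b
        downward_closed := by
          rintro m n g ⟨x, hx⟩ l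
          exact ⟨rs F l x, by rw [ap_rs, hx, rs_rs]⟩ }
    have := he (D.Gen i) b
    have hS : S ∈ D.topology i := D.isCov_sieveFam_of_comp_gen S
      (isCov_of_effectiveEpi (pullback.snd q b)) fun _ j k => by
        refine ⟨val (k ≫ pullback.fst q b), ?_⟩
        change c.inj ⟨j, val (k ≫ pullback.fst q b)⟩ ≫ q = (k ≫ pullback.snd q b) ≫ b
        rw [Category.assoc, ← pullback.condition, ← Category.assoc, hq, val_inj]
    choose x hx using fun (m : D.Site) (g : m ⟶ i) (h : S g) => h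
    have hxc : Presieve.FamilyOfElements.Compatible
        (fun m g h => x m g h : Presieve.FamilyOfElements F.obj (S : Presieve i)) := by
      intro m₁ m₂ n g₁ g₂ f₁ f₂ h₁ h₂ e
      change rs F g₁ (x _ f₁ h₁) = rs F g₂ (x _ f₂ h₂)
      refine hθinj _ _ _ ?_
      rw [ap_rs, ap_rs, hx, hx, rs_rs, rs_rs, e]
    refine ⟨(isSheafFor hS).amalgamate _ hxc, sec_ext _ hS fun m g hg => ?_⟩
    change rs _ g (ap θ _) = _
    rw [← ap_rs]
    exact (congrArg (ap θ) ((isSheafFor hS).valid_glue hxc g hg)).trans (hx m g hg)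
  exact ⟨B, ⟨(asIso θ).symm⟩⟩

instance : D.toSheaf.EssSurj where
  mem_essImage F := D.exists_iso_toSheaf F

theorem isTopos (D : GiraudData E) : SGA4.IsTopos.{v, u} E :=
  have : D.toSheaf.IsEquivalence := {}
  ⟨D.Site, inferInstance, D.topology, ⟨D.toSheaf.asEquivalence⟩⟩

end GiraudData

/-- **Giraud's theorem**. -/
theorem isTopos_of_giraud {E : Type v} [Category.{u} E] [HasFiniteLimits E]
    (hb : SGA4.HasDisjointUniversalCoproducts.{v, u} E) (hc : EquivRelEffective E)
    (hd : ∃ P : ObjectProperty E, ObjectProperty.Small.{u} P ∧ P.IsDetecting) : SGA4.IsTopos.{v, u} E := by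
  obtain ⟨P, hP, hdet⟩ := hd
  have : Small.{u} (Subtype P) := hP
  refine GiraudData.isTopos
    { hb := hb, hc := hc, Gen := fun i : Shrink.{u} (Subtype P) => ((equivShrink _).symm i).1, hdet := ?_ }
  intro X Y f hf
  refine hdet f fun G hG h => ?_
  obtain ⟨i, hi⟩ : ∃ i, ((equivShrink (Subtype P)).symm i).1 = G := ⟨equivShrink _ ⟨G, hG⟩, by simp⟩
  subst hi
  exact hf i h

end Groth.SitesTopoi.Topos
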