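import Groth.Agent.SitesTopoi.Topos.QC
import Groth.Agent.SitesTopoi.Topos.Giraud
import Groth.Agent.SitesTopoi.Topos.Eps
import Mathlib.CategoryTheory.Sites.Canonical
import Mathlib.CategoryTheory.Limits.Shapes.Opposites.Products
import Mathlib.CategoryTheory.Limits.Preserves.Shapes.Equalizers
import Mathlib.CategoryTheory.Limits.Types.Equalizers
import Mathlib.CategoryTheory.Limits.Types.Limits
import Mathlib.CategoryTheory.Limits.Opposites

/-!
Sheaves for the canonical topology of a topos of sheaves of sets.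
-/

universe w u

open CategoryTheory CategoryTheory.Limits Opposite

namespace Groth.SitesTopoi.Topos

variable {C : Type u} [SmallCategory C] {J : GrothendieckTopology C}

/-- A presheaf on the topos satisfying descent for small covering families. -/
def IsCoverSheaf (G : (Tp J)ᵒᵖ ⥤ Type w) : Prop :=
  ∀ (ι : Type u) (F : ι → Tp J) (X : Tp J) (π : ∀ i, F i ⟶ X), Covers π →
    Presieve.IsSheafFor G (Presieve.ofArrows F π)

lemma isCoverSheaf_yoneda (W : Tp J) : IsCoverSheaf (yoneda.obj W) := by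
  intro ι F X π hπ
  rw [Presieve.isSheafFor_arrows_iff]
  intro x hx
  have hcompat : ∀ (i j : ι) (U : C) (a : (F i).obj.obj (op U)) (b : (F j).obj.obj (op U)),
      ap (π i) a = ap (π j) b → ap (x i) a = ap (x j) b := fun i j U a b e => by
    have h : epsLift a ≫ x i = epsLift b ≫ x j := hx i j _ (epsLift a) (epsLift b)
      (eps_hom_ext (by simp only [ap_comp, ap_epsLift, rs_id, e]))
    simpa only [ap_comp, ap_epsLift, rs_id] using congrArg (fun φ => ap φ (epsSec (J := J) (𝟙 U))) h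
  obtain ⟨ψ, hψ⟩ := hπ.glue x hcompat
  exact ⟨ψ, hψ, fun t ht => hπ.ext fun i => (ht i).trans (hψ i).symm⟩

lemma IsCoverSheaf.isSheafFor_of_le {G : (Tp J)ᵒᵖ ⥤ Type w} (hG : IsCoverSheaf G) {X : Tp J} {S : Sieve X}
    {ι : Type u} {F : ι → Tp J} {π : ∀ i, F i ⟶ X} (hπ : Covers π) (h : Sieve.ofArrows F π ≤ S) :
    Presieve.IsSheafFor G (S : Presieve X) := by
  refine Presieve.isSheafFor_subsieve G (S := Sieve.ofArrows F π) h fun Y f => ?_
  have e : (Sieve.ofArrows F π).pullback f = Sieve.ofArrows _ (fun i => pullback.fst f (π i)) := by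
    ext Z g
    simp only [Sieve.pullback_apply, Sieve.mem_ofArrows_iff]
    exact ⟨fun ⟨i, l, hl⟩ => ⟨i, pullback.lift g l hl, (pullback.lift_fst _ _ _).symm⟩,
      fun ⟨i, l, hl⟩ => ⟨i, l ≫ pullback.snd f (π i), by rw [hl, Category.assoc, Category.assoc, pullback.condition]⟩⟩
  rw [e]
  exact (Presieve.isSheafFor_iff_generate _).1 (hG ι _ Y _ (hπ.pullback_left f))

lemma mem_canonical_of_covers {ι : Type u} {F : ι → Tp J} {X : Tp J} {π : ∀ i, F i ⟶ X} (hπ : Covers π)
    {S : Sieve X} (h : Sieve.ofArrows F π ≤ S) : S ∈ Sheaf.canonicalTopology (Tp J) X := by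
  refine Sheaf.mem_finestTopology_of_forall_isSheafFor ?_
  rintro _ ⟨W, rfl⟩ Y f
  refine (isCoverSheaf_yoneda W).isSheafFor_of_le (hπ.pullback_left f) ?_
  intro Z g hg
  obtain ⟨i, l, rfl⟩ := (Sieve.mem_ofArrows_iff _ _ g).1 hg
  refine h _ ((Sieve.mem_ofArrows_iff F π _).2 ⟨i, l ≫ pullback.snd f (π i), ?_⟩)
  rw [Category.assoc, Category.assoc, pullback.condition]

lemma exists_covers_of_mem_canonical {X : Tp J} {S : Sieve X} (hS : S ∈ Sheaf.canonicalTopology (Tp J) X) :
    ∃ (ι : Type u) (F : ι → Tp J) (π : ∀ i, F i ⟶ X), Covers π ∧ Sieve.ofArrows F π ≤ S := by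
  refine ⟨Σ U : C, {g : epsObj (J := J) U ⟶ X // S g}, fun p => epsObj p.1, fun p => p.2.1,
    covers_of_ext fun W a b hab => ?_, ?_⟩
  · refine (Sheaf.isSheaf_yoneda_obj W S hS).isSeparatedFor.ext fun Z g hg => ?_
    exact (covers_epsLift Z).ext fun p => by
      have := hab ⟨p.1, epsLift p.2 ≫ g, S.downward_closed hg _⟩
      change epsLift p.2 ≫ g ≫ a = epsLift p.2 ≫ g ≫ b
      simpa only [Category.assoc] using this
  · intro Z g hg
    obtain ⟨p, l, rfl⟩ := (Sieve.mem_ofArrows_iff _ _ g).1 hg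
    exact S.downward_closed p.2.2 l

lemma isSheaf_canonical_iff_isCoverSheaf (G : (Tp J)ᵒᵖ ⥤ Type w) :
    Presieve.IsSheaf (Sheaf.canonicalTopology (Tp J)) G ↔ IsCoverSheaf G :=
  ⟨fun h ι F X π hπ => (Presieve.isSheafFor_iff_generate _).2 (h _ (mem_canonical_of_covers hπ le_rfl)),
    fun h X S hS => by
      obtain ⟨ι, F, π, hπ, hle⟩ := exists_covers_of_mem_canonical hS
      exact h.isSheafFor_of_le hπ hle⟩

lemma IsCoverSheaf.separated {G : (Tp J)ᵒᵖ ⥤ Type w} (hG : IsCoverSheaf G) {ι : Type u} {F : ι → Tp J}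
    {X : Tp J} {π : ∀ i, F i ⟶ X} (hπ : Covers π) {x y : G.obj (op X)}
    (h : ∀ i, G.map (π i).op x = G.map (π i).op y) : x = y :=
  (hG ι F X π hπ).isSeparatedFor.ext fun _ f hf => by
    obtain ⟨i⟩ := hf
    exact h i

section Colimit

variable {I : Type u} [SmallCategory I] {D : I ⥤ Tp J} {c : Cocone D}

/-- Generating relation on the sections of a diagram. -/
def ZigRel (D : I ⥤ Tp J) (V : C) (p q : Σ i : I, (D.obj i).obj.obj (op V)) : Prop :=
  ∃ m : p.1 ⟶ q.1, ap (D.map m) p.2 = q.2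

lemma exists_local_zigzag_of_isColimit (hc : IsColimit c) {U : C} {i j : I} (a : (D.obj i).obj.obj (op U))
    (b : (D.obj j).obj.obj (op U)) (h : ap (c.ι.app i) a = ap (c.ι.app j) b) :
    ∃ S ∈ J U, ∀ ⦃V : C⦄ (g : V ⟶ U), S g →
      Relation.EqvGen (ZigRel D V) ⟨i, rs (D.obj i) g a⟩ ⟨j, rs (D.obj j) g b⟩ := by
  let E := colimit.cocone (D ⋙ sheafToPresheaf J (Type u))
  let e := (Sheaf.isColimitSheafifyCocone E (colimit.isColimit _)).coconePointUniqueUpToIso hc
  let e' : sheafify J E.pt ⟶ c.pt.obj := e.hom.hom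
  let m : E.pt ⟶ c.pt.obj := toSheafify J E.pt ≫ e'
  have : IsIso e' := inferInstanceAs (IsIso ((sheafToPresheaf _ _).map e.hom))
  have : Presheaf.IsLocallyInjective J e' := inferInstance
  have : Presheaf.IsLocallyInjective J (toSheafify J E.pt) := inferInstance
  have : Presheaf.IsLocallyInjective J m := Presheaf.isLocallyInjective_comp J (toSheafify J E.pt) e'
  have h0 : ∀ l, (c.ι.app l).hom = E.ι.app l ≫ m := fun l => by
    rw [← (Sheaf.isColimitSheafifyCocone E (colimit.isColimit _)).comp_coconePointUniqueUpToIso_hom hc l]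
    rw [ObjectProperty.FullSubcategory.comp_hom, Sheaf.sheafifyCocone_ι_app_val]
    exact Category.assoc _ _ _
  have h' : m.app (op U) ((E.ι.app i).app (op U) a) = m.app (op U) ((E.ι.app j).app (op U) b) :=
    (congrArg (fun q => q.app (op U) a) (h0 i)).symm.trans (h.trans (congrArg (fun q => q.app (op U) b) (h0 j)))
  refine ⟨_, Presheaf.equalizerSieve_mem J m _ _ h', fun V g hg => ?_⟩
  have key : (E.ι.app i).app (op V) (rs (D.obj i) g a) = (E.ι.app j).app (op V) (rs (D.obj j) g b) :=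
    (NatTrans.naturality_apply (E.ι.app i) g.op a).trans
      (hg.trans (NatTrans.naturality_apply (E.ι.app j) g.op b).symm)
  let hV := isColimitOfPreserves ((evaluation Cᵒᵖ (Type u)).obj (op V))
    (colimit.isColimit (D ⋙ sheafToPresheaf J (Type u)))
  let q : Cocone ((D ⋙ sheafToPresheaf J (Type u)) ⋙ (evaluation Cᵒᵖ (Type u)).obj (op V)) :=
    { pt := Quot (ZigRel D V)
      ι :=
        { app := fun l => TypeCat.ofHom fun x => Quot.mk (ZigRel D V) ⟨l, x⟩
          naturality := fun l l' f => by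
            ext x
            exact (Quot.sound ⟨f, rfl⟩).symm } }
  have hi := congrArg (fun φ => φ (rs (D.obj i) g a)) (hV.fac q i)
  have hj := congrArg (fun φ => φ (rs (D.obj j) g b)) (hV.fac q j)
  exact Quot.eqvGen_exact (hi.symm.trans ((congrArg (hV.desc q) key).trans hj))

lemma IsCoverSheaf.existsUnique_of_isColimit {G : (Tp J)ᵒᵖ ⥤ Type w} (hG : IsCoverSheaf G) (hc : IsColimit c)
    (x : ∀ i, G.obj (op (D.obj i))) (hx : ∀ {i j : I} (m : i ⟶ j), G.map (D.map m).op (x j) = x i) :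
    ∃! t : G.obj (op c.pt), ∀ i, G.map (c.ι.app i).op t = x i := by
  refine (Presieve.isSheafFor_arrows_iff _ _).1 (hG I D.obj c.pt (fun i => c.ι.app i) (covers_of_isColimit hc)) x ?_
  intro i j Z gi gj e
  let good : ∀ (V : C), Z.obj.obj (op V) → Prop := fun V z =>
    Relation.EqvGen (ZigRel D V) ⟨i, ap gi z⟩ ⟨j, ap gj z⟩
  let κ := Σ V : C, {z : Z.obj.obj (op V) // good V z}
  have hcov : Covers (fun p : κ => epsLift p.2.1) := fun U z => by
    obtain ⟨S, hS, hloc⟩ := exists_local_zigzag_of_isColimit hc (ap gi z) (ap gj z)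
      (by rw [← ap_comp, ← ap_comp, e])
    refine J.superset_covering (fun V g hg => ?_) hS
    refine ⟨⟨V, rs Z g z, ?_⟩, epsSec (𝟙 V), by rw [ap_epsLift, rs_id]⟩
    change Relation.EqvGen _ _ _
    rw [ap_rs, ap_rs]
    exact hloc g hg
  refine hG.separated hcov fun p => ?_
  obtain ⟨V, z, hz⟩ := p
  let val : (Σ l : I, (D.obj l).obj.obj (op V)) → G.obj (op (epsObj (J := J) V)) := fun q =>
    G.map (epsLift q.2).op (x q.1)
  have hval : ∀ {q q' : Σ l : I, (D.obj l).obj.obj (op V)}, Relation.EqvGen (ZigRel D V) q q' → val q = val q' := by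
    intro q q' h
    induction h with
    | rel q q' h =>
      obtain ⟨m, hm⟩ := h
      have e' : epsLift q.2 ≫ D.map m = epsLift q'.2 :=
        eps_hom_ext (by rw [ap_comp, ap_epsLift, ap_epsLift, rs_id, rs_id, hm])
      simp only [val]
      rw [← hx m, ← e', op_comp, Functor.map_comp_apply]
    | refl => rfl
    | symm _ _ _ ih => exact ih.symm
    | trans _ _ _ _ _ ih ih' => exact ih.trans ih'
  have hi : epsLift z ≫ gi = epsLift (ap gi z) :=
    eps_hom_ext (by rw [ap_comp, ap_epsLift, ap_epsLift, rs_id, rs_id])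
  have hj : epsLift z ≫ gj = epsLift (ap gj z) :=
    eps_hom_ext (by rw [ap_comp, ap_epsLift, ap_epsLift, rs_id, rs_id])
  change G.map (epsLift z).op (G.map gi.op (x i)) = G.map (epsLift z).op (G.map gj.op (x j))
  rw [← Functor.map_comp_apply, ← Functor.map_comp_apply, ← op_comp, ← op_comp, hi, hj]
  exact hval hz

end Colimit

lemma IsCoverSheaf.preservesLimits {G : (Tp J)ᵒᵖ ⥤ Type w} (hG : IsCoverSheaf G) :
    PreservesLimitsOfSize.{u, u} G where
  preservesLimitsOfShape {K} _ := ⟨fun {D} => ⟨fun {c} hc => by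
    refine (Types.isLimit_iff _).2 fun s hs => ?_
    let hc' : IsColimit (coconeLeftOpOfCone c) := isColimitCoconeLeftOpOfCone D hc
    obtain ⟨t, ht, huniq⟩ := hG.existsUnique_of_isColimit hc' (fun i => s i.unop)
      (fun {i j} m => hs m.unop)
    exact ⟨t, fun j => ht (op j), fun t' ht' => huniq t' fun i => ht' i.unop⟩⟩⟩

lemma isCoverSheaf_of_preservesLimits {G : (Tp J)ᵒᵖ ⥤ Type w} [PreservesLimitsOfSize.{u, u} G] :
    IsCoverSheaf G := by
  intro ι F X π hπ
  rw [Presieve.isSheafFor_arrows_iff]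
  intro x hx
  let κ := ι × ι
  let R : κ → Tp J := fun p => pullback (π p.1) (π p.2)
  let a : (∐ R) ⟶ ∐ F := Sigma.desc fun p => pullback.fst _ _ ≫ Sigma.ι F p.1
  let b : (∐ R) ⟶ ∐ F := Sigma.desc fun p => pullback.snd _ _ ≫ Sigma.ι F p.2
  have w : a ≫ Sigma.desc π = b ≫ Sigma.desc π := Sigma.hom_ext _ _ fun p => by
    simp only [a, b, Sigma.ι_desc_assoc, Category.assoc, Sigma.ι_desc, pullback.condition]
  have hcoeq : ∀ {W : Tp J} (k : (∐ F) ⟶ W), a ≫ k = b ≫ k → ∃ ψ, Sigma.desc π ≫ ψ = k := fun {W} k hk => by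
    obtain ⟨ψ, hψ⟩ := hπ.glue (fun i => Sigma.ι F i ≫ k) fun i j U s t e => by
      obtain ⟨z, hz₁, hz₂⟩ := pb_sec_lift (IsPullback.of_hasPullback (π i) (π j)) s t e
      have h := Sigma.ι R (i, j) ≫= hk
      simp only [a, b, Sigma.ι_desc_assoc, Category.assoc] at h
      rw [← hz₁, ← hz₂, ← ap_comp, ← ap_comp, h]
    exact ⟨ψ, Sigma.hom_ext _ _ fun i => by rw [Sigma.ι_desc_assoc, hψ]⟩
  have hfork : IsLimit (Fork.ofι (Sigma.desc π).op (by rw [← op_comp, ← op_comp, w]) : Fork a.op b.op) :=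
    Fork.IsLimit.mk' _ fun s => by
      have hs : a ≫ s.ι.unop = b ≫ s.ι.unop := Quiver.Hom.op_inj s.condition
      refine ⟨(hcoeq _ hs).choose.op, ?_, fun {m} hm => ?_⟩
      · exact congrArg Quiver.Hom.op (hcoeq _ hs).choose_spec
      · refine Quiver.Hom.unop_inj (hπ.ext fun i => ?_)
        have e := congrArg (fun φ => Sigma.ι F i ≫ φ) ((congrArg Quiver.Hom.unop hm).trans (hcoeq _ hs).choose_spec.symm)
        simp only [Fork.ι_ofι, unop_comp, Quiver.Hom.unop_op, Sigma.ι_desc_assoc] at e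
        exact e
  have : PreservesLimitsOfSize.{0, 0} G := preservesLimitsOfSize_shrink.{0, u, 0, u} G
  have hG := (Types.type_equalizer_iff_unique (G.map (Sigma.desc π).op) _).1 ⟨isLimitForkMapOfIsLimit G _ hfork⟩
  have hfan : IsLimit (G.mapCone (Cofan.op (Cofan.mk (∐ F) (Sigma.ι F)))) :=
    isLimitOfPreserves G (Cofan.IsColimit.op (coproductIsCoproduct F))
  have hfanR : IsLimit (G.mapCone (Cofan.op (Cofan.mk (∐ R) (Sigma.ι R)))) :=
    isLimitOfPreserves G (Cofan.IsColimit.op (coproductIsCoproduct R))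
  obtain ⟨y, hy, hyu⟩ := (Types.isLimit_iff _).1 ⟨hfan⟩ (fun i => x i.as) (by
    rintro ⟨i⟩ ⟨j⟩ ⟨⟨h⟩⟩
    dsimp only at h
    subst h
    exact congrArg (fun φ => φ (x i)) (G.map_id _))
  have hR : G.map a.op y = G.map b.op y := by
    obtain ⟨_, -, hu⟩ := (Types.isLimit_iff _).1 ⟨hfanR⟩
      (fun p => G.map (Sigma.ι R p.as).op (G.map b.op y)) (by
        rintro ⟨i⟩ ⟨j⟩ ⟨⟨h⟩⟩
        dsimp only at h
        subst h
        exact Functor.map_id_apply G _ _)
    refine (hu _ fun p => ?_).trans (hu _ fun p => rfl).symm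
    obtain ⟨⟨i, j⟩⟩ := p
    change G.map (Sigma.ι R (i, j)).op (G.map a.op y) = G.map (Sigma.ι R (i, j)).op (G.map b.op y)
    simp only [← Functor.map_comp_apply, ← op_comp, a, b, Sigma.ι_desc]
    simp only [op_comp, Functor.map_comp_apply]
    have hyi : G.map (Sigma.ι F i).op y = x i := hy ⟨i⟩
    have hyj : G.map (Sigma.ι F j).op y = x j := hy ⟨j⟩
    rw [hyi, hyj]
    exact hx i j _ _ _ pullback.condition
  obtain ⟨t, ht, htu⟩ := hG y hR
  refine ⟨t, fun i => ?_, fun t' ht' => htu t' (hyu _ fun i => ?_)⟩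
  · have hyi : G.map (Sigma.ι F i).op y = x i := hy ⟨i⟩
    rw [← hyi, ← ht, ← Functor.map_comp_apply, ← op_comp, Sigma.ι_desc]
  · obtain ⟨i⟩ := i
    change G.map (Sigma.ι F i).op (G.map (Sigma.desc π).op t') = x i
    rw [← Functor.map_comp_apply, ← op_comp, Sigma.ι_desc]
    exact ht' i

lemma isSheaf_canonical_iff_preservesLimits (G : (Tp J)ᵒᵖ ⥤ Type w) :
    Presieve.IsSheaf (Sheaf.canonicalTopology (Tp J)) G ↔ PreservesLimitsOfSize.{u, u} G :=
  (isSheaf_canonical_iff_isCoverSheaf G).trans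
    ⟨fun h => h.preservesLimits, fun _ => isCoverSheaf_of_preservesLimits⟩

end Groth.SitesTopoi.Topos
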