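import Groth.Prelude.Def_SGA4a
import Groth.Agent.SitesTopoi.Topos.CanonicalSheaf
import Mathlib.CategoryTheory.Limits.Preserves.Opposites
import Mathlib.CategoryTheory.Limits.Yoneda
import Mathlib.CategoryTheory.Adjunction.Basic

/-!
Functors between topoi which preserve finite limits and epimorphic families are inverse image functors.
-/

universe u

open CategoryTheory CategoryTheory.Limits Opposite

namespace Groth.SitesTopoi.Topos

variable {C D : Type u} [SmallCategory C] [SmallCategory D] {J : GrothendieckTopology C} {K : GrothendieckTopology D}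
  (f : Tp J ⥤ Tp K)

lemma isCoverSheaf_comp_yoneda [PreservesFiniteLimits f] (hf : SGA4.PreservesEpiFamilies.{u + 1, u + 1, u} f)
    (W : Tp K) : IsCoverSheaf (f.op ⋙ yoneda.obj W) := by
  intro ι F X π hπ
  rw [Presieve.isSheafFor_arrows_iff]
  intro x hx
  have hc : Covers (fun i => f.map (π i)) :=
    covers_iff_isEpiFamily.2 (hf ι X F π (covers_iff_isEpiFamily.1 hπ))
  obtain ⟨ψ, hψ⟩ := hc.glue x fun i j U a b e => by
    obtain ⟨z, hz₁, hz₂⟩ := pb_sec_lift ((IsPullback.of_hasPullback (π i) (π j)).map f) a b e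
    rw [← hz₁, ← hz₂, ← ap_comp, ← ap_comp]
    exact congrArg (fun φ => ap φ z) (hx i j _ (pullback.fst (π i) (π j)) (pullback.snd (π i) (π j)) pullback.condition)
  exact ⟨ψ, hψ, fun t ht => hc.ext fun i => (ht i).trans (hψ i).symm⟩

variable {f} (hG : ∀ W : Tp K, IsCoverSheaf (f.op ⋙ yoneda.obj W))

include hG in
lemma preservesColimits_of_isCoverSheaf : PreservesColimitsOfSize.{u, u} f where
  preservesColimitsOfShape {I} _ := ⟨fun {G} => ⟨fun {c} hc => ⟨{
    desc := fun s => ((hG s.pt).existsUnique_of_isColimit hc (fun i => s.ι.app i) fun m => s.w m).choose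
    fac := fun s j => ((hG s.pt).existsUnique_of_isColimit hc (fun i => s.ι.app i) fun m => s.w m).choose_spec.1 j
    uniq := fun s m hm =>
      ((hG s.pt).existsUnique_of_isColimit hc (fun i => s.ι.app i) fun m => s.w m).choose_spec.2 m hm }⟩⟩⟩

include hG in
lemma f_hom_ext {X : Tp J} {W : Tp K} {a b : f.obj X ⟶ W}
    (h : ∀ (U : C) (s : X.obj.obj (op U)), f.map (epsLift s) ≫ a = f.map (epsLift s) ≫ b) : a = b :=
  (hG W).separated (covers_epsLift X) fun p => h p.1 p.2

include hG in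
lemma isSheaf_rightAdjoint (W : Tp K) :
    Presheaf.IsSheaf J ((yoneda ⋙ presheafToSheaf J (Type u) ⋙ f).op ⋙ yoneda.obj W) := by
  rw [isSheaf_iff_isSheaf_of_type]
  intro U S hS x hx
  let ι := Σ V : C, {g : V ⟶ U // S g}
  have hcov : Covers (fun p : ι => epsMap (J := J) p.2.1) :=
    covers_epsMap (J.superset_covering (fun W' k hk => (Sieve.mem_ofArrows_iff _ _ k).2
      ⟨⟨W', k, hk⟩, 𝟙 W', (Category.id_comp k).symm⟩) hS)
  obtain ⟨t, ht, htu⟩ := (Presieve.isSheafFor_arrows_iff _ _).1 (hG W ι _ _ _ hcov) (fun p => x p.2.1 p.2.2) (by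
    intro p q Z gi gj e
    let good : ∀ (V : C), Z.obj.obj (op V) → Prop := fun V z =>
      ∃ (l : V ⟶ p.1) (l' : V ⟶ q.1), ap gi z = epsSec l ∧ ap gj z = epsSec l' ∧ l ≫ p.2.1 = l' ≫ q.2.1
    have hcov' : Covers (fun r : (Σ V : C, {z : Z.obj.obj (op V) // good V z}) => epsLift r.2.1) := fun V z => by
      obtain ⟨S₁, hS₁, h₁⟩ := exists_local_epsSec (ap gi z)
      obtain ⟨S₂, hS₂, h₂⟩ := exists_local_epsSec (ap gj z)
      refine J.transitive (J.intersection_covering hS₁ hS₂) _ fun V' g hg => ?_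
      obtain ⟨l, hl⟩ := h₁ g hg.1
      obtain ⟨l', hl'⟩ := h₂ g hg.2
      have e' : epsSec (J := J) (l ≫ p.2.1) = epsSec (l' ≫ q.2.1) := by
        rw [← ap_epsMap, ← ap_epsMap, ← hl, ← hl', ← ap_rs, ← ap_rs, ← ap_comp, ← ap_comp, e]
      obtain ⟨T, hT, hTe⟩ := epsSec_eq e'
      refine J.superset_covering ?_ hT
      intro V'' g' hg'
      refine ⟨⟨V'', rs Z (g' ≫ g) z, g' ≫ l, g' ≫ l', ?_, ?_, ?_⟩, epsSec (𝟙 V''), by rw [ap_epsLift, rs_id]⟩
      · rw [ap_rs, ← rs_rs, hl, rs_epsSec]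
      · rw [ap_rs, ← rs_rs, hl', rs_epsSec]
      · rw [Category.assoc, Category.assoc, hTe g' hg']
    refine (hG W).separated hcov' fun r => ?_
    obtain ⟨V, z, l, l', h₁, h₂, h₃⟩ := r
    have e₁ : epsLift z ≫ gi = epsMap l := eps_hom_ext (by
      rw [ap_comp, ap_epsLift, rs_id, ap_epsMap, Category.id_comp, h₁])
    have e₂ : epsLift z ≫ gj = epsMap l' := eps_hom_ext (by
      rw [ap_comp, ap_epsLift, rs_id, ap_epsMap, Category.id_comp, h₂])
    change f.map (epsLift z) ≫ f.map gi ≫ x p.2.1 p.2.2 = f.map (epsLift z) ≫ f.map gj ≫ x q.2.1 q.2.2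
    rw [← f.map_comp_assoc, ← f.map_comp_assoc, e₁, e₂]
    exact hx l l' p.2.2 q.2.2 h₃)
  exact ⟨t, fun V g hg => ht ⟨V, g, hg⟩, fun t' ht' => htu t' fun p => ht' p.2.1 p.2.2⟩

/-- The right adjoint. -/
noncomputable def epiFamilyRightAdjoint : Tp K ⥤ Tp J :=
  ObjectProperty.lift _
    (yoneda ⋙ (Functor.whiskeringLeft Cᵒᵖ (Tp K)ᵒᵖ (Type u)).obj (yoneda ⋙ presheafToSheaf J (Type u) ⋙ f).op)
    (isSheaf_rightAdjoint hG)

lemma epsLift_rs {X : Tp J} {U V : C} (g : V ⟶ U) (s : X.obj.obj (op U)) :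
    epsMap g ≫ epsLift s = epsLift (rs X g s) :=
  eps_hom_ext (by rw [ap_comp, ap_epsMap, ap_epsLift, ap_epsLift, rs_id, Category.id_comp])

include hG in
lemma exists_transpose {X : Tp J} {W : Tp K} (ψ : X ⟶ (epiFamilyRightAdjoint hG).obj W) :
    ∃ φ : f.obj X ⟶ W, ∀ (U : C) (s : X.obj.obj (op U)), f.map (epsLift s) ≫ φ = ap ψ s := by
  obtain ⟨t, ht, -⟩ := (Presieve.isSheafFor_arrows_iff _ _).1
    (hG W (Σ U : C, X.obj.obj (op U)) _ X _ (covers_epsLift X)) (fun p => ap ψ p.2) (by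
    intro p q Z gi gj e
    let good : ∀ (V : C), Z.obj.obj (op V) → Prop := fun V z =>
      ∃ (l : V ⟶ p.1) (l' : V ⟶ q.1), ap gi z = epsSec l ∧ ap gj z = epsSec l'
    have hcov' : Covers (fun r : (Σ V : C, {z : Z.obj.obj (op V) // good V z}) => epsLift r.2.1) := fun V z => by
      obtain ⟨S₁, hS₁, h₁⟩ := exists_local_epsSec (ap gi z)
      obtain ⟨S₂, hS₂, h₂⟩ := exists_local_epsSec (ap gj z)
      refine J.superset_covering ?_ (J.intersection_covering hS₁ hS₂)
      intro V' g hg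
      obtain ⟨l, hl⟩ := h₁ g hg.1
      obtain ⟨l', hl'⟩ := h₂ g hg.2
      exact ⟨⟨V', rs Z g z, l, l', by rw [ap_rs, hl], by rw [ap_rs, hl']⟩, epsSec (𝟙 V'), by rw [ap_epsLift, rs_id]⟩
    refine (hG W).separated hcov' fun r => ?_
    obtain ⟨V, z, l, l', h₁, h₂⟩ := r
    have e₁ : epsLift z ≫ gi = epsMap l := eps_hom_ext (by
      rw [ap_comp, ap_epsLift, rs_id, ap_epsMap, Category.id_comp, h₁])
    have e₂ : epsLift z ≫ gj = epsMap l' := eps_hom_ext (by
      rw [ap_comp, ap_epsLift, rs_id, ap_epsMap, Category.id_comp, h₂])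
    have e₃ : rs X l p.2 = rs X l' q.2 := by
      have h' := congrArg (fun φ => ap (epsLift z ≫ φ) (epsSec (J := J) (𝟙 V))) e
      simp only [← Category.assoc, e₁, e₂] at h'
      simpa only [ap_comp, ap_epsMap, ap_epsLift, Category.id_comp] using h'
    change f.map (epsLift z) ≫ f.map gi ≫ ap ψ p.2 = f.map (epsLift z) ≫ f.map gj ≫ ap ψ q.2
    rw [← f.map_comp_assoc, ← f.map_comp_assoc, e₁, e₂]
    exact (ap_rs ψ l p.2).symm.trans ((congrArg (ap ψ) e₃).trans (ap_rs ψ l' q.2)))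
  exact ⟨t, fun U s => ht ⟨U, s⟩⟩

/-- The transpose of a map out of an inverse image. -/
noncomputable def transposeRight {X : Tp J} {W : Tp K} (φ : f.obj X ⟶ W) : X ⟶ (epiFamilyRightAdjoint hG).obj W :=
  ⟨{ app := fun U => TypeCat.ofHom fun (s : X.obj.obj U) => (f.map (epsLift (U := U.unop) s) ≫ φ)
     naturality := fun U V g => by
       ext s
       change f.map (epsLift (U := V.unop) (rs X g.unop s)) ≫ φ =
         f.map (epsMap g.unop) ≫ f.map (epsLift (U := U.unop) s) ≫ φ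
       rw [← f.map_comp_assoc, epsLift_rs] }⟩

include hG in
theorem isLeftAdjoint_of_isCoverSheaf : f.IsLeftAdjoint :=
  ⟨epiFamilyRightAdjoint hG, ⟨Adjunction.mkOfHomEquiv
    { homEquiv := fun X W =>
        { toFun := transposeRight hG
          invFun := fun ψ => (exists_transpose hG ψ).choose
          left_inv := fun φ => f_hom_ext hG fun U s => ((exists_transpose hG _).choose_spec U s)
          right_inv := fun ψ => hom_ext_ap fun U s => (exists_transpose hG ψ).choose_spec U s }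
      homEquiv_naturality_left_symm := fun {X' X W} g ψ => f_hom_ext hG fun U s => by
        refine ((exists_transpose hG (g ≫ ψ)).choose_spec U s).trans ?_
        have e : epsLift s ≫ g = epsLift (ap g s) :=
          eps_hom_ext (by rw [ap_comp, ap_epsLift, ap_epsLift, rs_id, rs_id])
        rw [← Category.assoc, ← f.map_comp, e, ap_comp]
        exact ((exists_transpose hG ψ).choose_spec U (ap g s)).symm
      homEquiv_naturality_right := fun {X W W'} φ g => hom_ext_ap fun U s => by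
        change f.map (epsLift s) ≫ φ ≫ g = (f.map (epsLift s) ≫ φ) ≫ g
        rw [Category.assoc] }⟩⟩

end Groth.SitesTopoi.Topos
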