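import Groth.Agent.SitesTopoi.Topos.GiraudReflect
import Groth.Agent.SitesTopoi.Topos.Eps
import Mathlib.CategoryTheory.Limits.Comma
import Mathlib.CategoryTheory.Presentable.Presheaf
import Mathlib.CategoryTheory.Presentable.Type

/-!
The category glued from two topoi along a finite limit preserving accessible functor is a topos.
-/

universe u

open CategoryTheory CategoryTheory.Limits Opposite

namespace Groth.SitesTopoi.Topos

variable {C D : Type u} [SmallCategory C] [SmallCategory D] {J : GrothendieckTopology C}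
  {K : GrothendieckTopology D}

/-- A small solution set for an accessible functor between topoi of sheaves. -/
lemma exists_solutionSet (ρ : Sheaf J (Type u) ⥤ Sheaf K (Type u)) [Functor.IsAccessible.{u} ρ] :
    ∃ (S : Type u) (Xs : S → Sheaf J (Type u)), ∀ (X : Sheaf J (Type u)) (d : D) (z : (ρ.obj X).obj.obj (op d)),
      ∃ T ∈ K d, ∀ ⦃d' : D⦄ (g : d' ⟶ d), T g → ∃ (s : S) (h : Xs s ⟶ X) (w : (ρ.obj (Xs s)).obj.obj (op d')),
        ap (ρ.map h) w = rs (ρ.obj X) g z := by
  obtain ⟨κ, _, _⟩ := Functor.IsAccessible.exists_cardinal (F := ρ)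
  obtain ⟨P, _, hP⟩ := HasCardinalFilteredGenerator.exists_generator (Cᵒᵖ ⥤ Type u) κ
  obtain ⟨Q, _, hQ⟩ := ObjectProperty.EssentiallySmall.exists_small_le' P
  let L := presheafToSheaf J (Type u)
  have : Small.{u} (Subtype Q) := ‹ObjectProperty.Small.{u} Q›
  refine ⟨Shrink.{u} (Subtype Q), fun s => L.obj ((equivShrink (Subtype Q)).symm s).1, fun X d z => ?_⟩
  obtain ⟨A, _, _, ⟨p⟩⟩ := hP.exists_colimitsOfShape X.obj
  have := ρ.preservesColimitsOfShape_of_isCardinalAccessible κ A
  let e : L.obj X.obj ≅ X := (asIso (sheafificationAdjunction J (Type u)).counit).app X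
  have hc := isColimitOfPreserves ρ (isColimitOfPreserves L p.isColimit)
  have hcov : Covers (fun j : A => ρ.map (L.map (p.ι.app j)) ≫ ρ.map e.hom) := covers_of_ext fun Z a b h => by
    refine (cancel_epi (ρ.map e.hom)).1 (hc.hom_ext fun j => ?_)
    have := h j
    simp only [Category.assoc] at this
    exact this
  refine ⟨_, hcov d z, fun d' g hg => ?_⟩
  obtain ⟨j, t, ht⟩ := hg
  obtain ⟨Q', hQ', ⟨i⟩⟩ := hQ _ (p.prop_diag_obj j)
  obtain ⟨s, hs⟩ : ∃ s, ((equivShrink (Subtype Q)).symm s).1 = Q' := ⟨equivShrink _ ⟨Q', hQ'⟩, by simp⟩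
  subst hs
  refine ⟨s, L.map i.inv ≫ L.map (p.ι.app j) ≫ e.hom, ap (ρ.map (L.map i.hom)) t, ?_⟩
  refine Eq.trans ?_ ht
  rw [← ap_comp, ← Functor.map_comp, ← Category.assoc (L.map i.hom), ← L.map_comp, i.hom_inv_id, L.map_id,
    Category.id_comp, Functor.map_comp]

variable (ρ : Sheaf J (Type u) ⥤ Sheaf K (Type u)) [PreservesFiniteLimits ρ]

instance preservesFiniteLimits_comma_fst : PreservesFiniteLimits (Comma.fst (𝟭 (Sheaf K (Type u))) ρ) :=
  ⟨fun A _ _ => ⟨preservesLimit_of_preserves_limit_cone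
    (Comma.coneOfPreservesIsLimit _ (limit.isLimit _) (limit.isLimit _)) (limit.isLimit _)⟩⟩

instance preservesFiniteLimits_comma_snd : PreservesFiniteLimits (Comma.snd (𝟭 (Sheaf K (Type u))) ρ) :=
  ⟨fun A _ _ => ⟨preservesLimit_of_preserves_limit_cone
    (Comma.coneOfPreservesIsLimit _ (limit.isLimit _) (limit.isLimit _)) (limit.isLimit _)⟩⟩

theorem isTopos_glued [Functor.IsAccessible.{u} ρ] : SGA4.IsTopos.{u + 1, u} (Comma (𝟭 (Sheaf K (Type u))) ρ) := by
  obtain ⟨S, Xs, hS⟩ := exists_solutionSet ρ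
  have : PreservesColimitsOfSize.{u, u} (Comma.fst (𝟭 (Sheaf K (Type u))) ρ) := ⟨inferInstance⟩
  have : PreservesColimitsOfSize.{u, u} (Comma.snd (𝟭 (Sheaf K (Type u))) ρ) := ⟨inferInstance⟩
  let U : Bool → ToposFunctor (Comma (𝟭 (Sheaf K (Type u))) ρ) := fun b => match b with
    | true => { U := Comma.fst _ _ }
    | false => { U := Comma.snd _ _ }
  refine isTopos_of_toposFunctors U (fun {X Y} f h => ?_)
    ⟨ObjectProperty.ofObj fun q : C ⊕ Σ (d : D) (s : S), ((epsObj d : Sheaf K (Type u)) ⟶ ρ.obj (Xs s)) =>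
      Sum.elim (fun c => ({ left := ⊥_ _, right := epsObj c, hom := initial.to _ } : Comma _ ρ))
        (fun t => { left := epsObj t.1, right := Xs t.2.1, hom := t.2.2 }) q,
      inferInstance, fun X Y f hf => ?_⟩
  · have h₁ : IsIso f.left := h true
    have h₂ : IsIso f.right := h false
    exact (Comma.isoMk (asIso f.left) (asIso f.right) f.w).isIso_hom
  have h₂ : IsIso f.right := by
    refine isIso_of_bijective f.right fun c => ?_
    have key : ∀ y, ∃! x, ap f.right x = y := fun y => by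
      obtain ⟨h', hh', huniq⟩ := hf _ (ObjectProperty.ofObj_apply _ (Sum.inl c))
        ⟨initial.to _, epsLift y, initialIsInitial.hom_ext _ _⟩
      refine ⟨ap h'.right (epsSec (𝟙 c)), ?_, fun x hx => ?_⟩
      · have := congrArg (fun φ : _ ⟶ Y => ap φ.right (epsSec (J := J) (𝟙 c))) hh'
        change ap (h'.right ≫ f.right) _ = ap (epsLift y) _ at this
        rwa [ap_comp, ap_epsLift, rs_id] at this
      · have e := huniq ⟨initial.to _, epsLift x, initialIsInitial.hom_ext _ _⟩
          (CommaMorphism.ext (initialIsInitial.hom_ext _ _) (eps_hom_ext (by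
            change ap (epsLift x ≫ f.right) _ = ap (epsLift y) _
            rw [ap_comp, ap_epsLift, ap_epsLift, rs_id, rs_id]
            exact hx)))
        rw [← e]
        change x = ap (epsLift x) (epsSec (𝟙 c))
        rw [ap_epsLift, rs_id]
    exact ⟨fun a b hab => (key _).unique hab rfl, fun y => (key y).exists⟩
  have hnat : ∀ {d : D} (y : X.left.obj.obj (op d)), ap Y.hom (ap f.left y) = ap (ρ.map f.right) (ap X.hom y) :=
    fun y => congrArg (fun φ => ap φ y) f.w
  have hρinj : ∀ {d : D} (a b : (ρ.obj X.right).obj.obj (op d)),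
      ap (ρ.map f.right) a = ap (ρ.map f.right) b → a = b :=
    fun {d} a b => (mono_iff_injective (ρ.map f.right)).1 inferInstance d a b
  -- maps from the small objects
  let mkHom : ∀ {Z : Comma (𝟭 (Sheaf K (Type u))) ρ} {d : D} {s : S} (w : (ρ.obj (Xs s)).obj.obj (op d))
      (h : Xs s ⟶ Z.right) (y : Z.left.obj.obj (op d)), ap Z.hom y = ap (ρ.map h) w →
      (({ left := epsObj d, right := Xs s, hom := epsLift w } : Comma _ ρ) ⟶ Z) := fun w h y e =>
    ⟨epsLift y, h, eps_hom_ext (by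
      change ap (epsLift y ≫ _) _ = ap (epsLift w ≫ _) _
      rw [ap_comp, ap_comp, ap_epsLift, ap_epsLift, rs_id, rs_id]
      exact e)⟩
  have hf' : ∀ {d : D} {s : S} (ψ : (epsObj d : Sheaf K (Type u)) ⟶ ρ.obj (Xs s))
      (h : ({ left := epsObj d, right := Xs s, hom := ψ } : Comma (𝟭 (Sheaf K (Type u))) ρ) ⟶ Y),
      ∃! h', h' ≫ f = h := fun {d s} ψ => by
    have hg := hf _ (ObjectProperty.ofObj_apply _
      (Sum.inr ⟨d, ⟨s, ψ⟩⟩ : C ⊕ Σ (d : D) (s : S), ((epsObj d : Sheaf K (Type u)) ⟶ ρ.obj (Xs s))))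
    exact hg
  have hmono : Mono f.left := (mono_iff_injective f.left).2 fun d y y' e => by
    have ez : ap X.hom y = ap X.hom y' := hρinj _ _ (by rw [← hnat, ← hnat, e])
    obtain ⟨T, hT, hz⟩ := hS X.right d (ap X.hom y)
    refine sec_ext X.left hT fun d' g hg => ?_
    obtain ⟨s, h, w, hw⟩ := hz g hg
    have e₁ : ap X.hom (rs X.left g y) = ap (ρ.map h) w := (ap_rs X.hom g y).trans hw.symm
    have e₂ : ap X.hom (rs X.left g y') = ap (ρ.map h) w :=
      (ap_rs X.hom g y').trans ((congrArg _ ez.symm).trans hw.symm)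
    have hu := (hf' (epsLift w) (mkHom w h _ e₁ ≫ f)).unique
      (y₁ := mkHom w h _ e₁) (y₂ := mkHom w h _ e₂) rfl (CommaMorphism.ext (eps_hom_ext (by
        change ap (epsLift (rs X.left g y') ≫ f.left) _ = ap (epsLift (rs X.left g y) ≫ f.left) _
        rw [ap_comp, ap_comp, ap_epsLift, ap_epsLift, rs_id, rs_id]
        exact (ap_rs _ _ _).trans ((congrArg _ e.symm).trans (ap_rs _ _ _).symm))) rfl)
    have := congrArg (fun φ : _ ⟶ X => ap φ.left (epsSec (J := K) (𝟙 d'))) hu
    change ap (epsLift _) _ = ap (epsLift _) _ at this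
    rwa [ap_epsLift, ap_epsLift, rs_id, rs_id] at this
  have hepi : Epi f.left := (covers_single_iff f.left).1 fun d y' => by
    obtain ⟨T, hT, hz⟩ := hS Y.right d (ap Y.hom y')
    refine K.superset_covering (fun d' g hg => ?_) hT
    obtain ⟨s, h, w, hw⟩ := hz g hg
    obtain ⟨h', hh', -⟩ := hf' (epsLift w)
      (mkHom w h (rs Y.left g y') ((ap_rs Y.hom g y').trans hw.symm))
    refine ⟨PUnit.unit, ap h'.left (epsSec (𝟙 d')), ?_⟩
    have := congrArg (fun φ : _ ⟶ Y => ap φ.left (epsSec (J := K) (𝟙 d'))) hh'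
    change ap (h'.left ≫ f.left) _ = ap (epsLift _) _ at this
    rwa [ap_comp, ap_epsLift, rs_id] at this
  have h₁ : IsIso f.left := Balanced.isIso_of_mono_of_epi f.left
  exact (Comma.isoMk (asIso f.left) (asIso f.right) f.w).isIso_hom

end Groth.SitesTopoi.Topos
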