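import Groth.Agent.SitesTopoi.Topos.Algebraic
import Groth.Agent.SitesTopoi.Topos.Eps
import Mathlib.CategoryTheory.Sites.Pullback

/-!
Inverse image functors of morphisms of topoi and finiteness conditions.
-/

universe w u

open CategoryTheory CategoryTheory.Limits Opposite ToposFin

namespace Groth.SitesTopoi.Topos

variable {C D : Type u} [SmallCategory C] [SmallCategory D] {J : GrothendieckTopology C}
  {K : GrothendieckTopology D}

section Functorial

variable {F : Tp K ⥤ Tp J} {R : Tp J ⥤ Tp K} (adj : F ⊣ R)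

include adj

lemma covers_map {ι : Type u} {G : ι → Tp K} {X : Tp K} {π : ∀ i, G i ⟶ X} (h : Covers π) :
    Covers (fun i => F.map (π i)) :=
  covers_of_ext fun Z a b hab => (adj.homEquiv X Z).injective <| h.ext fun i => by
    rw [← adj.homEquiv_naturality_left, ← adj.homEquiv_naturality_left, hab]

lemma isQC_map {P : Tp K → Prop} (hgen : GenBy K P) (hP : ∀ G, P G → IsQC (F.obj G)) {X : Tp K} (hX : IsQC X) :
    IsQC (F.obj X) := by
  obtain ⟨ι, _, G, π, hG, hπ⟩ := exists_finite_cover_of_isQC hgen hX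
  exact isQC_of_finite_covers (covers_map adj hπ) fun i => hP _ (hG i)

variable [PreservesFiniteLimits F]

lemma isQS_map {P : Tp K → Prop} (hgen : GenBy K P) (hPqc : ∀ G, P G → IsQC G)
    (hP : ∀ G, P G → IsCoherent (F.obj G)) {Q : Tp J → Prop} (hgen' : GenBy J Q) (hQ : ∀ G, Q G → IsQC G)
    {X : Tp K} (hX : IsQS X) : IsQS (F.obj X) := by
  obtain ⟨ι, G, π, hG, hπ⟩ := hgen X
  have hc := covers_map adj hπ
  refine isQS_of_covers_qcHom hgen' hQ hc (fun i => (hP _ (hG i)).2) fun i => ?_
  refine isQCHom_of_locally_on_target hgen' hQ hc fun j => isQCHom_of_isQC_of_isQS _ ?_ (hP _ (hG j)).2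
  exact isQC_of_iso ((IsPullback.of_hasPullback (π i) (π j)).map F).isoPullback
    (isQC_map adj hgen (fun L hL => (hP L hL).1) (hX _ _ (π i) (π j) (hPqc _ (hG i)) (hPqc _ (hG j))))

lemma isQCHom_map {S : Set (Tp K)} (hqc : ∀ G ∈ S, IsQC G) (hgen : GenBy K (fun G => G ∈ S))
    (hpb : ClosedUnderPullbacks S) {Q : Tp J → Prop} (hgen' : GenBy J Q) (hQ : ∀ G, Q G → IsQC G)
    (hFqc : ∀ X : Tp K, IsQC X → IsQC (F.obj X)) (hFqs : ∀ X : Tp K, IsQS X → IsQS (F.obj X))
    {X Y : Tp K} {v : X ⟶ Y} (hv : IsQCHom v) : IsQCHom (F.map v) := by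
  obtain ⟨ι, G, π, hG, hπ⟩ := hgen Y
  refine isQCHom_of_locally_on_target hgen' hQ (covers_map adj hπ) fun i =>
    isQCHom_of_isQC_of_isQS _ ?_ (hFqs _ (isQS_of_mem hqc hgen hpb (hG i)))
  exact isQC_of_iso ((IsPullback.of_hasPullback v (π i)).map F).isoPullback (hFqc _ (hv _ (π i) (hqc _ (hG i))))

end Functorial

/-- Morphisms out of the sheaf of a representable presheaf are sections. -/
noncomputable def epsEquiv (U : C) (X : Tp J) : (epsObj (J := J) U ⟶ X) ≃ X.obj.obj (op U) where
  toFun a := ap a (epsSec (𝟙 U))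
  invFun := epsLift
  left_inv := epsLift_ap
  right_inv s := (ap_epsLift s (𝟙 U)).trans (rs_id X s)

/-- The inverse image of a representable sheaf is the sheaf of the image object. -/
noncomputable def sheafPullbackEpsIso (G : C ⥤ D) [Functor.IsContinuous G J K] (U : C) :
    (G.sheafPullback (Type u) J K).obj (epsObj U) ≅ epsObj (G.obj U) :=
  Coyoneda.ext _ _
    (fun {Z} f => (epsEquiv (G.obj U) Z).symm
      (epsEquiv U _ ((G.sheafAdjunctionContinuous (Type u) J K).homEquiv _ _ f)))
    (fun {Z} f => ((G.sheafAdjunctionContinuous (Type u) J K).homEquiv _ _).symm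
      ((epsEquiv U ((G.sheafPushforwardContinuous (Type u) J K).obj Z)).symm (epsEquiv (G.obj U) Z f)))
    (fun f => by rw [Equiv.apply_symm_apply, Equiv.symm_apply_apply, Equiv.symm_apply_apply])
    (fun {Z} f => by rw [Equiv.apply_symm_apply, Equiv.apply_symm_apply, Equiv.symm_apply_apply])
    (fun {Z Z'} f g => by
      rw [← Adjunction.homEquiv_naturality_right_symm]
      congr 1
      apply (epsEquiv U ((G.sheafPushforwardContinuous (Type u) J K).obj Z')).injective
      rw [Equiv.apply_symm_apply]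
      change _ = ap g (epsEquiv U _ ((epsEquiv U ((G.sheafPushforwardContinuous (Type u) J K).obj Z)).symm _))
      rw [Equiv.apply_symm_apply]
      rfl)

end Groth.SitesTopoi.Topos
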