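import Mathlib.CategoryTheory.Sites.Canonical
import Mathlib.CategoryTheory.Limits.Shapes.IsTerminal

/-!
Objects covered by the empty sieve for the canonical topology.
-/

universe v u

open CategoryTheory CategoryTheory.Limits Opposite

namespace Groth.SitesTopoi.Topos

variable {C : Type u} [Category.{v} C]

lemma unique_hom_of_bot_mem {X : C} (h : (⊥ : Sieve X) ∈ Sheaf.canonicalTopology C X) (W : C) :
    ∃ f : X ⟶ W, ∀ g : X ⟶ W, g = f := by
  have hs := Sheaf.isSheaf_yoneda_obj W ⊥ h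
  refine ⟨hs.amalgamate (fun _ _ hg => hg.elim) (fun _ _ _ _ _ _ _ h₁ => h₁.elim), fun g => ?_⟩
  exact hs.isSeparatedFor.ext fun _ _ hk => hk.elim

lemma bot_mem_canonical_iff (X : C) :
    (⊥ : Sieve X) ∈ Sheaf.canonicalTopology C X ↔ ∀ (Y : C) (_ : Y ⟶ X) (W : C), ∃ f : Y ⟶ W, ∀ g : Y ⟶ W, g = f := by
  constructor
  · intro h Y f W
    exact unique_hom_of_bot_mem (Sieve.pullback_bot f ▸ (Sheaf.canonicalTopology C).pullback_stable f h) W
  · intro h
    refine Sheaf.mem_finestTopology_of_forall_isSheafFor ?_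
    rintro _ ⟨W, rfl⟩ Y f x -
    obtain ⟨t, ht⟩ := h Y f W
    refine ⟨t, fun Z g hg => ?_, fun t' _ => ht t'⟩
    rw [Sieve.pullback_bot] at hg
    exact hg.elim

end Groth.SitesTopoi.Topos
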