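import Groth.Agent.SitesTopoi.Topos.SheafifiedCofan
import Groth.Agent.SitesTopoi.Topos.CanonicalBot
import Mathlib.CategoryTheory.Limits.VanKampen
import Mathlib.CategoryTheory.Limits.Shapes.DisjointCoproduct

/-!
Disjoint universal coproducts of a small category and the canonical topology.
-/

universe u

open CategoryTheory CategoryTheory.Limits Opposite

namespace Groth.SitesTopoi.Topos

variable {C : Type u} [SmallCategory C]

local notation "Tc" => Sheaf.canonicalTopology C

lemma epsSec_canonical_inj {U X : C} {l l' : U ⟶ X} (h : epsSec (J := Tc) l = epsSec l') : l = l' := by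
  obtain ⟨S, hS, hS'⟩ := epsSec_eq h
  exact (Sheaf.isSheaf_yoneda_obj X S hS).isSeparatedFor.ext fun V g hg => hS' g hg

variable {ι : Type u} {X : C} {Y : ι → C} {s : ∀ i, Y i ⟶ X}

lemma mono_of_isDisjointCoverSite (h : IsDisjointCoverSite Tc s) (i : ι) : Mono (s i) :=
  ⟨fun l l' e => epsSec_canonical_inj (h.2.1 i _ l l' e)⟩

lemma ofArrows_pullback_mem (h : IsDisjointCoverSite Tc s) {Y' : C} {f : Y' ⟶ X} {P : ι → C}
    {p : ∀ i, P i ⟶ Y'} {q : ∀ i, P i ⟶ Y i} (sq : ∀ i, IsPullback (p i) (q i) f (s i)) :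
    Sieve.ofArrows P p ∈ Tc Y' := by
  refine (Tc).superset_covering ?_ ((Tc).pullback_stable f h.1)
  intro Z g hg
  obtain ⟨i, l, hl⟩ := (Sieve.mem_ofArrows_iff Y s _).1 hg
  exact (Sieve.mem_ofArrows_iff P p g).2 ⟨i, (sq i).lift g l hl, ((sq i).lift_fst _ _ _).symm⟩

lemma exists_desc_of_isDisjointCoverSite (h : IsDisjointCoverSite Tc s) {Y' : C} {f : Y' ⟶ X} {P : ι → C}
    {p : ∀ i, P i ⟶ Y'} {q : ∀ i, P i ⟶ Y i} (sq : ∀ i, IsPullback (p i) (q i) f (s i)) {W : C}
    (φ : ∀ i, P i ⟶ W) : ∃! d : Y' ⟶ W, ∀ i, p i ≫ d = φ i := by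
  have hsh : Presieve.IsSheafFor (yoneda.obj W) (Presieve.ofArrows P p) :=
    (Presieve.isSheafFor_iff_generate _).2 (Sheaf.isSheaf_yoneda_obj W _ (ofArrows_pullback_mem h sq))
  refine (Presieve.isSheafFor_arrows_iff _ _).1 hsh φ fun i j Z gi gj e => ?_
  change gi ≫ φ i = gj ≫ φ j
  have e' : (gi ≫ q i) ≫ s i = (gj ≫ q j) ≫ s j := by
    rw [Category.assoc, Category.assoc, ← (sq i).w, ← (sq j).w, reassoc_of% e]
  by_cases hij : i = j
  · subst hij
    have : Mono (s i) := mono_of_isDisjointCoverSite h i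
    rw [(sq i).hom_ext e ((cancel_mono (s i)).1 e')]
  · obtain ⟨t, ht⟩ := unique_hom_of_bot_mem (h.2.2 i j hij Z _ _ e') W
    rw [ht (gi ≫ φ i), ht (gj ≫ φ j)]

/-- The pullback of such a family is a coproduct. -/
noncomputable def isColimitPullbackOfIsDisjointCoverSite (h : IsDisjointCoverSite Tc s)
    {F : Discrete ι ⥤ C} (c : Cocone F) {f : c.pt ⟶ X} {q : ∀ i, F.obj ⟨i⟩ ⟶ Y i}
    (sq : ∀ i, IsPullback (c.ι.app ⟨i⟩) (q i) f (s i)) : IsColimit c where
  desc t := (exists_desc_of_isDisjointCoverSite h sq fun i => t.ι.app ⟨i⟩).choose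
  fac t j := (exists_desc_of_isDisjointCoverSite h sq fun i => t.ι.app ⟨i⟩).choose_spec.1 j.as
  uniq t m hm := (exists_desc_of_isDisjointCoverSite h sq fun i => t.ι.app ⟨i⟩).choose_spec.2 m fun i => hm ⟨i⟩

section

variable [∀ (i : ι) (Z : C) (g : Z ⟶ X), HasPullback (s i) g]

lemma isDisjointCoverSite_canonical_iff :
    IsDisjointCoverSite Tc s ↔
      Nonempty (IsColimit (Cofan.mk X s)) ∧ CoproductDisjoint Y ∧ IsUniversalColimit (Cofan.mk X s) := by
  classical
  constructor
  · intro h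
    let hc : IsColimit (Cofan.mk X s) :=
      isColimitPullbackOfIsDisjointCoverSite h (f := 𝟙 X) (Cofan.mk X s) (q := fun i => 𝟙 (Y i))
        fun i => show IsPullback (s i) (𝟙 (Y i)) (𝟙 X) (s i) from IsPullback.of_vert_isIso ⟨by simp⟩
    have : ∀ i, Mono ((Cofan.mk X s).inj i) := mono_of_isDisjointCoverSite h
    refine ⟨⟨hc⟩, .of_cofan hc (fun {i j} _ => pullback.cone (s i) (s j))
      (fun {i j} _ => pullback.isLimit (s i) (s j)) (fun {i j} hij => ?_), fun F' c' α f _ _ sq =>
      ⟨isColimitPullbackOfIsDisjointCoverSite h c' fun i => sq ⟨i⟩⟩⟩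
    have hb := h.2.2 i j hij (pullback (s i) (s j)) (pullback.fst _ _) (pullback.snd _ _) pullback.condition
    exact IsInitial.ofUniqueHom (fun W => (unique_hom_of_bot_mem hb W).choose)
      fun W g => (unique_hom_of_bot_mem hb W).choose_spec g
  · rintro ⟨⟨hc⟩, hd, hu⟩
    have hcol : ∀ {Y' : C} (f : Y' ⟶ X),
        IsColimit (Cofan.mk Y' fun i => pullback.snd (s i) f) := fun {Y'} f =>
      (hu (Cofan.mk Y' fun i => pullback.snd (s i) f) (Discrete.natTrans fun i => pullback.fst (s i.as) f) f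
        (by ext ⟨i⟩; exact pullback.condition) (NatTrans.Equifibered.of_discrete _)
        fun ⟨i⟩ => (IsPullback.of_hasPullback (s i) f).flip).some
    refine ⟨Sheaf.mem_finestTopology_of_forall_isSheafFor ?_, fun i Z l l' e => ?_, fun i j hij Z l l' e => ?_⟩
    · rintro _ ⟨W, rfl⟩ Y' f
      have e : (Sieve.ofArrows Y s).pullback f = Sieve.ofArrows _ (fun i => pullback.snd (s i) f) := by
        ext Z g
        simp only [Sieve.pullback_apply, Sieve.mem_ofArrows_iff]
        exact ⟨fun ⟨i, l, hl⟩ => ⟨i, pullback.lift l g hl.symm, (pullback.lift_snd _ _ _).symm⟩,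
          fun ⟨i, l, hl⟩ => ⟨i, l ≫ pullback.fst (s i) f, by rw [hl, Category.assoc, Category.assoc, pullback.condition]⟩⟩
      rw [e]
      refine (Presieve.isSheafFor_iff_generate _).1 ((Presieve.isSheafFor_arrows_iff _ _).2 fun x _ => ?_)
      exact ⟨Cofan.IsColimit.desc (hcol f) x, fun i => Cofan.IsColimit.fac (hcol f) x i,
        fun t ht => Cofan.IsColimit.hom_ext (hcol f) _ _ fun i => (ht i).trans (Cofan.IsColimit.fac (hcol f) x i).symm⟩
    · have : Mono (s i) := CoproductDisjoint.mono_inj hc i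
      rw [(cancel_mono (s i)).1 e]
    · let iP : IsInitial (pullback (s i) (s j)) :=
        IsInitial.ofCoproductDisjointOfIsColimit hij hc
      refine (bot_mem_canonical_iff Z).2 fun V k W => ⟨(k ≫ pullback.lift l l' e) ≫ iP.to W, fun t => ?_⟩
      let g : V ⟶ X := k ≫ l ≫ s i
      let a : V ⟶ pullback (s i) g := pullback.lift (k ≫ l) (𝟙 V) (by simp [g])
      let b : V ⟶ pullback (s j) g := pullback.lift (k ≫ l') (𝟙 V) (by simp [g, e])
      have ha : a ≫ pullback.snd (s i) g = 𝟙 V := pullback.lift_snd _ _ _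
      have hb : b ≫ pullback.snd (s j) g = 𝟙 V := pullback.lift_snd _ _ _
      let φ : ∀ m, pullback (s m) g ⟶ W := fun m =>
        pullback.snd (s m) g ≫ if m = i then t else (k ≫ pullback.lift l l' e) ≫ iP.to W
      let d : V ⟶ W := Cofan.IsColimit.desc (hcol g) φ
      have hd' : ∀ m, pullback.snd (s m) g ≫ d = φ m := fun m => Cofan.IsColimit.fac (hcol g) φ m
      have h1 : d = t := by
        rw [← Category.id_comp d, ← ha, Category.assoc, hd', ← Category.assoc, ha, Category.id_comp, if_pos rfl]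
      have h2 : d = (k ≫ pullback.lift l l' e) ≫ iP.to W := by
        rw [← Category.id_comp d, ← hb, Category.assoc, hd', ← Category.assoc, hb, Category.id_comp,
          if_neg (Ne.symm hij)]
      exact h1.symm.trans h2

end

end Groth.SitesTopoi.Topos
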