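import Groth.Agent.SitesTopoi.Topos.GiraudTheorem
import Groth.Agent.S3081
import Mathlib.CategoryTheory.Functor.ReflectsIso.Jointly
import Mathlib.CategoryTheory.Limits.Shapes.KernelPair
import Mathlib.CategoryTheory.Limits.Preserves.Shapes.Equalizers
import Mathlib.CategoryTheory.Limits.Preserves.Shapes.Pullbacks
import Mathlib.CategoryTheory.Limits.Preserves.Finite

/-!
A category with a jointly conservative family of exact functors to topoi and a small detecting family is a topos.
-/

universe w u v

open CategoryTheory CategoryTheory.Limits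

namespace Groth.SitesTopoi.Topos

/-- A functor to a topos of sheaves preserving finite limits and small colimits. -/
structure ToposFunctor (E : Type v) [Category.{u} E] where
  {C : Type u}
  [cat : SmallCategory C]
  {J : GrothendieckTopology C}
  U : E ⥤ Sheaf J (Type u)
  [lex : PreservesFiniteLimits U]
  [colim : PreservesColimitsOfSize.{u, u} U]

attribute [instance] ToposFunctor.cat ToposFunctor.lex ToposFunctor.colim

variable {E : Type v} [Category.{u} E] [HasFiniteLimits E]

lemma isEquivRel_map {E' : Type w} [Category.{u} E'] [HasFiniteLimits E'] (U : E ⥤ E') [PreservesFiniteLimits U]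
    {R A : E} {p₁ p₂ : R ⟶ A} (h : SGA4.IsEquivRel p₁ p₂) : SGA4.IsEquivRel (U.map p₁) (U.map p₂) := by
  have : Mono (prod.lift p₁ p₂) := ⟨fun a b e => (h _).1 (Prod.ext
    (show a ≫ p₁ = b ≫ p₁ by rw [← prod.lift_fst p₁ p₂, ← Category.assoc, e, Category.assoc])
    (show a ≫ p₂ = b ≫ p₂ by rw [← prod.lift_snd p₁ p₂, ← Category.assoc, e, Category.assoc]))⟩
  obtain ⟨s, hs₁, hs₂⟩ := (h A).2.refl (𝟙 A)
  obtain ⟨σ, hσ₁, hσ₂⟩ := (h R).2.symm ⟨𝟙 R, Category.id_comp p₁, Category.id_comp p₂⟩
  obtain ⟨t, ht₁, ht₂⟩ := (h (pullback p₂ p₁)).2.trans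
    ⟨pullback.fst p₂ p₁, rfl, pullback.condition⟩ ⟨pullback.snd p₂ p₁, rfl, rfl⟩
  intro T
  refine ⟨fun f g e => ?_, fun a => ⟨a ≫ U.map s, ?_, ?_⟩, fun {a b} ⟨f, h₁, h₂⟩ => ⟨f ≫ U.map σ, ?_, ?_⟩,
    fun {a b c} ⟨f, h₁, h₂⟩ ⟨g, h₃, h₄⟩ => ?_⟩
  · obtain ⟨e₁, e₂⟩ := Prod.ext_iff.1 e
    refine (cancel_mono (U.map (prod.lift p₁ p₂) ≫ (PreservesLimitPair.iso U A A).hom)).1 ?_
    refine Limits.prod.hom_ext ?_ ?_
    · simp only [Category.assoc, PreservesLimitPair.iso_hom, prodComparison_fst, ← U.map_comp, prod.lift_fst]
      exact e₁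
    · simp only [Category.assoc, PreservesLimitPair.iso_hom, prodComparison_snd, ← U.map_comp, prod.lift_snd]
      exact e₂
  · rw [Category.assoc, ← U.map_comp, hs₁, U.map_id, Category.comp_id]
  · rw [Category.assoc, ← U.map_comp, hs₂, U.map_id, Category.comp_id]
  · rw [Category.assoc, ← U.map_comp, hσ₁, h₂]
  · rw [Category.assoc, ← U.map_comp, hσ₂, h₁]
  · have sq := (IsPullback.of_hasPullback p₂ p₁).map U
    refine ⟨sq.lift f g (by rw [h₂, h₃]) ≫ U.map t, ?_, ?_⟩
    · rw [Category.assoc, ← U.map_comp, ht₁, U.map_comp, sq.lift_fst_assoc, h₁]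
    · rw [Category.assoc, ← U.map_comp, ht₂, U.map_comp, sq.lift_snd_assoc, h₄]

/-- Colimits in a category of sheaves of a small family are disjoint and universal. -/
lemma cofan_disjoint_universal {C : Type u} [SmallCategory C] {J : GrothendieckTopology C} {ι : Type u}
    {F : ι → Sheaf J (Type u)} {c : Cofan F} (hc : IsColimit c) :
    CoproductDisjoint F ∧ IsUniversalColimit c := by
  obtain ⟨c', hc', hd, hu⟩ := (Groth.Agent.S3081.result J).1 ι F
  exact ⟨hd, hu.of_iso (hc'.uniqueUpToIso hc)⟩

theorem isTopos_of_toposFunctors [HasColimitsOfSize.{u, u} E] {K : Type w} (U : K → ToposFunctor E)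
    (hU : ∀ {X Y : E} (f : X ⟶ Y), (∀ k, IsIso ((U k).U.map f)) → IsIso f)
    (hd : ∃ P : ObjectProperty E, ObjectProperty.Small.{u} P ∧ P.IsDetecting) : SGA4.IsTopos.{v, u} E := by
  have hJ : JointlyReflectIsomorphisms (fun k => (U k).U) := ⟨fun f _ => hU f inferInstance⟩
  have : HasColimitsOfSize.{0, 0} E := hasColimitsOfSizeShrink.{0, 0, u, u} E
  have : ∀ k, PreservesColimitsOfSize.{0, 0} (U k).U := fun k => preservesColimitsOfSize_shrink.{0, u, 0, u} (U k).U
  refine isTopos_of_giraud ?_ ?_ hd
  · intro ι X
    let c : Cofan X := Cofan.mk (∐ X) (Sigma.ι X)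
    have hc : IsColimit c := coproductIsCoproduct X
    have key : ∀ k, CoproductDisjoint (fun i => (U k).U.obj (X i)) ∧
        IsUniversalColimit (Cofan.mk ((U k).U.obj (∐ X)) fun i => (U k).U.map (Sigma.ι X i)) := fun k =>
      cofan_disjoint_universal (isColimitCofanMkObjOfIsColimit (U k).U X _ hc)
    refine ⟨c, hc, ?_, ?_⟩
    · have : ∀ i, Mono (c.inj i) := fun i => by
        have : ∀ k, Mono ((U k).U.map (c.inj i)) := fun k =>
          haveI := (key k).1
          Mono.of_coproductDisjoint (isColimitCofanMkObjOfIsColimit (U k).U X _ hc) i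
        exact hJ.mono (c.inj i)
      refine .of_cofan hc (fun {i j} _ => pullback.cone (c.inj i) (c.inj j))
        (fun {i j} _ => pullback.isLimit _ _) fun {i j} hij => ?_
      have hz : IsIso (initial.to (pullback (c.inj i) (c.inj j))) := by
        refine hU _ fun k => ?_
        have := (key k).1
        exact isIso_of_isInitial (IsInitial.isInitialObj (U k).U _ initialIsInitial)
          (IsInitial.ofCoproductDisjointOfIsColimitOfIsLimit hij
            (isColimitCofanMkObjOfIsColimit (U k).U X _ hc)
            ((IsPullback.of_hasPullback (c.inj i) (c.inj j)).map (U k).U).isLimit) _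
      exact initialIsInitial.ofIso (@asIso _ _ _ _ _ hz)
    · intro F' c' α f h hα H
      let d := colimit.desc F' c'
      have : IsIso d := by
        refine hU d fun k => ?_
        let s' : Cocone (F' ⋙ (U k).U) := Cocone.mk ((U k).U.obj c'.pt)
            (Discrete.natTrans fun i => (U k).U.map (c'.ι.app i) :
              F' ⋙ (U k).U ⟶ (Functor.const (Discrete ι)).obj ((U k).U.obj c'.pt))
        obtain ⟨hk⟩ := (key k).2 s'
          (Discrete.natTrans fun i => (U k).U.map (α.app i)) ((U k).U.map f)
          (NatTrans.ext <| funext fun ⟨i⟩ => by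
            change (U k).U.map _ ≫ (U k).U.map _ = (U k).U.map _ ≫ (U k).U.map _
            rw [← (U k).U.map_comp, ← (U k).U.map_comp]
            exact congrArg (U k).U.map (NatTrans.congr_app h ⟨i⟩))
          (NatTrans.Equifibered.of_discrete _) fun i => (H i).map (U k).U
        let hF := isColimitOfPreserves (U k).U (colimit.isColimit F')
        have e : (U k).U.map d = hF.desc s' := hF.uniq s' _ fun j => by
          change (U k).U.map _ ≫ (U k).U.map d = (U k).U.map (c'.ι.app j)
          rw [← (U k).U.map_comp]
          exact congrArg (U k).U.map (colimit.ι_desc c' j)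
        rw [e]
        exact (hF.coconePointUniqueUpToIso hk).isIso_hom
      have : IsIso ((colimit.isColimit F').desc c') := ‹IsIso d›
      exact ⟨IsColimit.ofPointIso (colimit.isColimit F')⟩
  · intro R A p₁ p₂ hR
    let π := coequalizer.π p₁ p₂
    have key : ∀ k, IsPullback ((U k).U.map p₁) ((U k).U.map p₂) ((U k).U.map π) ((U k).U.map π) ∧
        ∀ (B' : Sheaf (U k).J (Type u)) (g : B' ⟶ (U k).U.obj (coequalizer p₁ p₂)),
          EffectiveEpi (pullback.snd ((U k).U.map π) g) := by
      intro k
      have hk := isEquivRel_map (U k).U hR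
      let e := PreservesCoequalizer.iso (U k).U p₁ p₂
      have he : coequalizer.π _ _ ≫ e.hom = (U k).U.map π := ι_comp_coequalizerComparison p₁ p₂ (U k).U
      refine ⟨?_, fun B' g => ?_⟩
      · exact (isPullback_coequalizer_of_equivRel (fun T => (hk T).1) (fun T => (hk T).2)).of_iso
          (Iso.refl _) (Iso.refl _) (Iso.refl _) e (by simp) (by simp) (by simp [← he]) (by simp [← he])
      · refine effectiveEpi_of_covers _ ?_
        have hcov := covers_snd_of_coequalizer ((U k).U.map p₁) ((U k).U.map p₂) (g ≫ e.inv)
        have sq : IsPullback (pullback.fst ((U k).U.map π) g) (pullback.snd ((U k).U.map π) g)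
            (coequalizer.π ((U k).U.map p₁) ((U k).U.map p₂)) (g ≫ e.inv) :=
          (IsPullback.of_hasPullback ((U k).U.map π) g).of_iso (Iso.refl _) (Iso.refl _) (Iso.refl _) e.symm
            (by simp) (by simp) (by simp [← he]) (by simp)
        have := (covers_single_iff _).1 hcov
        refine (covers_single_iff _).2 ?_
        rw [← sq.isoPullback_hom_snd]
        infer_instance
    refine ⟨coequalizer p₁ p₂, π, ?_, ?_, fun B' g => ?_⟩
    · refine ⟨⟨coequalizer.condition p₁ p₂⟩, ⟨?_⟩⟩
      let m := pullback.lift p₁ p₂ (coequalizer.condition p₁ p₂)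
      have : IsIso m := by
        refine hU m fun k => ?_
        have e : (U k).U.map m =
            ((key k).1.isoIsPullback _ _ ((IsPullback.of_hasPullback π π).map (U k).U)).hom :=
          ((IsPullback.of_hasPullback π π).map (U k).U).hom_ext
            (by rw [IsPullback.isoIsPullback_hom_fst, ← Functor.map_comp, pullback.lift_fst])
            (by rw [IsPullback.isoIsPullback_hom_snd, ← Functor.map_comp, pullback.lift_snd])
        rw [e]
        infer_instance
      exact (IsPullback.of_iso_pullback ⟨coequalizer.condition p₁ p₂⟩ (asIso m) (pullback.lift_fst _ _ _)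
        (pullback.lift_snd _ _ _)).isLimit
    · obtain ⟨s, hs₁, hs₂⟩ := (hR A).2.refl (𝟙 A)
      have heq : ∀ c : PushoutCocone p₁ p₂, c.inl = c.inr := fun c => by
        have := congrArg (s ≫ ·) c.condition
        simpa only [← Category.assoc, hs₁, hs₂, Category.id_comp] using this
      refine ⟨⟨coequalizer.condition p₁ p₂⟩, ⟨PushoutCocone.IsColimit.mk _
        (fun c => coequalizer.desc c.inl (c.condition.trans (by rw [heq c])))
        (fun c => coequalizer.π_desc _ _) (fun c => (coequalizer.π_desc _ _).trans (heq c))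
        fun c m h₁ _ => coequalizer.hom_ext (h₁.trans (coequalizer.π_desc _ _).symm)⟩⟩
    · let q := pullback.snd π g
      let d := coequalizer.desc (f := pullback.fst q q) (g := pullback.snd q q) q pullback.condition
      have : IsIso d := by
        refine hU d fun k => ?_
        have h₁ := (key k).2 _ ((U k).U.map g)
        have sq := (IsPullback.of_hasPullback π g).map (U k).U
        have : EffectiveEpi ((U k).U.map q) := by
          have : (U k).U.map q = sq.isoPullback.hom ≫ pullback.snd _ _ := sq.isoPullback_hom_snd.symm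
          rw [this]
          exact effectiveEpi_of_covers _ ((covers_single_iff _).2 (epi_comp _ _))
        let hk : IsKernelPair ((U k).U.map q) ((U k).U.map (pullback.fst q q)) ((U k).U.map (pullback.snd q q)) :=
          (IsPullback.of_hasPullback q q).map (U k).U
        have hcol := hk.toCoequalizer'
        let hF := isColimitCoforkMapOfIsColimit (U k).U (coequalizer.condition _ _)
          (coequalizerIsCoequalizer (pullback.fst q q) (pullback.snd q q))
        have e : (U k).U.map d = (hF.coconePointUniqueUpToIso hcol).hom :=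
          Cofork.IsColimit.hom_ext hF (by
            rw [show (Cofork.π _) ≫ (hF.coconePointUniqueUpToIso hcol).hom = _ from
              hF.comp_coconePointUniqueUpToIso_hom hcol WalkingParallelPair.one]
            exact ((U k).U.map_comp _ _).symm.trans (congrArg (U k).U.map (coequalizer.π_desc _ _)))
        rw [e]
        infer_instance
      have : IsRegularEpi q := ⟨⟨{
        W := pullback q q
        left := pullback.fst q q
        right := pullback.snd q q
        w := pullback.condition
        isColimit := (coequalizerIsCoequalizer _ _).ofIsoColimit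
          (Cofork.ext (asIso d) (coequalizer.π_desc _ _)) }⟩⟩
      infer_instance

end Groth.SitesTopoi.Topos
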