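import Groth.Prelude.Def_SGA4a

/-!
Covering families in a category satisfying Giraud's axioms.
-/

universe w w' u v

open CategoryTheory CategoryTheory.Limits

namespace Groth.SitesTopoi.Topos

variable {E : Type v} [Category.{u} E]

/-- A family does not factor through a proper subobject of its target. -/
def IsCov {ι : Type w} {F : ι → E} {X : E} (g : ∀ i, F i ⟶ X) : Prop :=
  ∀ ⦃M : E⦄ (m : M ⟶ X), Mono m → (∀ i, ∃ k, k ≫ m = g i) → IsIso m

namespace IsCov

variable {ι : Type w} {F : ι → E} {X : E} {g : ∀ i, F i ⟶ X}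

lemma factor (h : IsCov g) {M : E} (m : M ⟶ X) [Mono m] (hm : ∀ i, ∃ k, k ≫ m = g i) {T : E} (t : T ⟶ X) :
    ∃ k, k ≫ m = t :=
  have := h m inferInstance hm
  ⟨t ≫ inv m, by rw [Category.assoc, IsIso.inv_hom_id, Category.comp_id]⟩

lemma refine' (h : IsCov g) {κ : Type w'} {F' : κ → E} {g' : ∀ j, F' j ⟶ X}
    (hr : ∀ i, ∃ (j : κ) (k : F i ⟶ F' j), k ≫ g' j = g i) : IsCov g' := fun M m hm hf =>
  h m hm fun i => by
    obtain ⟨j, k, e⟩ := hr i
    obtain ⟨k', e'⟩ := hf j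
    exact ⟨k ≫ k', by rw [Category.assoc, e', e]⟩

variable [HasFiniteLimits E]

lemma comp (h : IsCov g) {κ : ι → Type w'} {H : ∀ i, κ i → E} {k : ∀ i j, H i j ⟶ F i}
    (hk : ∀ i, IsCov (k i)) : IsCov (fun p : Σ i, κ i => k p.1 p.2 ≫ g p.1) := fun M m _ hf =>
  h m inferInstance fun i => by
    have := hk i (pullback.fst (g i) m) inferInstance fun j => by
      obtain ⟨l, hl⟩ := hf ⟨i, j⟩
      exact ⟨pullback.lift (k i j) l hl.symm, pullback.lift_fst _ _ _⟩
    exact ⟨inv (pullback.fst (g i) m) ≫ pullback.snd _ _, by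
      rw [Category.assoc, ← pullback.condition, IsIso.inv_hom_id_assoc]⟩

lemma ext (h : IsCov g) {W : E} {a b : X ⟶ W} (hab : ∀ i, g i ≫ a = g i ≫ b) : a = b := by
  obtain ⟨k, hk⟩ := h.factor (equalizer.ι a b)
    (fun i => ⟨equalizer.lift (g i) (hab i), equalizer.lift_ι _ _⟩) (𝟙 X)
  rw [← Category.id_comp a, ← Category.id_comp b, ← hk, Category.assoc, Category.assoc, equalizer.condition]

end IsCov

lemma isCov_of_isColimit {ι : Type w} {F : ι → E} (c : Cofan F) (hc : IsColimit c) : IsCov c.inj :=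
  fun _ m _ hf => by
    choose k hk using hf
    have : IsSplitEpi m := ⟨⟨⟨Cofan.IsColimit.desc hc k,
      Cofan.IsColimit.hom_ext hc _ _ fun i => by simp [hk]⟩⟩⟩
    exact isIso_of_mono_of_isSplitEpi m

lemma isCov_of_effectiveEpi {A B : E} (p : A ⟶ B) [EffectiveEpi p] : IsCov (fun _ : PUnit.{w + 1} => p) :=
  fun _ m _ hf => by
    obtain ⟨k, hk⟩ := hf PUnit.unit
    have : IsSplitEpi m := ⟨⟨⟨EffectiveEpi.desc p k fun g₁ g₂ e => by
        rw [← cancel_mono m, Category.assoc, Category.assoc, hk, e],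
      by rw [← cancel_epi p, EffectiveEpi.fac_assoc, hk, Category.comp_id]⟩⟩⟩
    exact isIso_of_mono_of_isSplitEpi m

variable [HasFiniteLimits E]

/-- Pullback of a coproduct along a map into it. -/
lemma exists_pullback_cofan (hb : SGA4.HasDisjointUniversalCoproducts.{v, u} E) {ι : Type u} (F : ι → E) :
    ∃ c : Cofan F, Nonempty (IsColimit c) ∧ CoproductDisjoint F ∧
      ∀ {T : E} (t : T ⟶ c.pt), IsCov (fun i => pullback.fst t (c.inj i)) := by
  obtain ⟨c, hc, hd, hu⟩ := hb ι F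
  refine ⟨c, ⟨hc⟩, hd, fun {T} t => ?_⟩
  obtain ⟨hc'⟩ := hu (Cofan.mk T fun i => pullback.fst t (c.inj i))
    (Discrete.natTrans fun i => pullback.snd t (c.inj i.as)) t
    (by ext ⟨i⟩; exact pullback.condition.symm)
    (NatTrans.Equifibered.of_discrete _) fun ⟨i⟩ => IsPullback.of_hasPullback _ _
  exact isCov_of_isColimit _ hc'

lemma isCov_empty_of_hom (hb : SGA4.HasDisjointUniversalCoproducts.{v, u} E) {Z : E} (hZ : IsInitial Z)
    {T : E} (t : T ⟶ Z) : IsCov (fun i : PEmpty.{u + 1} => (i.elim : T ⟶ T)) := by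
  obtain ⟨c, -, -, hu⟩ := exists_pullback_cofan hb (fun i : PEmpty.{u + 1} => (i.elim : E))
  exact (hu (t ≫ hZ.to c.pt)).refine' fun i => i.elim

lemma isCov_empty_of_disjoint (hb : SGA4.HasDisjointUniversalCoproducts.{v, u} E) {ι : Type u} {F : ι → E}
    {c : Cofan F} (hc : IsColimit c) (hd : CoproductDisjoint F) {i j : ι} (hij : i ≠ j)
    {T : E} {a : T ⟶ F i} {b : T ⟶ F j} (h : a ≫ c.inj i = b ≫ c.inj j) :
    IsCov (fun i : PEmpty.{u + 1} => (i.elim : T ⟶ T)) :=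
  isCov_empty_of_hom hb
    (IsInitial.ofCoproductDisjointOfIsColimitOfIsLimit hij hc (pullback.isLimit (c.inj i) (c.inj j)))
    (pullback.lift a b h)

/-- Equivalence relations are effective, with universally effective quotient maps. -/
abbrev EquivRelEffective (E : Type v) [Category.{u} E] [HasFiniteLimits E] : Prop :=
  ∀ (R A : E) (p₁ p₂ : R ⟶ A), SGA4.IsEquivRel p₁ p₂ → SGA4.IsEffectiveUniversalEquivRel p₁ p₂

lemma exists_image (hc : EquivRelEffective E) {A B : E} (f : A ⟶ B) :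
    ∃ (I : E) (π : A ⟶ I) (m : I ⟶ B), π ≫ m = f ∧ Mono m ∧
      (∀ {T : E} (t : T ⟶ I), IsCov (fun _ : PUnit.{u + 1} => pullback.snd π t)) ∧
      ∀ {W : E} (h : A ⟶ W), (∀ {T : E} (a b : T ⟶ A), a ≫ f = b ≫ f → a ≫ h = b ≫ h) → ∃ ψ, π ≫ ψ = h := by
  have hR : SGA4.IsEquivRel (pullback.fst f f) (pullback.snd f f) := fun T => by
    refine ⟨fun a b e => pullback.hom_ext (Prod.ext_iff.1 e).1 (Prod.ext_iff.1 e).2, ?_⟩
    have e : (fun a b : T ⟶ A => ∃ k : T ⟶ pullback f f, k ≫ pullback.fst f f = a ∧ k ≫ pullback.snd f f = b) =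
        fun a b => a ≫ f = b ≫ f := by
      ext a b
      exact ⟨fun ⟨k, h₁, h₂⟩ => by rw [← h₁, ← h₂, Category.assoc, Category.assoc, pullback.condition],
        fun h => ⟨pullback.lift a b h, pullback.lift_fst _ _ _, pullback.lift_snd _ _ _⟩⟩
    rw [e]
    exact ⟨fun _ => rfl, Eq.symm, Eq.trans⟩
  obtain ⟨I, π, hpb, hpo, he⟩ := hc _ _ _ _ hR
  have hcov : ∀ {T : E} (t : T ⟶ I), IsCov (fun _ : PUnit.{u + 1} => pullback.snd π t) := fun t =>
    have := he _ t
    isCov_of_effectiveEpi _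
  refine ⟨I, π, hpo.desc f f pullback.condition, hpo.inl_desc _ _ _, ⟨fun {T} a b e => ?_⟩, hcov,
    fun {W} h hh => ⟨hpo.desc h h (hh _ _ pullback.condition), hpo.inl_desc _ _ _⟩⟩
  refine (hcov a).ext fun _ => (hcov (pullback.snd π a ≫ b)).ext fun _ => ?_
  have h₁ : (pullback.snd π (pullback.snd π a ≫ b) ≫ pullback.fst π a) ≫ f =
      pullback.fst π (pullback.snd π a ≫ b) ≫ f := by
    rw [← hpo.inl_desc f f pullback.condition]
    simp only [Category.assoc]
    rw [pullback.condition_assoc, e, pullback.condition_assoc, Category.assoc]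
  have h₂ := congrArg (pullback.lift _ _ h₁ ≫ ·) hpb.w
  simp only [pullback.lift_fst_assoc, pullback.lift_snd_assoc] at h₂
  rw [← pullback.condition, ← pullback.condition, ← h₂, Category.assoc]

variable (hb : SGA4.HasDisjointUniversalCoproducts.{v, u} E) (hc : EquivRelEffective E)
include hb hc

lemma IsCov.pullback {ι : Type u} {F : ι → E} {X : E} {g : ∀ i, F i ⟶ X} (h : IsCov g) {Y : E} (f : Y ⟶ X) :
    IsCov (fun i => pullback.fst f (g i)) := by
  obtain ⟨c, ⟨hcc⟩, -, hu⟩ := exists_pullback_cofan hb F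
  obtain ⟨I, π, m, hπm, _, hcov, -⟩ := exists_image hc (Cofan.IsColimit.desc hcc g)
  have := h m inferInstance fun i => ⟨c.inj i ≫ π, by rw [Category.assoc, hπm, Cofan.IsColimit.fac hcc]⟩
  refine ((hcov (f ≫ inv m)).comp fun _ => hu (pullback.fst π (f ≫ inv m))).refine' fun ⟨⟨⟩, i⟩ => ?_
  refine ⟨i, pullback.lift (pullback.fst _ _ ≫ pullback.snd π (f ≫ inv m))
    (pullback.snd (pullback.fst π (f ≫ inv m)) (c.inj i)) ?_, pullback.lift_fst _ _ _⟩
  rw [← Cofan.IsColimit.fac hcc g i, ← hπm, ← pullback.condition_assoc (f := pullback.fst π (f ≫ inv m)),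
    pullback.condition_assoc (f := π)]
  simp

lemma IsCov.glue {ι : Type u} {F : ι → E} {X : E} {g : ∀ i, F i ⟶ X} (h : IsCov g) {W : E}
    (x : ∀ i, F i ⟶ W)
    (hx : ∀ (i j : ι) (T : E) (a : T ⟶ F i) (b : T ⟶ F j), a ≫ g i = b ≫ g j → a ≫ x i = b ≫ x j) :
    ∃ ψ : X ⟶ W, ∀ i, g i ≫ ψ = x i := by
  obtain ⟨c, ⟨hcc⟩, -, hu⟩ := exists_pullback_cofan hb F
  obtain ⟨I, π, m, hπm, _, -, hdesc⟩ := exists_image hc (Cofan.IsColimit.desc hcc g)
  have := h m inferInstance fun i => ⟨c.inj i ≫ π, by rw [Category.assoc, hπm, Cofan.IsColimit.fac hcc]⟩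
  obtain ⟨ψ, hψ⟩ := hdesc (Cofan.IsColimit.desc hcc x) fun a b e =>
    (hu a).ext fun i => (hu (pullback.fst a (c.inj i) ≫ b)).ext fun j => by
      have e₁ := pullback.condition (f := a) (g := c.inj i)
      have e₂ := pullback.condition (f := pullback.fst a (c.inj i) ≫ b) (g := c.inj j)
      rw [reassoc_of% e₁, reassoc_of% e₂, Cofan.IsColimit.fac, Cofan.IsColimit.fac, ← Category.assoc]
      refine hx i j _ _ _ ?_
      have e₃ := congrArg (fun t => pullback.fst (pullback.fst a (c.inj i) ≫ b) (c.inj j) ≫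
        pullback.fst a (c.inj i) ≫ t) e
      simp only [reassoc_of% e₁, reassoc_of% e₂, Cofan.IsColimit.fac] at e₃
      rw [Category.assoc]
      exact e₃
  refine ⟨inv m ≫ ψ, fun i => ?_⟩
  rw [← Cofan.IsColimit.fac hcc g i, ← hπm]
  simp [hψ]

omit hb hc in
lemma isCov_gen {I : Type u} {Gen : I → E}
    (hdet : ∀ ⦃X Y : E⦄ (f : X ⟶ Y), (∀ (i : I) (h : Gen i ⟶ Y), ∃! h' : Gen i ⟶ X, h' ≫ f = h) → IsIso f)
    (X : E) : IsCov (fun p : Σ i, (Gen i ⟶ X) => p.2) := fun M m _ hf => hdet m fun i h => by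
  obtain ⟨k, hk⟩ := hf ⟨i, h⟩
  exact ⟨k, hk, fun k' hk' => (cancel_mono m).1 (hk'.trans hk.symm)⟩

end Groth.SitesTopoi.Topos
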